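import Cfsg.Agent.Lib.Turull.Out

/-!
# The main lemma: the fixed elements of the previous level are seen
-/

set_option autoImplicit false
set_option linter.style.haveILetI false

namespace CfsgLib.Turull

open Module (End)
open scoped commutatorElement

variable {K W H : Type*} [Field K] [AddCommGroup W] [Module K W] [Group H] [Finite H]
  {ρ : H →* End K W} {s : H} {r : ℕ} {G0 : Subgroup H}

variable {T Phi : Subgroup H} [T.Normal] [Phi.Normal] {p : ℕ} {S : Set W}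

namespace Lev

variable (h : Lev ρ s r G0 T Phi p S) [IsAlgClosed K] [FiniteDimensional K W]
include h

/-- The group of fixed elements fixes every fixed component. -/
theorem conjChar_eq_of_component (hfpf : ∀ x ∈ T, s * x = x * s → x ∈ Phi) {b : H}
    (hsb : s * b = b * s) (hfix : Fixes ρ s r S b) {ζ : Phi →* K} (hζ : conjChar s ζ = ζ) {w : W}
    (hw : ρ s w = w) (hPw : proj ρ Phi ζ w ≠ 0) : conjChar b ζ = ζ := by
  obtain ⟨v, hv, hvs, hv0⟩ := h.exists_moved_component hfpf hζ hw hPw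
  have hbη : conjChar s (conjChar b ζ) = conjChar b ζ := by rw [← conjChar_mul, hsb, conjChar_mul, hζ]
  refine fixed_char_ext h.ctx (h.phi_le.trans h.le) hbη hζ fun x hxs => ?_
  have hcv : ρ s (ρ (x : H) v) ≠ ρ (x : H) v := fun e => hvs (by
    rw [← rho_mul_apply, hxs, rho_mul_apply] at e
    have := congrArg (ρ (x : H)⁻¹) e
    rwa [rho_inv_apply, rho_inv_apply] at this)
  set A := avg ρ s r v with hA
  have h1 : ρ b A = A := hfix v hv hvs
  have h2 : ρ b (ρ (x : H) A) = ρ (x : H) A := by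
    rw [hA, rho_avg_comm hxs]
    exact hfix _ (h.stable _ v hv) hcv
  have hbinv : ρ (b⁻¹ * x * b) A = ρ (x : H) A := by
    rw [rho_mul_apply, rho_mul_apply, h1]
    conv_lhs => rw [← h2]
    rw [rho_inv_apply]
  have h3 := congrArg (proj ρ Phi ζ) hbinv
  have hmem : b⁻¹ * (x : H) * b ∈ Phi := (inferInstance : Phi.Normal).conj_mem' _ x.2 b
  rw [proj_rho_of_comm h.phi_comm ζ hmem, proj_rho_of_comm h.phi_comm ζ x.2, proj_mem_eig ζ _ ⟨_, hmem⟩,
    proj_mem_eig ζ _ x] at h3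
  rw [conjChar_apply]
  exact smul_left_injective K hv0 h3

/-- Twists by an element fixing a component pointwise act trivially on it. -/
theorem rho_twist_of_fixed {ζ : Phi →* K} {b t : H} (ht : t ∈ T)
    (hb : ∀ w ∈ eig ρ Phi ζ, ρ b w = w) {w : W} (hw : w ∈ eig ρ Phi ζ) :
    ρ (t⁻¹ * (b * t * b⁻¹)) w = w := by
  have hb' : ρ b⁻¹ w = w := by
    conv_lhs => rw [← hb w hw]
    rw [rho_inv_apply]
  rw [rho_mul_apply, rho_mul_apply, rho_mul_apply, hb', hb _ (h.mem_eig_apply ht hw), rho_inv_apply]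

/-- On a fixed component the twists are central. -/
theorem twist_comm_component (hfpf : ∀ x ∈ T, s * x = x * s → x ∈ Phi) (B : Subgroup H) (hBG : B ≤ G0)
    (hBs : ∀ b ∈ B, s * b = b * s) (hBp : ∀ b ∈ B, (orderOf b).Coprime p)
    (hTB : ∀ X : Subgroup H, X ≤ T → Phi ≤ X → (∀ b ∈ B, ∀ t ∈ T, t⁻¹ * (b * t * b⁻¹) ∈ X) → T ≤ X)
    (hfix : ∀ b ∈ B, Fixes ρ s r S b) {ζ : Phi →* K} (hζ : conjChar s ζ = ζ)
    (hBζ : ∀ b ∈ B, conjChar b ζ = ζ)
    (hexc : (∀ b ∈ B, Odd (orderOf b)) ∨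
      ∃ P : Subgroup H, (∀ x ∈ P, s * x = x * s) ∧ B ≤ ⁅B, P⁆ ∧ ∀ x ∈ P, conjChar x ζ = ζ)
    {b : H} (hb : b ∈ B) {t t' : H} (ht : t ∈ T) (ht' : t' ∈ T) {w : W} (hw : w ∈ eig ρ Phi ζ) :
    ρ (t⁻¹ * (b * t * b⁻¹)) (ρ t' w) = ρ t' (ρ (t⁻¹ * (b * t * b⁻¹)) w) := by
  classical
  rcases eq_or_ne w 0 with rfl | hw0
  · simp
  set V := eig ρ Phi ζ with hVdef
  haveI : Nontrivial V := Submodule.nontrivial_iff_ne_bot.mpr fun e => hw0 (by rwa [e, Submodule.mem_bot] at hw)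
  have hmemL : ∀ g, conjChar g ζ = ζ → g ∈ stab ρ V := fun g hg v hv => by
    have := apply_mem_eig (ρ := ρ) g hv
    rwa [hg] at this
  have hTV : T ≤ stab ρ V := fun t ht v hv => h.mem_eig_apply ht hv
  set L := stab ρ V with hL
  set ρV := restr ρ V with hρV
  set T' := T.subgroupOf L with hT'
  have hsL : s ∈ L := hmemL s hζ
  have hctx := h.ctx.subgroupOf hsL
  have hp' : IsPGroup p T' := h.pgroup.of_equiv (Subgroup.subgroupOfEquivOfLe hTV).symm
  have hcard' : (Nat.card T' : K) ≠ 0 := by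
    rw [Nat.card_congr (Subgroup.subgroupOfEquivOfLe hTV).toEquiv]; exact h.card
  have hscalP : ∀ x : L, (x : H) ∈ Phi → ∃ k : K, ρV x = k • 1 := fun x hx =>
    ⟨ζ ⟨x, hx⟩, LinearMap.ext fun v => Subtype.ext (v.2 ⟨x, hx⟩)⟩
  set R := rad ρV T' with hR
  have hphi : ∀ x : L, (x : H) ∈ Phi → x ∈ R := fun x hx => ⟨h.phi_le hx, fun t _ => by
    obtain ⟨k, hk⟩ := hscalP x hx
    rw [hk, smul_mul_assoc, one_mul, mul_smul_comm, mul_one]⟩
  suffices hkey : (⟨b, hmemL b (hBζ b hb)⟩ : L) ∈ twistSub T' R by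
    have h1 := (hkey ⟨t, hTV ht⟩ ht).2 ⟨t', hTV ht'⟩ ht'
    have h2 := congrArg Subtype.val (LinearMap.congr_fun h1 ⟨w, hw⟩)
    exact h2
  have hbC : ∀ b (hb : b ∈ B), ∀ v : V, ρV ⟨s, hsL⟩ v = v → ρV ⟨b, hmemL b (hBζ b hb)⟩ v = v :=
    fun b hb v hv => Subtype.ext
      (h.rho_fixed_of_component hfpf B hBG hBs hTB hfix hζ hBζ b hb v v.2 (congrArg Subtype.val hv))
  have hRcard : (Nat.card R : K) ≠ 0 := natCast_ne_zero_of_dvd (Subgroup.card_dvd_of_le rad_le) hcard'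
  haveI : R.Normal := rad_normal
  by_cases hmv : ∃ χ : R →* K, eig ρV R χ ≠ ⊥ ∧ conjChar (⟨s, hsL⟩ : L) χ ≠ χ
  · obtain ⟨χ, hχne, hχ⟩ := hmv
    intro x hx
    set bL : L := ⟨b, hmemL b (hBζ b hb)⟩
    -- the projected members span
    let PV : W →ₗ[K] V := (proj ρ Phi ζ).codRestrict V fun w => proj_mem_eig ζ w
    have hspan : Submodule.span K (PV '' S) = ⊤ := by
      rw [Submodule.span_image, h.span, Submodule.map_top, LinearMap.range_eq_top]
      exact fun v => ⟨v, Subtype.ext (proj_eq_self h.phi_card v.2)⟩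
    have hPV : ∀ (g : L) (w : W), PV (ρ (g : H) w) = ρV g (PV w) := fun g w => by
      refine Subtype.ext ?_
      obtain ⟨v, hv, hv0⟩ := Submodule.exists_mem_ne_zero_of_ne_bot
        (Submodule.nontrivial_iff_ne_bot.mp (inferInstance : Nontrivial V))
      exact proj_rho_of_fixed (char_eq_of_mem (apply_mem_eig (g : H) hv) (g.2 v hv)
        fun e => hv0 (rho_eq_zero _ e)) w
    have hfixV : Fixes ρV ⟨s, hsL⟩ r (PV '' S) bL := by
      rintro _ ⟨v, hv, rfl⟩ hmoved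
      have hvs : ρ s v ≠ v := fun e => hmoved (by
        rw [← hPV ⟨s, hsL⟩]
        exact congrArg PV e)
      have hav : avg ρV (⟨s, hsL⟩ : L) r (PV v) = PV (avg ρ s r v) := by
        rw [avg_apply, avg_apply, map_sum]
        exact Finset.sum_congr rfl fun i _ => (hPV (⟨s, hsL⟩ ^ i) v).symm
      rw [hav, ← hPV]
      exact congrArg PV (hfix b hb v hv hvs)
    obtain ⟨v, hv, hv0⟩ := Submodule.exists_mem_ne_zero_of_ne_bot hχne
    have hbfix : ∀ u ∈ eig ρV R χ, ρV bL u = u := fun u hu =>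
      rho_eq_of_moved_weight hctx (N := R) (fun y hy => h.le hy.1) hRcard rad_comm (PV '' S) hspan
        (fun n _ u hu => by
          obtain ⟨u, hu, rfl⟩ := hu
          exact ⟨ρ (n : H) u, h.stable _ u hu, hPV n u⟩) (hBG hb) (Subtype.ext (hBs b hb)) hfixV hχ hu
    have hd : x⁻¹ * (bL * x * bL⁻¹) ∈ T' :=
      T'.mul_mem (T'.inv_mem hx) ((inferInstance : T'.Normal).conj_mem x hx bL)
    refine ⟨hd, fun y hy => ?_⟩
    have hTR : ∀ z ∈ T', ∀ u ∈ eig ρV R χ, ρV z u ∈ eig ρV R χ := fun z hz u hu n => by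
      rw [← Module.End.mul_apply, n.2.2 z hz, Module.End.mul_apply, hu n, map_smul]
    have hdfix : ∀ u ∈ eig ρV R χ, ρV (x⁻¹ * (bL * x * bL⁻¹)) u = u := fun u hu => by
      have hb' : ρV bL⁻¹ u = u := by
        conv_lhs => rw [← hbfix u hu]
        rw [rho_inv_apply]
      rw [rho_mul_apply, rho_mul_apply, rho_mul_apply, hb', hbfix _ (hTR x hx u hu), rho_inv_apply]
    set d := x⁻¹ * (bL * x * bL⁻¹)
    obtain ⟨k, hk⟩ := hscalP ⁅d, y⁆ (h.comm _ hd _ hy)
    have hk1 : k = 1 := by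
      have h1 : ρV ⁅d, y⁆ v = v := by
        have hd' : ∀ u ∈ eig ρV R χ, ρV d⁻¹ u = u := fun u hu => by
          conv_lhs => rw [← hdfix u hu]
          rw [rho_inv_apply]
        rw [commutatorElement_def, rho_mul_apply, rho_mul_apply, rho_mul_apply,
          hd' _ (hTR _ (T'.inv_mem hy) v hv), rho_apply_inv, hdfix v hv]
      rw [hk, LinearMap.smul_apply, Module.End.one_apply] at h1
      exact smul_left_injective K hv0 (h1.trans (one_smul K _).symm)
    rw [hk1, one_smul] at hk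
    calc ρV d * ρV y = ρV ⁅d, y⁆ * (ρV y * ρV d) := by
          simp only [← map_mul]; congr 1; simp [commutatorElement_def, mul_assoc]
      _ = ρV y * ρV d := by rw [hk, one_mul]
  · push Not at hmv
    have hCR : ∀ x ∈ T', (⟨s, hsL⟩ : L) * x = x * ⟨s, hsL⟩ → x ∈ R := fun x hx hxs =>
      hphi x (hfpf _ hx (congrArg Subtype.val hxs))
    have hscalR : ∀ x ∈ R, ∃ k : K, ρV x = k • 1 := by
      let X : Subgroup L :=
        { carrier := {x | x ∈ R ∧ ∃ k : K, ρV x = k • 1}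
          one_mem' := ⟨R.one_mem, 1, by rw [map_one, one_smul]⟩
          mul_mem' := fun {x y} hx hy => ⟨R.mul_mem hx.1 hy.1, by
            obtain ⟨k, hk⟩ := hx.2
            obtain ⟨l, hl⟩ := hy.2
            exact ⟨k * l, by rw [map_mul, hk, hl, smul_mul_smul_comm, one_mul]⟩⟩
          inv_mem' := fun {x} hx => ⟨R.inv_mem hx.1, by
            obtain ⟨k, hk⟩ := hx.2
            refine ⟨k⁻¹, ?_⟩
            have h1 := CfsgLib.HallHigman.map_inv_mul_map ρV x
            rw [hk, mul_smul_comm, mul_one] at h1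
            have hk0 : k ≠ 0 := fun e => by rw [e, zero_smul] at h1; exact zero_ne_one h1
            rw [← h1, smul_smul, inv_mul_cancel₀ hk0, one_smul]⟩ }
      intro x hx
      refine (hctx.le_of_twists (M := R) (X := X) (fun y hy => h.le hy.1) (fun y hy => ?_)
        (fun y hy hys => ⟨hy, hscalP y (hfpf _ hy.1 (congrArg Subtype.val hys))⟩) hx).2
      have hy' : y⁻¹ * ((⟨s, hsL⟩ : L) * y * (⟨s, hsL⟩ : L)⁻¹) ∈ R :=
        R.mul_mem (R.inv_mem hy) ((inferInstance : R.Normal).conj_mem y hy _)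
      refine ⟨hy', 1, ?_⟩
      rw [one_smul, ← sub_eq_zero]
      refine eq_zero_of_forall_eig R hRcard rad_comm fun χ u hu => ?_
      rw [LinearMap.sub_apply, Module.End.one_apply, sub_eq_zero]
      rcases eq_or_ne u 0 with rfl | hu0
      · rw [map_zero]
      rw [hu ⟨_, hy'⟩, char_twist_eq_one (hmv χ fun e => hu0 (by rwa [e, Submodule.mem_bot] at hu)) hy hy',
        one_smul]
    have hscal' : ∀ a ∈ T', ∀ b ∈ T', ∃ k : K, ρV ⁅a, b⁆ = k • 1 := fun a ha b hb =>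
      hscalP _ (h.comm _ ha _ hb)
    -- exceptional situation
    have hexist : ∀ c (hc : c ∈ B), (⟨c, hmemL c (hBζ c hc)⟩ : L) ∉ twistSub T' R →
        ∃ d ∈ B, ¬ Odd (orderOf d) ∧ R.relIndex T' = (2 * r - 1) ^ 2 := by
      intro c hc hcn
      set cL : L := ⟨c, hmemL c (hBζ c hc)⟩
      have hex : ∃ n, 0 < n ∧ cL ^ n ∈ twistSub T' R :=
        ⟨orderOf cL, orderOf_pos cL, by rw [pow_orderOf_eq_one]; exact one_mem _⟩
      obtain ⟨hn0, hn⟩ := Nat.find_spec hex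
      have hn1 : Nat.find hex ≠ 1 := fun e => hcn (by rw [e, pow_one] at hn; exact hn)
      obtain ⟨q, hq, m, hm⟩ := Nat.exists_prime_and_dvd hn1
      have hm0 : 0 < m := Nat.pos_of_ne_zero fun e => by rw [e, mul_zero] at hm; omega
      have hmn : cL ^ m ∉ twistSub T' R := fun hmem => Nat.find_min hex
        (by rw [hm]; have := hq.two_le; nlinarith : m < Nat.find hex) ⟨hm0, hmem⟩
      have hcm : c ^ m ∈ B := B.pow_mem hc m
      have hdm : cL ^ m = (⟨c ^ m, hmemL _ (hBζ _ hcm)⟩ : L) := Subtype.ext rfl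
      have hne' : ∃ y ∈ T', y⁻¹ * (cL ^ m * y * (cL ^ m)⁻¹) ∉ R := by
        by_contra hcon
        push Not at hcon
        exact hmn hcon
      have hqn : ∀ y ∈ T', y⁻¹ * ((cL ^ m) ^ q * y * ((cL ^ m) ^ q)⁻¹) ∈ R := by
        rw [← pow_mul, mul_comm, ← hm]
        exact hn
      obtain ⟨hq2, hidx⟩ := scalar_action hctx h.rK (fun y hy => h.le hy) h.prime hp' hscal' hscalR hCR
        (b := cL ^ m) (hBG hcm) (Subtype.ext (hBs _ hcm))
        (by rw [← Subgroup.orderOf_coe]; exact hBp _ hcm)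
        (fun v hv => hdm ▸ hbC _ hcm v hv) hq hqn hne'
      refine ⟨c ^ m, hcm, fun hodd => ?_, hidx⟩
      -- an odd element lies in the group generated by its square
      obtain ⟨k, hk⟩ := hodd
      have h1 : cL ^ m = ((cL ^ m) ^ q) ^ (k + 1) := by
        refine Subtype.ext ?_
        show c ^ m = ((c ^ m) ^ q) ^ (k + 1)
        rw [hq2, ← pow_mul (c ^ m), show 2 * (k + 1) = 2 * k + 1 + 1 by omega, pow_succ, ← hk,
          pow_orderOf_eq_one, one_mul]
      exact hmn (h1 ▸ Subgroup.pow_mem _ (show (cL ^ m) ^ q ∈ twistSub T' R from hqn) (k + 1))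
    by_contra hbn
    rcases hexc with hodd | ⟨P, hPs, hBP, hPζ⟩
    · obtain ⟨d, hd, hd2, -⟩ := hexist b hb hbn
      exact hd2 (hodd d hd)
    · obtain ⟨d, hd, hd2, hidx⟩ := hexist b hb hbn
      have hr2 : r ≠ 2 := by
        intro e
        subst e
        exact hd2 (Nat.odd_iff.mpr (Nat.two_dvd_ne_zero.mp fun h2 =>
          h.ctx.cop (h2.trans (Subgroup.orderOf_dvd_natCard _ (hBG hd)))))
      have hirr : ∀ Z : Subgroup L, R ≤ Z → Z ≤ T' → (⟨s, hsL⟩ : L) ∈ Subgroup.normalizer (Z : Set L) →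
          T' ≤ Subgroup.normalizer (Z : Set L) → Z ≤ R ∨ T' ≤ Z := fun Z h1 h2 h3 h4 =>
        eq_top_of_invariant hctx (fun y hy => h.le hy) rad_le hCR h.prime hp' hr2 hidx h1 h2 h3 h4
      have hle : ⁅B, P⁆ ≤ (twistSub T' R).map L.subtype := Subgroup.commutator_le.mpr fun c hc y hy => by
        refine ⟨⁅(⟨c, hmemL c (hBζ c hc)⟩ : L), ⟨y, hmemL y (hPζ y hy)⟩⁆, fun z hz => ?_, rfl⟩
        exact commutator_twist_mem rad_le (fun a ha e he => hphi _ (h.comm _ ha _ he)) hirr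
          (Subtype.ext (hBs c hc)) (Subtype.ext (hPs y hy)) hz
      obtain ⟨bL, hbL, hbe⟩ := hle (hBP hb)
      obtain rfl : bL = ⟨b, hmemL b (hBζ b hb)⟩ := Subtype.ext hbe
      exact hbn hbL

/-- **The main lemma.** -/
theorem false_of_fixes [Nontrivial W] (hfpf : ∀ x ∈ T, s * x = x * s → x ∈ Phi) (B : Subgroup H) (hBG : B ≤ G0)
    (hBs : ∀ b ∈ B, s * b = b * s) (hBp : ∀ b ∈ B, (orderOf b).Coprime p)
    (hTB : ∀ X : Subgroup H, X ≤ T → Phi ≤ X → (∀ b ∈ B, ∀ t ∈ T, t⁻¹ * (b * t * b⁻¹) ∈ X) → T ≤ X)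
    (hfix : ∀ b ∈ B, Fixes ρ s r S b)
    (hone : ∀ ζ : Phi →* K, conjChar s ζ = ζ → eig ρ Phi ζ ≠ ⊥ →
      (∃ w, ρ s w = w ∧ proj ρ Phi ζ w ≠ 0) ∨ ∀ b ∈ B, conjChar b ζ = ζ)
    (hexc : (∀ b ∈ B, Odd (orderOf b)) ∨
      ∃ P : Subgroup H, (∀ x ∈ P, s * x = x * s) ∧ B ≤ ⁅B, P⁆ ∧
        ∀ ζ : Phi →* K, conjChar s ζ = ζ → eig ρ Phi ζ ≠ ⊥ → ∀ x ∈ P, conjChar x ζ = ζ) : False := by
  have hmemT : ∀ b, ∀ t ∈ T, t⁻¹ * (b * t * b⁻¹) ∈ T := fun b t ht =>
    T.mul_mem (T.inv_mem ht) ((inferInstance : T.Normal).conj_mem t ht b)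
  have hrad : T ≤ rad ρ T := by
    refine hTB _ rad_le (fun x hx => ⟨h.phi_le hx, h.central x hx⟩) fun b hb t ht => ⟨hmemT b t ht, fun t' ht' => ?_⟩
    refine sub_eq_zero.mp (eq_zero_of_forall_eig Phi h.phi_card h.phi_comm fun ζ w hw => ?_)
    rw [LinearMap.sub_apply, Module.End.mul_apply, Module.End.mul_apply, sub_eq_zero]
    rcases eq_or_ne w 0 with rfl | hw0
    · simp
    by_cases hζ : conjChar s ζ = ζ
    · have hne : eig ρ Phi ζ ≠ ⊥ := fun e => hw0 (by rwa [e, Submodule.mem_bot] at hw)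
      have hBζ : ∀ b ∈ B, conjChar b ζ = ζ := fun c hc => by
        rcases hone ζ hζ hne with ⟨w1, hw1, hw1'⟩ | hall
        · exact h.conjChar_eq_of_component hfpf (hBs c hc) (hfix c hc) hζ hw1 hw1'
        · exact hall c hc
      refine h.twist_comm_component hfpf B hBG hBs hBp hTB hfix hζ hBζ ?_ hb ht ht' hw
      rcases hexc with h1 | ⟨P, h1, h2, h3⟩
      · exact Or.inl h1
      · exact Or.inr ⟨P, h1, h2, h3 ζ hζ hne⟩
    · have hbw : ∀ v ∈ eig ρ Phi ζ, ρ b v = v := fun v hv => rho_eq_of_moved_weight h.ctx (h.phi_le.trans h.le)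
        h.phi_card h.phi_comm S h.span (fun n _ u hu => h.stable n u hu) (hBG hb) (hBs b hb) (hfix b hb) hζ hv
      rw [h.rho_twist_of_fixed ht hbw hw, h.rho_twist_of_fixed ht hbw (h.mem_eig_apply ht' hw)]
  have hcomm : ∀ a ∈ T, ∀ b ∈ T, ρ a * ρ b = ρ b * ρ a := fun a ha b hb => (hrad ha).2 b hb
  have hone' : ∀ b ∈ B, ρ b = 1 := fun b hb => by
    refine sub_eq_zero.mp (eq_zero_of_forall_eig T h.card hcomm fun χ w hw => ?_)
    rw [LinearMap.sub_apply, Module.End.one_apply, sub_eq_zero]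
    by_cases hχ : conjChar s χ = χ
    · let X : Subgroup H :=
        { carrier := {x | x ∈ T ∧ ρ x w = w}
          one_mem' := ⟨T.one_mem, by simp⟩
          mul_mem' := fun {x y} hx hy => ⟨T.mul_mem hx.1 hy.1, by rw [rho_mul_apply, hy.2, hx.2]⟩
          inv_mem' := fun {x} hx => ⟨T.inv_mem hx.1, by
            conv_lhs => rw [← hx.2]
            rw [rho_inv_apply]⟩ }
      have hX : T ≤ X := h.le_of_twists hfpf (fun x hx => hx.1)
        (fun x hx he => ⟨hx, by rw [he, Module.End.one_apply]⟩) fun t ht =>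
          ⟨hmemT s t ht, by rw [hw ⟨_, hmemT s t ht⟩, char_twist_eq_one hχ ht (hmemT s t ht), one_smul]⟩
      rw [h.noFix w fun t ht => (hX ht).2, map_zero]
    · exact rho_eq_of_moved_weight h.ctx h.le h.card hcomm S h.span (fun n _ u hu => h.stable n u hu) (hBG hb)
        (hBs b hb) (hfix b hb) hχ hw
  have hker : T ≤ T ⊓ MonoidHom.ker ρ := h.frattini _ inf_le_left (fun x hx he => ⟨hx, he⟩)
    (hTB _ (sup_le inf_le_left h.phi_le) le_sup_right fun b hb t ht => Subgroup.mem_sup_left ⟨hmemT b t ht, by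
      show ρ (t⁻¹ * (b * t * b⁻¹)) = 1
      rw [map_mul, map_mul, map_mul, hone' b hb, hone' b⁻¹ (B.inv_mem hb), one_mul, mul_one, ← map_mul,
        inv_mul_cancel, map_one]⟩)
  obtain ⟨w, hw⟩ := exists_ne (0 : W)
  exact hw (h.noFix w fun t ht => by rw [show ρ t = 1 from (hker ht).2, Module.End.one_apply])

end Lev

end CfsgLib.Turull
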