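import Cfsg.Agent.Lib.Turull.Gamma
import Cfsg.Agent.Lib.Turull.OutMain

/-!
# Climbing a minimal tower

Fixed elements seen by the spanning functionals of a level produce fixed elements seen by the next level.
-/

set_option autoImplicit false
set_option linter.style.haveILetI false

namespace CfsgLib.Turull

open Module (End)
open scoped commutatorElement
open CfsgLib.FittingLength

universe u

variable {X : Type u} [Group X] {s : X} {r : ℕ} {G : Subgroup X}

/-- The fixed points of `s` in `G`. -/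
def fixC (s : X) (G : Subgroup X) : Subgroup X := G ⊓ Subgroup.centralizer ({s} : Set X)

theorem mem_fixC {x : X} : x ∈ fixC s G ↔ x ∈ G ∧ s * x = x * s := by
  rw [fixC, Subgroup.mem_inf, Subgroup.mem_centralizer_singleton_iff]
  exact ⟨fun h => ⟨h.1, h.2.symm⟩, fun h => ⟨h.1, h.2.symm⟩⟩

theorem commute_inv {x : X} (h : s * x = x * s) : s * x⁻¹ = x⁻¹ * s :=
  ((show Commute s x from h).inv_right).eq

variable [Finite X] {p : ℕ → ℕ} {P : ℕ → Subgroup X} {m : ℕ}
variable [∀ i, Fact (p i).Prime]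
variable {K : ℕ → Type} [∀ i, Field (K i)] [∀ i, Algebra (ZMod (p i)) (K i)] [∀ i, IsAlgClosed (K i)]

theorem le_normalizer_fixC {A : Subgroup X} (hAG : A ≤ Subgroup.normalizer (G : Set X))
    (hA : ∀ a ∈ A, s * a = a * s) : A ≤ Subgroup.normalizer (fixC s G : Set X) := fun a ha =>
  CfsgLib.Coprime.mem_normalizer_of_forall_conj fun x hx => by
    obtain ⟨hx1, hx2⟩ := mem_fixC.mp hx
    refine mem_fixC.mpr ⟨(mem_normalizer_conj_iff (hAG ha)).mpr hx1, ?_⟩
    exact ((show Commute s a from hA a ha).mul_right (show Commute s x from hx2)).mul_right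
      ((show Commute s a from hA a ha).inv_right) |>.eq

namespace MinTower

variable (h : MinTower s G p P m)

variable (K) in
/-- A fixed element of a level seen by a moved spanning functional. -/
def Good (i : ℕ) (hi : i ≤ m) (z : X) : Prop :=
  ∃ hz : z ∈ P i, s * z = z * s ∧ ∃ f ∈ h.Gam (K := K) i,
    h.levRep i hi ⟨s, mem_upS s P i⟩ f ≠ f ∧ (f : P i → K i) ⟨z, hz⟩ ≠ 0

include h

theorem mem_normalizer_C (c : Ctx s r G) {A : Subgroup X} (hA : ∀ a ∈ A, s * a = a * s) :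
    A ≤ Subgroup.normalizer (fixC s G : Set X) :=
  le_normalizer_fixC (haveI := c.normal; by rw [Subgroup.normalizer_eq_top]; exact le_top) hA

omit [∀ i, IsAlgClosed (K i)] in
/-- A nonzero fixed functional is nonzero at a fixed element. -/
theorem exists_fixed_eval (c : Ctx s r G) {i : ℕ} (hi : i ≤ m) {F : Wt K P m i}
    (hF : h.levRep i hi ⟨s, mem_upS s P i⟩ F = F) (h0 : F ≠ 0) :
    ∃ x : P i, s * (x : X) = x * s ∧ (F : P i → K i) x ≠ 0 := by
  by_contra hcon
  push Not at hcon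
  refine h0 (funcs_ext fun a => ?_)
  let Z : Subgroup X :=
    { carrier := {y | ∃ hy : y ∈ P i, (F : P i → K i) ⟨y, hy⟩ = 0}
      one_mem' := ⟨one_mem _, funcs_map_one F⟩
      mul_mem' := by
        rintro a b ⟨ha, ha'⟩ ⟨hb, hb'⟩
        exact ⟨mul_mem ha hb, by
          rw [show (⟨a * b, mul_mem ha hb⟩ : P i) = ⟨a, ha⟩ * ⟨b, hb⟩ from rfl, funcs_map_mul, ha', hb', add_zero]⟩
      inv_mem' := by
        rintro a ⟨ha, ha'⟩
        exact ⟨inv_mem ha, by
          rw [show (⟨a⁻¹, inv_mem ha⟩ : P i) = (⟨a, ha⟩ : P i)⁻¹ from rfl, funcs_map_inv, ha', neg_zero]⟩ }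
  have hsP : Subgroup.zpowers s ≤ Subgroup.normalizer (P i : Set X) := Subgroup.zpowers_le.mpr (h.tower.inv i hi)
  have hcard : Nat.card (Subgroup.zpowers s) ∣ r := by
    rw [Nat.card_zpowers]; exact orderOf_dvd_of_pow_eq_one c.pow_eq
  have hle : P i ≤ Z := by
    refine (CfsgLib.Coprime.commutator_sup_centralizer (Subgroup.zpowers s) (P i) hsP
      ((c.prime.coprime_iff_not_dvd.mpr fun hd =>
        c.cop (hd.trans (Subgroup.card_dvd_of_le (h.tower.le i hi)))).coprime_dvd_left hcard)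
      (Or.inl inferInstance)).ge.trans (sup_le (Subgroup.commutator_le.mpr fun y hy g hg => ?_) fun y hy => ?_)
    · obtain ⟨k, rfl⟩ := (mem_powers_iff_mem_zpowers (x := s)).mpr hg
      show ⁅y, s ^ k⁆ ∈ Z
      have hmem : s ^ k * y⁻¹ * (s ^ k)⁻¹ ∈ P i :=
        (mem_normalizer_conj_iff (Subgroup.pow_mem _ (h.tower.inv i hi) k)).mpr (inv_mem hy)
      refine ⟨by simpa [commutatorElement_def, mul_assoc] using mul_mem hy hmem, ?_⟩
      have h2 : (h.levRep i hi (⟨s, mem_upS s P i⟩ ^ k : upS s P i) F : P i → K i) ⟨_, hmem⟩ =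
          (F : P i → K i) (⟨y, hy⟩ : P i)⁻¹ := h.levRep_apply _ _ _ _ _ _ (by simp [mul_assoc])
      rw [rho_pow_fixed hF] at h2
      refine (congrArg (F : P i → K i) (Subtype.ext (by simp [commutatorElement_def, mul_assoc]) :
        _ = (⟨y, hy⟩ : P i) * ⟨_, hmem⟩)).trans ?_
      rw [funcs_map_mul, h2, funcs_map_inv, add_neg_cancel]
    · exact ⟨hy.1, hcon ⟨y, hy.1⟩ (Subgroup.mem_centralizer_iff.mp hy.2 s (Subgroup.mem_zpowers s))⟩
  exact (hle a.2).2

omit [∀ i, IsAlgClosed (K i)] in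
theorem avg_eval {i : ℕ} (hi : i ≤ m) (u : Wt K P m i) {z : P i} (hz : s * (z : X) = z * s) :
    ((avg (h.levRep (K := K) i hi) (⟨s, mem_upS s P i⟩ : upS s P i) r u : Wt K P m i) : P i → K i) z = (r : K i) * (u : P i → K i) z := by
  rw [avg_apply, Submodule.coe_sum, Finset.sum_apply, Finset.sum_congr rfl (fun k _ =>
    h.levRep_apply i hi _ u z z (by
      rw [SubgroupClass.coe_pow, eq_comm, mul_assoc, ← Ctx.conj_pow_eq hz k, inv_mul_cancel_left])),
    Finset.sum_const, Finset.card_range, nsmul_eq_mul]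

/-- A moved orbit sum that is nonzero gives a fixed element seen by a moved functional. -/
theorem exists_good_of_avg (c : Ctx s r G) {i : ℕ} (hi : i ≤ m) {u : Wt K P m i} (hu : u ∈ h.Gam (K := K) i)
    (hmv : h.levRep i hi ⟨s, mem_upS s P i⟩ u ≠ u) (havg : avg (h.levRep i hi) ⟨s, mem_upS s P i⟩ r u ≠ 0) :
    ∃ z, h.Good K i hi z ∧ z ∈ fixC s G := by
  obtain ⟨x, hx, hx0⟩ := h.exists_fixed_eval c hi (rho_avg (c.subgroupOf (mem_upS s P i)) u) havg
  rw [h.avg_eval hi u hx] at hx0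
  exact ⟨x, ⟨x.2, hx, u, hu, hmv, right_ne_zero_of_mul hx0⟩, mem_fixC.mpr ⟨h.tower.le i hi x.2, hx⟩⟩

/-- A fixed element moving an orbit sum gives a good commutator. -/
theorem exists_good_of_not_fixes (c : Ctx s r G) {i : ℕ} (hi : i ≤ m) {b : upS s P i} (hb : s * (b : X) = b * s)
    (hnot : ¬ Fixes (h.levRep (K := K) i hi) ⟨s, mem_upS s P i⟩ r (h.Gam (K := K) i) b) :
    ∃ y ∈ fixC s G ⊓ P i, h.Good K i hi ⁅y⁻¹, (b : X)⁻¹⁆ := by
  rw [Fixes] at hnot
  push Not at hnot
  obtain ⟨u, hu, hmv, hne⟩ := hnot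
  set ρ := h.levRep (K := K) i hi
  set s0 : upS s P i := ⟨s, mem_upS s P i⟩
  have hF : ρ s0 (ρ b (avg ρ s0 r u) - avg ρ s0 r u) = ρ b (avg ρ s0 r u) - avg ρ s0 r u := by
    rw [map_sub, ← rho_mul_apply, show s0 * b = b * s0 from Subtype.ext hb, rho_mul_apply,
      rho_avg (c.subgroupOf (mem_upS s P i))]
  obtain ⟨x, hx, hx0⟩ := h.exists_fixed_eval c hi hF (sub_ne_zero.mpr hne)
  have hbx : (b : X)⁻¹ * x * b ∈ P i := by
    simpa using (mem_normalizer_conj_iff (inv_mem (h.tower.upS_le_normalizer (Nat.le_succ i) hi b.2))).mpr x.2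
  set z : P i := x⁻¹ * ⟨_, hbx⟩
  have hze : (z : X) = ⁅(x : X)⁻¹, (b : X)⁻¹⁆ := by simp [z, commutatorElement_def, mul_assoc]
  have hzs : s * (z : X) = z * s := by
    simp only [z, Subgroup.coe_mul, Subgroup.coe_inv]
    have h1 : Commute s (x : X) := hx
    have h2 : Commute s (b : X) := hb
    exact (h1.inv_right.mul_right ((h2.inv_right.mul_right h1).mul_right h2)).eq
  rw [Submodule.coe_sub, Pi.sub_apply, h.levRep_apply i hi b _ x ⟨_, hbx⟩ rfl,
    show (⟨_, hbx⟩ : P i) = x * z from (mul_inv_cancel_left x _).symm, funcs_map_mul, add_sub_cancel_left,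
    h.avg_eval hi u hzs] at hx0
  exact ⟨x, ⟨mem_fixC.mpr ⟨h.tower.le i hi x.2, hx⟩, x.2⟩, hze ▸ z.2, hze ▸ hzs, u, hu, hmv,
    fun e => right_ne_zero_of_mul hx0 (by rw [← e]; exact congrArg (u : P i → K i) (Subtype.ext hze))⟩

/-- Such a commutator stays in a residual of the fixed points. -/
theorem exists_good_mem_resIter (c : Ctx s r G) {i : ℕ} (hi : i ≤ m) {b : upS s P i} (hb : s * (b : X) = b * s)
    {k : ℕ} (hbk : (b : X) ∈ resIter k (fixC s G))
    (hnot : ¬ Fixes (h.levRep (K := K) i hi) ⟨s, mem_upS s P i⟩ r (h.Gam (K := K) i) b) :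
    ∃ z, h.Good K i hi z ∧ z ∈ resIter k (fixC s G) := by
  obtain ⟨y, hy, hgood⟩ := h.exists_good_of_not_fixes c hi hb hnot
  exact ⟨_, hgood, commutator_le_resIter (Q := fixC s G ⊓ P i) inf_le_left (Subgroup.zpowers_le.mpr hbk)
    (Subgroup.commutator_mem_commutator (inv_mem hy) (inv_mem (Subgroup.mem_zpowers (b : X))))⟩

/-- Such a commutator gains a step when the orders are coprime. -/
theorem exists_good_mem_resIter_succ (c : Ctx s r G) {i : ℕ} (hi : i + 1 ≤ m) {b : upS s P (i + 1)}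
    (hbP : (b : X) ∈ P i) (hb : s * (b : X) = b * s) {k : ℕ} (hbk : (b : X) ∈ resIter k (fixC s G))
    (hnot : ¬ Fixes (h.levRep (K := K) (i + 1) hi) ⟨s, mem_upS s P (i + 1)⟩ r (h.Gam (K := K) (i + 1)) b) :
    ∃ z, h.Good K (i + 1) hi z ∧ z ∈ resIter (k + 1) (fixC s G) := by
  obtain ⟨y, hy, hgood⟩ := h.exists_good_of_not_fixes c hi hb hnot
  refine ⟨_, hgood, commutator_le_resIter_succ (Q := fixC s G ⊓ P (i + 1)) inf_le_left
    (Subgroup.zpowers_le.mpr hbk) ?_ (h.tower.coprime hi (Subgroup.zpowers_le.mpr hbP) inf_le_right)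
    (Or.inl inferInstance)
    (Subgroup.commutator_mem_commutator (inv_mem hy) (inv_mem (Subgroup.mem_zpowers (b : X))))⟩
  refine le_normalizer_inter (h.mem_normalizer_C c fun a ha => ?_)
    ((Subgroup.zpowers_le.mpr b.2).trans (h.tower.upS_le_normalizer (Nat.le_succ _) hi))
  obtain ⟨l, rfl⟩ := Subgroup.mem_zpowers_iff.mp ha
  exact ((show Commute s (b : X) from hb).zpow_right l).eq

/-- A good element in a residual forces a higher residual to be nontrivial. -/
theorem resIter_ne_bot_of_good (c : Ctx s r G) [Group.IsSolvable G] :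
    ∀ (d i : ℕ) (hi : i ≤ m), i + d = m → ∀ (z : X) (k : ℕ), h.Good K i hi z → z ∈ resIter k (fixC s G) →
      resIter (k + d) (fixC s G) ≠ ⊥ := by
  intro d
  induction d with
  | zero =>
    rintro i hi - z k ⟨hz, -, f, -, -, hf0⟩ hzk e
    rw [Nat.add_zero] at e
    rw [e, Subgroup.mem_bot] at hzk
    subst hzk
    exact hf0 (funcs_map_one f)
  | succ d ih =>
    rintro i hi hd z k ⟨hz, hzs, f, hf, hmv, hf0⟩ hzk
    have him : i < m := by omega
    obtain ⟨z', hgood, hz'⟩ := h.exists_good_mem_resIter_succ (K := K) c him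
      (b := (h.inT (i := i) ⟨z, hz⟩ : upS s P (i + 1))) hz hzs hzk
      fun hfix => hf0 (h.gam_eq_zero_of_fixes c him hz hzs hfix hf hmv)
    have := ih (i + 1) him (by omega) z' (k + 1) hgood hz'
    rwa [show k + 1 + d = k + (d + 1) by omega] at this

end MinTower

end CfsgLib.Turull
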