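import Cfsg.Agent.Lib.Turull.Weight
import Cfsg.Agent.Lib.Coprime.Commutator

/-!
# Orbit sums of an operator of prime order

The translates of a fixed vector and the non-vanishing of their orbit sums.
-/

set_option autoImplicit false
set_option linter.style.haveILetI false

namespace CfsgLib.Turull

open Module (End)

variable {H : Type*} [Group H]

/-- An element `s` of prime order `r` and a normal subgroup `G0` of order prime to `r`. -/
structure Ctx (s : H) (r : ℕ) (G0 : Subgroup H) : Prop where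
  prime : r.Prime
  pow_eq : s ^ r = 1
  normal : G0.Normal
  cop : ¬ r ∣ Nat.card G0

theorem mem_normalizer_conj_iff {N : Subgroup H} {a x : H}
    (ha : a ∈ Subgroup.normalizer (N : Set H)) : a * x * a⁻¹ ∈ N ↔ x ∈ N :=
  (Subgroup.mem_normalizer_iff.mp ha x).symm

/-- A twist by a power that lies in an invariant subgroup. -/
theorem twist_pow_mem {N : Subgroup H} {a t : H} (ha : a ∈ Subgroup.normalizer (N : Set H))
    (h : t⁻¹ * (a * t * a⁻¹) ∈ N) (k : ℕ) : t⁻¹ * (a ^ k * t * (a ^ k)⁻¹) ∈ N := by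
  induction k with
  | zero => simpa using N.one_mem
  | succ k ih =>
    have e : t⁻¹ * (a ^ (k + 1) * t * (a ^ (k + 1))⁻¹) =
        (t⁻¹ * (a * t * a⁻¹)) * (a * (t⁻¹ * (a ^ k * t * (a ^ k)⁻¹)) * a⁻¹) := by
      rw [pow_succ']; group
    rw [e]
    exact N.mul_mem h ((mem_normalizer_conj_iff ha).mpr ih)

theorem Ctx.twist_mem_of_pow {s : H} {r : ℕ} {G0 : Subgroup H} (c : Ctx s r G0) {N : Subgroup H}
    (hs : s ∈ Subgroup.normalizer (N : Set H)) {t : H} {i : ℕ} (hi0 : 0 < i) (hi : i < r)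
    (h : t⁻¹ * (s ^ i * t * (s ^ i)⁻¹) ∈ N) : t⁻¹ * (s * t * s⁻¹) ∈ N := by
  obtain ⟨k, hk⟩ := Nat.exists_mul_mod_eq_one_of_coprime
    ((c.prime.coprime_iff_not_dvd.mpr (Nat.not_dvd_of_pos_of_lt hi0 hi)).symm) c.prime.one_lt
  have h1 := twist_pow_mem (Subgroup.pow_mem _ hs i) h k
  rwa [← pow_mul, ← Nat.div_add_mod (i * k) r, hk.2, pow_add, pow_mul, c.pow_eq, one_pow, one_mul,
    pow_one] at h1

theorem Ctx.mem_zpowers_commute {s : H} {x : H} (h : s * x = x * s) :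
    x ∈ Subgroup.centralizer (Subgroup.zpowers s : Set H) := by
  rw [Subgroup.zpowers_eq_closure, Subgroup.centralizer_closure,
    Subgroup.mem_centralizer_singleton_iff]
  exact h.symm

theorem Ctx.conj_pow_eq {s : H} {x : H} (h : s * x = x * s) (i : ℕ) : s ^ i * x = x * s ^ i :=
  ((show Commute s x from h).pow_left i).eq

/-- An invariant coset contains an element commuting with `s`. -/
theorem Ctx.exists_fixed_rep [Finite H] {s : H} {r : ℕ} {G0 : Subgroup H} (c : Ctx s r G0)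
    {T N : Subgroup H} (hT : T ≤ G0) (hsT : s ∈ Subgroup.normalizer (T : Set H)) (hN : N ≤ T)
    (hsN : s ∈ Subgroup.normalizer (N : Set H)) {t : H} (ht : t ∈ T)
    (h : t⁻¹ * (s * t * s⁻¹) ∈ N) :
    ∃ z ∈ T, s * z = z * s ∧ t⁻¹ * z ∈ N := by
  have hcard : Nat.card (Subgroup.zpowers s) ∣ r := by
    rw [Nat.card_zpowers]; exact orderOf_dvd_of_pow_eq_one c.pow_eq
  have hfix : ∀ a ∈ Subgroup.zpowers s, t⁻¹ * (a * t * a⁻¹) ∈ N := by
    intro a ha
    obtain ⟨k, rfl⟩ := (mem_powers_iff_mem_zpowers (x := s)).mpr ha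
    exact twist_pow_mem hsN h k
  obtain ⟨z, ⟨hzT, hzC⟩, hz⟩ := CfsgLib.Coprime.exists_centralizing_rep (Subgroup.zpowers s) T
    (Subgroup.zpowers_le.mpr hsT)
    (((c.prime.coprime_iff_not_dvd.mpr fun hd =>
      c.cop (hd.trans (Subgroup.card_dvd_of_le hT))).coprime_dvd_left hcard))
    (Or.inl inferInstance) N hN (Subgroup.zpowers_le.mpr hsN) ht hfix
  exact ⟨z, hzT, Subgroup.mem_centralizer_iff.mp hzC s (Subgroup.mem_zpowers s), hz⟩

theorem Ctx.coprime_orderOf [Finite H] {s : H} {r : ℕ} {G0 : Subgroup H} (c : Ctx s r G0) {b : H}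
    (hb : b ∈ G0) : r.Coprime (orderOf b) :=
  c.prime.coprime_iff_not_dvd.mpr fun h => c.cop (h.trans (by
    rw [← Nat.card_zpowers]; exact Subgroup.card_dvd_of_le (Subgroup.zpowers_le.mpr hb)))

variable {K W : Type*} [Field K] [AddCommGroup W] [Module K W] (ρ : H →* End K W)

/-- The orbit sum of `s`. -/
def avg (s : H) (r : ℕ) : End K W := ∑ i ∈ Finset.range r, ρ (s ^ i)

variable {ρ}

theorem avg_apply (s : H) (r : ℕ) (w : W) : avg ρ s r w = ∑ i ∈ Finset.range r, ρ (s ^ i) w :=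
  LinearMap.sum_apply _ _ _

variable {s : H} {r : ℕ} {G0 : Subgroup H}

theorem Ctx.sum_shift (c : Ctx s r G0) {M : Type*} [AddCommMonoid M] (f : H → M) :
    ∑ i ∈ Finset.range r, f (s ^ (i + 1)) = ∑ i ∈ Finset.range r, f (s ^ i) := by
  obtain ⟨m, rfl⟩ : ∃ m, r = m + 1 :=
    ⟨r - 1, (Nat.succ_pred_eq_of_pos c.prime.pos).symm⟩
  rw [Finset.sum_range_succ, Finset.sum_range_succ' (fun i => f (s ^ i)), c.pow_eq, pow_zero]

theorem rho_avg (c : Ctx s r G0) (w : W) : ρ s (avg ρ s r w) = avg ρ s r w := by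
  rw [avg_apply, map_sum]
  simp only [← rho_mul_apply, ← pow_succ']
  exact c.sum_shift fun x => ρ x w

theorem avg_rho (c : Ctx s r G0) (w : W) : avg ρ s r (ρ s w) = avg ρ s r w := by
  rw [avg_apply, avg_apply]
  simp only [← rho_mul_apply, ← pow_succ]
  exact c.sum_shift fun x => ρ x w

theorem rho_pow_fixed {w : W} (h : ρ s w = w) (i : ℕ) : ρ (s ^ i) w = w := by
  induction i with
  | zero => rw [pow_zero, map_one, Module.End.one_apply]
  | succ i ih => rw [pow_succ, rho_mul_apply, h, ih]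

theorem avg_of_fixed {w : W} (h : ρ s w = w) : avg ρ s r w = (r : K) • w := by
  rw [avg_apply, Finset.sum_congr rfl fun i _ => rho_pow_fixed h i, Finset.sum_const, Finset.card_range,
    Nat.cast_smul_eq_nsmul]

theorem rho_avg_comm {b : H} (hb : s * b = b * s) (w : W) :
    ρ b (avg ρ s r w) = avg ρ s r (ρ b w) := by
  rw [avg_apply, avg_apply, map_sum]
  refine Finset.sum_congr rfl fun i _ => ?_
  rw [← rho_mul_apply, ← rho_mul_apply, Ctx.conj_pow_eq hb]

theorem map_avg_comm (P : End K W) (hP : ∀ w, P (ρ s w) = ρ s (P w)) (w : W) :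
    P (avg ρ s r w) = avg ρ s r (P w) := by
  have hpow : ∀ (i : ℕ) (v : W), P (ρ (s ^ i) v) = ρ (s ^ i) (P v) := by
    intro i
    induction i with
    | zero => intro v; simp
    | succ i ih => intro v; rw [pow_succ, rho_mul_apply, ih, hP, rho_mul_apply]
  rw [avg_apply, avg_apply, map_sum]
  exact Finset.sum_congr rfl fun i _ => hpow i w

/-- The hypothesis `b` fixes the orbit sum of every moved member of `S`. -/
def Fixes (ρ : H →* End K W) (s : H) (r : ℕ) (S : Set W) (b : H) : Prop :=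
  ∀ u ∈ S, ρ s u ≠ u → ρ b (avg ρ s r u) = avg ρ s r u

/-- The orbit sum of a translate of a fixed vector is seen by a fixed functional. -/
theorem orbit_sum (c : Ctx s r G0) {T N : Subgroup H} (hsT : s ∈ Subgroup.normalizer (T : Set H))
    (hsN : s ∈ Subgroup.normalizer (N : Set H))
    (hfix : ∀ x ∈ T, x⁻¹ * (s * x * s⁻¹) ∈ N → x ∈ N) {u : W} (hu : ρ s u = u) (f : W →ₗ[K] K)
    (hzero : ∀ x ∈ T, x ∉ N → f (ρ x u) = 0) {t : H} (ht : t ∈ T) (htN : t ∉ N) :
    f (ρ t⁻¹ (avg ρ s r (ρ t u))) = f u := by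
  rw [avg_apply, map_sum, map_sum, Finset.sum_eq_single 0]
  · rw [pow_zero, map_one, Module.End.one_apply, rho_inv_apply]
  · intro i hi hi0
    have hsi : ρ (s ^ i)⁻¹ u = u := by
      conv_lhs => rw [← rho_pow_fixed hu i]
      rw [rho_inv_apply]
    have e : ρ t⁻¹ (ρ (s ^ i) (ρ t u)) = ρ (t⁻¹ * (s ^ i * t * (s ^ i)⁻¹)) u := by
      rw [rho_mul_apply, rho_mul_apply, rho_mul_apply, hsi]
    rw [e]
    refine hzero _ (T.mul_mem (T.inv_mem ht) ((mem_normalizer_conj_iff (Subgroup.pow_mem _ hsT i)).mpr ht))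
      fun h => htN (hfix t ht ?_)
    exact c.twist_mem_of_pow hsN (Nat.pos_of_ne_zero hi0) (Finset.mem_range.mp hi) h
  · intro h
    exact absurd (Finset.mem_range.mpr c.prime.pos) h

/-- Non-vanishing: if a fixed member has a component `P u ≠ 0`, some moved member has an orbit
sum with nonzero component, unless all twists lie in the stabiliser of `P u`. -/
theorem exists_moved_avg [Finite H] (c : Ctx s r G0) (hr : (r : K) ≠ 0) {T : Subgroup H} (hT : T ≤ G0)
    (hsT : s ∈ Subgroup.normalizer (T : Set H)) (S : Set W) (hS : ∀ t ∈ T, ∀ u ∈ S, ρ t u ∈ S)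
    (P : End K W) (hPs : ∀ w, P (ρ s w) = ρ s (P w)) (hPT : ∀ t ∈ T, ∀ w, P (ρ t w) = ρ t (P w))
    {u : W} (huS : u ∈ S) (hu : ρ s u = u) (hPu : P u ≠ 0) (Hst : Subgroup H) (hH : Hst ≤ T)
    (hsH : s ∈ Subgroup.normalizer (Hst : Set H)) (hTH : T ≤ Subgroup.normalizer (Hst : Set H))
    (hmem : ∀ x ∈ T, ρ x (P u) = P u → x ∈ Hst) :
    (∃ v ∈ S, ρ s v ≠ v ∧ P (avg ρ s r v) ≠ 0) ∨ ∀ t ∈ T, t⁻¹ * (s * t * s⁻¹) ∈ Hst := by
  rw [or_iff_not_imp_left]
  intro hcon
  push Not at hcon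
  set C : Subgroup H := T ⊓ Subgroup.centralizer ({s} : Set H) with hC
  set M : Subgroup H := C ⊔ Hst with hM
  have hCs : ∀ z ∈ C, z * s = s * z := fun z hz => Subgroup.mem_centralizer_singleton_iff.mp hz.2
  have hMT : M ≤ T := sup_le inf_le_left hH
  have hsC : s ∈ Subgroup.normalizer (C : Set H) := by
    rw [Subgroup.mem_normalizer_iff]
    intro x
    constructor
    · intro hx
      rwa [← hCs x hx, mul_inv_cancel_right]
    · intro hx
      have h1 : s * x * s⁻¹ = x := by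
        have h2 := hCs _ hx
        calc s * x * s⁻¹ = s⁻¹ * (s * (s * x * s⁻¹)) := by group
          _ = s⁻¹ * ((s * x * s⁻¹) * s) := by rw [h2]
          _ = x := by group
      rwa [h1] at hx
  have hsM : s ∈ Subgroup.normalizer (M : Set H) := by
    rw [Subgroup.mem_normalizer_iff_map_conj_eq, hM, Subgroup.map_sup,
      Subgroup.mem_normalizer_iff_map_conj_eq.mp hsC, Subgroup.mem_normalizer_iff_map_conj_eq.mp hsH]
  have hfixM : ∀ x ∈ T, x⁻¹ * (s * x * s⁻¹) ∈ M → x ∈ M := fun x hx h => by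
    obtain ⟨z, hz, hzs, hxz⟩ := c.exists_fixed_rep hT hsT hMT hsM hx h
    have hzM : z ∈ M := Subgroup.mem_sup_left
      ⟨hz, Subgroup.mem_centralizer_singleton_iff.mpr hzs.symm⟩
    have h2 := M.mul_mem hzM (M.inv_mem hxz)
    rwa [show z * (x⁻¹ * z)⁻¹ = x by group] at h2
  by_cases hMeq : T ≤ M
  · intro t ht
    obtain ⟨z, hz, y, hy, rfl⟩ :=
      CfsgLib.Coprime.exists_mul_of_mem_sup ((inf_le_left : C ≤ T).trans hTH) (hMeq ht)
    have e : (z * y)⁻¹ * (s * (z * y) * s⁻¹) = y⁻¹ * (s * y * s⁻¹) := by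
      rw [← mul_assoc s z y, ← hCs z hz]; group
    rw [e]
    exact Hst.mul_mem (Hst.inv_mem hy) ((mem_normalizer_conj_iff hsH).mpr hy)
  exfalso
  obtain ⟨t, ht, htM⟩ := SetLike.not_le_iff_exists.mp hMeq
  have hmoved : ∀ x ∈ T, x ∉ M → ρ s (ρ x u) ≠ ρ x u := by
    intro x hx hxM h
    apply hxM
    refine hfixM x hx (Subgroup.mem_sup_right (hmem _ (T.mul_mem (T.inv_mem hx)
      ((mem_normalizer_conj_iff hsT).mpr hx)) ?_))
    have hsu : ρ s⁻¹ u = u := by
      conv_lhs => rw [← hu]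
      rw [rho_inv_apply]
    have h1 : ρ (x⁻¹ * (s * x * s⁻¹)) u = u := by
      rw [rho_mul_apply, rho_mul_apply, rho_mul_apply, hsu, h, rho_inv_apply]
    rw [← hPT _ (T.mul_mem (T.inv_mem hx) ((mem_normalizer_conj_iff hsT).mpr hx)), h1]
  obtain ⟨ψ, hψ⟩ : ∃ ψ : W →ₗ[K] K, ψ (P u) ≠ 0 := by
    by_contra h
    push Not at h
    exact hPu ((Module.forall_dual_apply_eq_zero_iff K _).mp h)
  let f : W →ₗ[K] K := ψ ∘ₗ P ∘ₗ avg ρ s r
  have hf : ∀ x ∈ T, x ∉ M → f (ρ x u) = 0 := fun x hx hxM => by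
    show ψ (P (avg ρ s r (ρ x u))) = 0
    rw [hcon _ (hS x hx u huS) (hmoved x hx hxM), map_zero]
  have h1 := orbit_sum c hsT hsM hfixM hu f hf ht htM
  have h2 : f (ρ t⁻¹ (avg ρ s r (ρ t u))) = 0 := by
    show ψ (P (avg ρ s r (ρ t⁻¹ (avg ρ s r (ρ t u))))) = 0
    rw [map_avg_comm P hPs, hPT _ (T.inv_mem ht), hcon _ (hS t ht u huS) (hmoved t ht htM), map_zero,
      map_zero, map_zero]
  rw [h2] at h1
  have h3 : f u = ψ ((r : K) • P u) := by
    show ψ (P (avg ρ s r u)) = _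
    rw [avg_of_fixed hu, map_smul]
  rw [h3, map_smul, smul_eq_mul] at h1
  exact (mul_ne_zero hr hψ) h1.symm

end CfsgLib.Turull
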