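import Cfsg.Agent.Lib.Turull.Exception
import Cfsg.Agent.Lib.Turull.Orbit
import Cfsg.Agent.Lib.HallHigman.CoprimeTools

/-!
# A weight component of a normal subgroup of class two

The image of a normal subgroup on an invariant subspace on which the centre of the image is scalar is fully
ramified on an irreducible piece; the twisting operator and the intertwiners turn statements on fixed vectors
into statements on one eigenspace.
-/

set_option autoImplicit false
set_option linter.style.haveILetI false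

namespace CfsgLib.Turull

open Module (End)
open CfsgLib.HallHigman
open scoped commutatorElement

variable {K W H : Type*} [Field K] [AddCommGroup W] [Module K W] [Group H]

/-- The part of `T` whose image is central in the image of `T`. -/
def rad (ρ : H →* End K W) (T : Subgroup H) : Subgroup H where
  carrier := {x | x ∈ T ∧ ∀ t ∈ T, ρ x * ρ t = ρ t * ρ x}
  one_mem' := ⟨T.one_mem, fun t _ => by rw [map_one, one_mul, mul_one]⟩
  mul_mem' := fun {a b} ha hb => ⟨T.mul_mem ha.1 hb.1, fun t ht => by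
    rw [map_mul, mul_assoc, hb.2 t ht, ← mul_assoc, ha.2 t ht, mul_assoc]⟩
  inv_mem' := fun {a} ha => ⟨T.inv_mem ha.1, fun t ht => by
    calc ρ a⁻¹ * ρ t = ρ a⁻¹ * (ρ t * ρ a) * ρ a⁻¹ := by
          rw [mul_assoc, mul_assoc, map_mul_map_inv, mul_one]
      _ = ρ a⁻¹ * (ρ a * ρ t) * ρ a⁻¹ := by rw [ha.2 t ht]
      _ = ρ t * ρ a⁻¹ := by rw [← mul_assoc (ρ a⁻¹), map_inv_mul_map, one_mul]⟩

variable {ρ : H →* End K W} {T : Subgroup H}

theorem mem_rad {x : H} : x ∈ rad ρ T ↔ x ∈ T ∧ ∀ t ∈ T, ρ x * ρ t = ρ t * ρ x := Iff.rfl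

theorem rad_le : rad ρ T ≤ T := fun _ h => h.1

theorem rad_comm : ∀ a ∈ rad ρ T, ∀ b ∈ rad ρ T, ρ a * ρ b = ρ b * ρ a := fun _ ha b hb => ha.2 b hb.1

theorem conj_mem_rad [hT : T.Normal] (g : H) {x : H} (hx : x ∈ rad ρ T) : g * x * g⁻¹ ∈ rad ρ T :=
  ⟨hT.conj_mem x hx.1 g, fun t ht => by
    have h := hx.2 (g⁻¹ * t * g) (hT.conj_mem' t ht g)
    calc ρ (g * x * g⁻¹) * ρ t = ρ g * (ρ x * ρ (g⁻¹ * t * g)) * ρ g⁻¹ := by
          simp only [← map_mul]; congr 1; group
      _ = ρ g * (ρ (g⁻¹ * t * g) * ρ x) * ρ g⁻¹ := by rw [h]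
      _ = ρ t * ρ (g * x * g⁻¹) := by simp only [← map_mul]; congr 1; group⟩

instance rad_normal [T.Normal] : (rad ρ T).Normal := ⟨fun _ hx g => conj_mem_rad g hx⟩

/-- The elements mapping `V` into itself. -/
def stab [Finite H] (ρ : H →* End K W) (V : Submodule K W) : Subgroup H where
  carrier := {g | ∀ w ∈ V, ρ g w ∈ V}
  one_mem' := fun w hw => by rwa [map_one, Module.End.one_apply]
  mul_mem' := fun {a b} ha hb w hw => by rw [rho_mul_apply]; exact ha _ (hb w hw)
  inv_mem' := fun {a} ha w hw => by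
    have hpow : ∀ k : ℕ, ρ (a ^ k) w ∈ V := by
      intro k
      induction k with
      | zero => rwa [pow_zero, map_one, Module.End.one_apply]
      | succ k ih => rw [pow_succ', rho_mul_apply]; exact ha _ ih
    have e : a ^ (orderOf a - 1) = a⁻¹ := eq_inv_of_mul_eq_one_left (by
      rw [← pow_succ, Nat.sub_add_cancel (orderOf_pos a), pow_orderOf_eq_one])
    rw [← e]
    exact hpow _

/-- The restriction to an invariant subspace. -/
def restr [Finite H] (ρ : H →* End K W) (V : Submodule K W) : stab ρ V →* End K V where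
  toFun g := (ρ g).restrict g.2
  map_one' := LinearMap.ext fun w => Subtype.ext (by simp)
  map_mul' a b := LinearMap.ext fun w => Subtype.ext (by
    simp only [LinearMap.restrict_apply, Module.End.mul_apply, Subgroup.coe_mul, map_mul]
    rfl)

theorem mem_stab [Finite H] {V : Submodule K W} {g : H} : g ∈ stab ρ V ↔ ∀ w ∈ V, ρ g w ∈ V := Iff.rfl

theorem restr_apply [Finite H] {V : Submodule K W} (g : stab ρ V) (w : V) :
    (restr ρ V g w : W) = ρ g w := rfl

/-- An automorphism centralising a subgroup and the factor group, of order prime to the group, is trivial. -/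
theorem mulAut_eq_one {Q : Type*} [Group Q] [Finite Q] (β : MulAut Q) (Z : Subgroup Q) {n : ℕ}
    (hn : β ^ n = 1) (hco : n.Coprime (Nat.card Q)) (hz : ∀ z ∈ Z, β z = z) (h : ∀ g, g⁻¹ * β g ∈ Z) :
    β = 1 := by
  ext g
  have hpow : ∀ k, (β ^ k) g = g * (g⁻¹ * β g) ^ k := by
    intro k
    induction k with
    | zero => simp
    | succ k ih =>
      rw [pow_succ' β, MulAut.mul_apply, ih, map_mul, map_pow, hz _ (h g), pow_succ', ← mul_assoc g,
        mul_inv_cancel_left]
  have h1 := hpow n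
  rw [hn, MulAut.one_apply, left_eq_mul] at h1
  have h2 := pow_gcd_eq_one.mpr ⟨h1, pow_card_eq_one' (x := g⁻¹ * β g)⟩
  rw [hco.gcd_eq_one, pow_one, inv_mul_eq_one] at h2
  exact h2.symm

section Model

variable [Finite H] [T.Normal] {V : Submodule K W}

/-- Conjugation, restricted to the normal subgroup `T` and read on `V`. -/
theorem restr_conj_eq (hTV : T ≤ stab ρ V) (g : stab ρ V) (x : T) :
    restr ρ V (Subgroup.inclusion hTV (MulAut.conjNormal (g : H) x)) =
      restr ρ V g * restr ρ V (Subgroup.inclusion hTV x) * restr ρ V g⁻¹ := by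
  rw [← map_mul, ← map_mul]
  congr 1

/-- The representation of `T` on `V`. -/
def onSub (ρ : H →* End K W) (V : Submodule K W) (hTV : T ≤ stab ρ V) : T →* End K V :=
  (restr ρ V).comp (Subgroup.inclusion hTV)

omit [T.Normal] in
theorem onSub_apply (hTV : T ≤ stab ρ V) (x : T) (w : V) : (onSub ρ V hTV x w : W) = ρ x w := rfl

theorem ker_map_conj (hTV : T ≤ stab ρ V) (g : stab ρ V) :
    (onSub ρ V hTV).ker.map (MulAut.conjNormal (g : H) : MulAut T).toMonoidHom = (onSub ρ V hTV).ker := by
  have hle : ∀ g : stab ρ V, ∀ x ∈ (onSub ρ V hTV).ker,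
      MulAut.conjNormal (g : H) x ∈ (onSub ρ V hTV).ker := by
    intro g x hx
    rw [MonoidHom.mem_ker] at hx ⊢
    show restr ρ V _ = 1
    rw [restr_conj_eq hTV g x, show restr ρ V (Subgroup.inclusion hTV x) = 1 from hx, mul_one, ← map_mul,
      mul_inv_cancel, map_one]
  refine le_antisymm (Subgroup.map_le_iff_le_comap.mpr fun x hx => hle g x hx) fun x hx => ?_
  refine ⟨MulAut.conjNormal ((g⁻¹ : stab ρ V) : H) x, hle g⁻¹ x hx, ?_⟩
  show MulAut.conjNormal (g : H) _ = x
  rw [← MulAut.mul_apply, ← map_mul, Subgroup.coe_inv, mul_inv_cancel, map_one, MulAut.one_apply]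

/-- The action on the image of `T` on `V`. -/
noncomputable def imageAut (hTV : T ≤ stab ρ V) : stab ρ V →* MulAut (T ⧸ (onSub ρ V hTV).ker) :=
  MonoidHom.mk' (fun g => QuotientGroup.congr _ _ (MulAut.conjNormal (g : H)) (ker_map_conj hTV g))
    fun a b => by
      refine MulEquiv.ext fun y => ?_
      induction y using QuotientGroup.induction_on with
      | H x =>
        exact congrArg (QuotientGroup.mk : T → T ⧸ (onSub ρ V hTV).ker)
          (show MulAut.conjNormal ((a * b : stab ρ V) : H) x =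
              MulAut.conjNormal (a : H) (MulAut.conjNormal (b : H) x) by
            rw [Subgroup.coe_mul, map_mul, MulAut.mul_apply])

theorem imageAut_mk (hTV : T ≤ stab ρ V) (g : stab ρ V) (x : T) :
    imageAut hTV g (x : T ⧸ (onSub ρ V hTV).ker) =
      ((MulAut.conjNormal (g : H) x : T) : T ⧸ (onSub ρ V hTV).ker) :=
  rfl

/-- The faithful operators of the image. -/
noncomputable def liftSub (ρ : H →* End K W) (V : Submodule K W) (hTV : T ≤ stab ρ V) :
    T ⧸ (onSub ρ V hTV).ker →* End K V :=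
  QuotientGroup.lift _ (onSub ρ V hTV) le_rfl

omit [T.Normal] in
theorem liftSub_mk (hTV : T ≤ stab ρ V) (x : T) :
    liftSub ρ V hTV (x : T ⧸ (onSub ρ V hTV).ker) = onSub ρ V hTV x := rfl

theorem liftSub_injective (hTV : T ≤ stab ρ V) : Function.Injective (liftSub ρ V hTV) :=
  (injective_iff_map_eq_one _).mpr fun y => by
    induction y using QuotientGroup.induction_on with
    | H x => exact fun h => (QuotientGroup.eq_one_iff x).mpr h

/-- The image acts compatibly with conjugation. -/
theorem restr_mul_lift (hTV : T ≤ stab ρ V) (g : stab ρ V) (y : T ⧸ (onSub ρ V hTV).ker) :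
    restr ρ V g * liftSub ρ V hTV y = liftSub ρ V hTV (imageAut hTV g y) * restr ρ V g := by
  induction y using QuotientGroup.induction_on with
  | H x =>
    rw [imageAut_mk, liftSub_mk, liftSub_mk]
    show restr ρ V g * restr ρ V _ = restr ρ V _ * restr ρ V g
    rw [restr_conj_eq hTV g x, mul_assoc _ (restr ρ V g⁻¹), ← map_mul (restr ρ V) g⁻¹, inv_mul_cancel,
      map_one, mul_one]

variable [IsAlgClosed K] [FiniteDimensional K W]

/-- The irreducible model of a component. -/
theorem exists_model {s : H} {r : ℕ} {G0 : Subgroup H} (c : Ctx s r G0) (hTG : T ≤ G0)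
    (hcl : ∀ a ∈ T, ∀ b ∈ T, ∃ e : K, ρ ⁅a, b⁆ = e • 1) (hV : V ≠ ⊥) (hTV : T ≤ stab ρ V)
    (hsV : s ∈ stab ρ V) (hscal : ∀ x ∈ rad ρ T, ∃ e : K, ∀ w ∈ V, ρ x w = e • w)
    (hCT : ∀ x ∈ T, s * x = x * s → x ∈ rad ρ T) :
    ∃ (U : Submodule K V) (ρ0 : T ⧸ (onSub ρ V hTV).ker →* End K U),
      Nontrivial U ∧ IsIrred ρ0 ∧ Function.Injective ρ0 ∧
      (∀ g h : T ⧸ (onSub ρ V hTV).ker, ⁅g, h⁆ ∈ Subgroup.center _) ∧ IsFullyRamified ρ0 ∧
      (∀ y, ∀ u : U, liftSub ρ V hTV y (u : V) = (ρ0 y u : V)) ∧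
      Nat.card ((T ⧸ (onSub ρ V hTV).ker) ⧸ Subgroup.center (T ⧸ (onSub ρ V hTV).ker)) =
        (rad ρ T).relIndex T ∧
      (∀ g : T ⧸ (onSub ρ V hTV).ker,
        g⁻¹ * imageAut hTV ⟨s, hsV⟩ g ∈ Subgroup.center _ → g ∈ Subgroup.center _) ∧
      (∀ g : stab ρ V, ∀ z ∈ Subgroup.center (T ⧸ (onSub ρ V hTV).ker), imageAut hTV g z = z) ∧
      (∀ x : T, (x : T ⧸ (onSub ρ V hTV).ker) ∈ Subgroup.center _ ↔ (x : H) ∈ rad ρ T) := by
  classical
  set π := onSub ρ V hTV with hπ
  set L := liftSub ρ V hTV with hL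
  have hLinj : Function.Injective L := liftSub_injective hTV
  haveI : Nontrivial V := Submodule.nontrivial_iff_ne_bot.mpr hV
  obtain ⟨v0, hv0⟩ := exists_ne (0 : V)
  -- the centre
  have hcen : ∀ x : T, (x : T ⧸ π.ker) ∈ Subgroup.center _ ↔ (x : H) ∈ rad ρ T := by
    intro x
    rw [Subgroup.mem_center_iff]
    constructor
    · intro h
      refine ⟨x.2, fun t ht => ?_⟩
      obtain ⟨e, he⟩ := hcl t ht x x.2
      have h1 := congrArg L (h ((⟨t, ht⟩ : T) : T ⧸ π.ker))
      rw [map_mul, map_mul, hL, liftSub_mk, liftSub_mk, ← map_mul, ← map_mul] at h1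
      have h2 : π ⁅(⟨t, ht⟩ : T), x⁆ = 1 := by
        rw [show ⁅(⟨t, ht⟩ : T), x⁆ = (⟨t, ht⟩ * x) * (x * ⟨t, ht⟩)⁻¹ by
          simp [commutatorElement_def, mul_assoc], map_mul, h1, ← map_mul, mul_inv_cancel, map_one]
      have h3 := congrArg Subtype.val (LinearMap.congr_fun h2 v0)
      have h4 : e = 1 := by
        rw [onSub_apply, show ((⁅(⟨t, ht⟩ : T), x⁆ : T) : H) = ⁅t, (x : H)⁆ from rfl, he,
          LinearMap.smul_apply, Module.End.one_apply, Module.End.one_apply] at h3
        exact smul_left_injective K (fun e' => hv0 (Subtype.ext e')) (h3.trans (one_smul K _).symm)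
      rw [h4, one_smul] at he
      calc ρ x * ρ t = ρ ⁅t, (x : H)⁆ * (ρ x * ρ t) := by rw [he, one_mul]
        _ = ρ t * ρ x := by simp only [← map_mul]; congr 1; simp [commutatorElement_def, mul_assoc]
    · intro h y
      induction y using QuotientGroup.induction_on with
      | H t =>
        refine hLinj (LinearMap.ext fun w => Subtype.ext ?_)
        rw [map_mul, map_mul, hL, liftSub_mk, liftSub_mk]
        show ρ t (ρ x (w : W)) = ρ x (ρ t (w : W))
        rw [← Module.End.mul_apply, ← Module.End.mul_apply, h.2 t t.2]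
  -- an irreducible piece
  have hex : ∃ n, ∃ U : Submodule K V, U ≠ ⊥ ∧ (∀ y, ∀ u ∈ U, L y u ∈ U) ∧ Module.finrank K U = n :=
    ⟨_, ⊤, top_ne_bot, fun _ _ _ => Submodule.mem_top, rfl⟩
  obtain ⟨U, hU0, hUinv, hUn⟩ := Nat.find_spec hex
  let ρ0 : T ⧸ π.ker →* End K U :=
    { toFun := fun y => (L y).restrict (hUinv y)
      map_one' := LinearMap.ext fun u => Subtype.ext (by simp)
      map_mul' := fun a b => LinearMap.ext fun u => Subtype.ext (by simp) }
  haveI hUnt : Nontrivial U := Submodule.nontrivial_iff_ne_bot.mpr hU0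
  have hirr : IsIrred ρ0 := by
    intro X hX
    rw [or_iff_not_imp_left]
    intro hX0
    have hmap : X.map U.subtype ≠ ⊥ := fun h => hX0
      (Submodule.map_injective_of_injective U.injective_subtype (h.trans (Submodule.map_bot _).symm))
    have h1 := Nat.find_min' hex (m := Module.finrank K (X.map U.subtype)) ⟨_, hmap, fun g w hw => by
      obtain ⟨x, hx, rfl⟩ := hw
      exact ⟨ρ0 g x, hX _ x hx, rfl⟩, rfl⟩
    refine Submodule.eq_top_of_finrank_eq (le_antisymm (Submodule.finrank_le X) ?_)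
    rw [Submodule.finrank_map_subtype_eq] at h1
    omega
  obtain ⟨u0, hu0⟩ := exists_ne (0 : U)
  have hu0' : ((u0 : V) : W) ≠ 0 := fun e => hu0 (Subtype.ext (Subtype.ext e))
  have hinj : Function.Injective ρ0 := by
    rw [injective_iff_map_eq_one]
    intro y hy
    induction y using QuotientGroup.induction_on with
    | H x =>
      have hfix : ∀ u : U, ρ x ((u : V) : W) = ((u : V) : W) := fun u =>
        congrArg (fun v : U => ((v : V) : W)) (LinearMap.congr_fun hy u)
      have hxr : (x : H) ∈ rad ρ T := by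
        refine ⟨x.2, fun t ht => ?_⟩
        obtain ⟨e, he⟩ := hcl x x.2 t ht
        have h1 : ρ ⁅(x : H), t⁆ ((u0 : V) : W) = ((u0 : V) : W) := by
          rw [commutatorElement_def, rho_mul_apply, rho_mul_apply, rho_mul_apply]
          set a : U := ρ0 (((⟨t, ht⟩ : T) : T ⧸ π.ker)⁻¹) u0
          have ha : ρ t⁻¹ ((u0 : V) : W) = ((a : V) : W) := rfl
          have hx' : ρ (x : H)⁻¹ ((a : V) : W) = ((a : V) : W) := by
            conv_lhs => rw [← hfix a]
            rw [rho_inv_apply]
          rw [ha, hx', ← ha, rho_apply_inv, hfix]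
        have h4 : e = 1 := by
          rw [he, LinearMap.smul_apply, Module.End.one_apply] at h1
          exact smul_left_injective K hu0' (h1.trans (one_smul K _).symm)
        rw [h4, one_smul] at he
        calc ρ x * ρ t = ρ ⁅(x : H), t⁆ * (ρ t * ρ x) := by
              simp only [← map_mul]; congr 1; simp [commutatorElement_def, mul_assoc]
          _ = ρ t * ρ x := by rw [he, one_mul]
      obtain ⟨e, he⟩ := hscal _ hxr
      have he1 : e = 1 := smul_left_injective K hu0'
        ((he _ (u0 : V).2).symm.trans ((hfix u0).trans (one_smul K _).symm))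
      refine (QuotientGroup.eq_one_iff x).mpr (LinearMap.ext fun w => Subtype.ext ?_)
      rw [onSub_apply, he _ w.2, he1, one_smul, Module.End.one_apply]
  have hclQ : ∀ g h : T ⧸ π.ker, ⁅g, h⁆ ∈ Subgroup.center _ := by
    intro g h
    induction g using QuotientGroup.induction_on with
    | H a =>
      induction h using QuotientGroup.induction_on with
      | H b =>
        rw [show ⁅(a : T ⧸ π.ker), (b : T ⧸ π.ker)⁆ = ((⁅a, b⁆ : T) : T ⧸ π.ker) from rfl, hcen]
        refine ⟨(⁅a, b⁆ : T).2, fun t _ => ?_⟩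
        obtain ⟨e, he⟩ := hcl a a.2 b b.2
        rw [show ((⁅a, b⁆ : T) : H) = ⁅(a : H), (b : H)⁆ from rfl, he, smul_mul_assoc, one_mul,
          mul_smul_comm, mul_one]
  refine ⟨U, ρ0, hUnt, hirr, hinj, hclQ, fun g hg => ?_, fun y u => rfl, ?_, ?_, ?_, hcen⟩
  · exact Subgroup.mem_center_iff.mpr fun h => hinj (by rw [map_mul, map_mul]; exact (hg h).symm)
  · let f : T →* (T ⧸ π.ker) ⧸ Subgroup.center (T ⧸ π.ker) :=
      (QuotientGroup.mk' _).comp (QuotientGroup.mk' π.ker)
    have hf : f.ker = (rad ρ T).subgroupOf T := by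
      ext x
      rw [MonoidHom.mem_ker, Subgroup.mem_subgroupOf, ← hcen]
      exact QuotientGroup.eq_one_iff (x : T ⧸ π.ker)
    have hfs : Function.Surjective f :=
      (QuotientGroup.mk'_surjective _).comp (QuotientGroup.mk'_surjective _)
    rw [Subgroup.relIndex, ← hf, Subgroup.index_ker, MonoidHom.range_eq_top.mpr hfs, Subgroup.card_top]
  · intro g hg
    induction g using QuotientGroup.induction_on with
    | H x =>
      rw [imageAut_mk, ← QuotientGroup.mk_inv, ← QuotientGroup.mk_mul, hcen] at hg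
      obtain ⟨z, hz, hzs, hxz⟩ := c.exists_fixed_rep hTG
        (by rw [Subgroup.normalizer_eq_top]; exact Subgroup.mem_top s) rad_le
        (by rw [Subgroup.normalizer_eq_top]; exact Subgroup.mem_top s) x.2
        (by simpa [MulAut.conjNormal_apply] using hg)
      rw [hcen]
      have h2 := (rad ρ T).mul_mem (hCT z hz hzs) ((rad ρ T).inv_mem hxz)
      rwa [show z * ((x : H)⁻¹ * z)⁻¹ = x by group] at h2
  · intro g z hz
    induction z using QuotientGroup.induction_on with
    | H x =>
      obtain ⟨e, he⟩ := hscal _ ((hcen x).mp hz)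
      refine hLinj ?_
      have hLx : L (x : T ⧸ π.ker) = e • 1 := LinearMap.ext fun w => Subtype.ext (he _ w.2)
      have h1 := restr_mul_lift hTV g (x : T ⧸ π.ker)
      rw [← hL, hLx, mul_smul_comm, mul_one] at h1
      rw [hLx]
      calc L (imageAut hTV g (x : T ⧸ π.ker))
          = L (imageAut hTV g (x : T ⧸ π.ker)) * restr ρ V g * restr ρ V g⁻¹ := by
            rw [mul_assoc, ← map_mul (restr ρ V), mul_inv_cancel, map_one, mul_one]
        _ = e • 1 := by rw [← h1, smul_mul_assoc, ← map_mul, mul_inv_cancel, map_one]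

end Model

end CfsgLib.Turull
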