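import Cfsg.Agent.Lib.Turull.Orbit

/-!
# An element fixing the orbit sums fixes the moved weight spaces

If `b` commutes with `s` and fixes the orbit sum of every moved member of a spanning set stable under an
abelian-acting normal subgroup `N`, then `b` fixes each weight space of `N` moved by `s`.
-/

set_option autoImplicit false
set_option linter.style.haveILetI false

namespace CfsgLib.Turull

open Module (End)

variable {K : Type*} [Field K] {M : Type*} [Group M]

/-- Coefficients of a vanishing combination of characters. -/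
theorem linearCombination_char_eq_zero (F : (M →* K) →₀ K)
    (h : ∀ n : M, (F.sum fun ψ c => c * ψ n) = 0) : F = 0 := by
  have hli := linearIndependent_monoidHom M K
  rw [linearIndependent_iff] at hli
  refine hli F (funext fun n => ?_)
  rw [Finsupp.linearCombination_apply, Finsupp.sum, Finset.sum_apply]
  exact h n

/-- A combination of characters vanishing off `N0` keeps its coefficients under a character
trivial on `N0`. -/
theorem coeff_mul_eq (F : (M →* K) →₀ K) (N0 : Subgroup M)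
    (h : ∀ n : M, n ∉ N0 → (F.sum fun ψ c => c * ψ n) = 0) {η : M →* K} (hη : ∀ n ∈ N0, η n = 1)
    (ψ : M →* K) : F (ψ * η) = F ψ := by
  classical
  have hne : ∀ n, η n ≠ 0 := fun n e => one_ne_zero (α := K) (by
    rw [← map_one η, ← mul_inv_cancel n, map_mul, e, zero_mul])
  have hinj : Function.Injective (fun φ : M →* K => φ * η) := fun a b e => MonoidHom.ext fun n => by
    have h1 := DFunLike.congr_fun e n
    exact mul_right_cancel₀ (hne n) h1
  have h0 : Finsupp.mapDomain (fun φ : M →* K => φ * η) F - F = 0 := by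
    refine linearCombination_char_eq_zero _ fun n => ?_
    rw [Finsupp.sum_sub_index (fun _ _ _ => sub_mul _ _ _),
      Finsupp.sum_mapDomain_index (fun _ => zero_mul _) (fun _ _ _ => add_mul _ _ _)]
    by_cases hn : n ∈ N0
    · simp [hη n hn]
    · rw [h n hn, sub_zero]
      have h1 := h n hn
      rw [Finsupp.sum] at h1 ⊢
      rw [← zero_mul (η n), ← h1, Finset.sum_mul]
      exact Finset.sum_congr rfl fun φ _ => by rw [MonoidHom.mul_apply, mul_assoc]
  rw [sub_eq_zero] at h0
  conv_lhs => rw [← h0]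
  exact Finsupp.mapDomain_apply hinj F ψ

variable {H W : Type*} [Group H] [AddCommGroup W] [Module K W] {ρ : H →* End K W}
  {s : H} {r : ℕ} {G0 : Subgroup H}

theorem conjChar_pow_period {N : Subgroup H} [N.Normal] (c : Ctx s r G0) (χ : N →* K) :
    conjChar (s ^ r) χ = χ := by
  rw [c.pow_eq, conjChar_one]

theorem conjChar_pow_succ {N : Subgroup H} [N.Normal] (i : ℕ) (χ : N →* K) :
    conjChar (s ^ (i + 1)) χ = conjChar (s ^ i) (conjChar s χ) := by
  rw [pow_succ, conjChar_mul]

theorem conjChar_pow_fixed {N : Subgroup H} [N.Normal] {χ : N →* K} (h : conjChar s χ = χ) (i : ℕ) :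
    conjChar (s ^ i) χ = χ := by
  induction i with
  | zero => rw [pow_zero, conjChar_one]
  | succ i ih => rw [conjChar_pow_succ, h, ih]

theorem pow_mod_eq (c : Ctx s r G0) (i : ℕ) : s ^ (i % r) = s ^ i := by
  conv_rhs => rw [← Nat.mod_add_div i r, pow_add, pow_mul, c.pow_eq, one_pow, mul_one]

/-- A moved character is fixed by no nontrivial power of `s`. -/
theorem conjChar_pow_ne {N : Subgroup H} [N.Normal] (c : Ctx s r G0) {χ : N →* K}
    (h : conjChar s χ ≠ χ) {i : ℕ} (hi : ¬ r ∣ i) : conjChar (s ^ i) χ ≠ χ := fun e => h (by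
  obtain ⟨k, hk⟩ := Nat.exists_mul_mod_eq_one_of_coprime
    (c.prime.coprime_iff_not_dvd.mpr hi).symm c.prime.one_lt
  have h1 : conjChar ((s ^ i) ^ k) χ = χ := conjChar_pow_fixed e k
  rwa [← pow_mul, ← pow_mod_eq c, hk.2, pow_one] at h1)

theorem conjChar_orbit_injective {N : Subgroup H} [N.Normal] (c : Ctx s r G0) {χ : N →* K}
    (h : conjChar s χ ≠ χ) {i j : ℕ} (hij : i ≤ j) (hj : j < r)
    (e : conjChar (s ^ i) χ = conjChar (s ^ j) χ) : i = j := by
  by_contra hne
  refine conjChar_pow_ne c h (i := j - i) (Nat.not_dvd_of_pos_of_lt (by omega) (by omega)) ?_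
  apply conjChar_injective (s ^ i)
  rw [← conjChar_mul, ← pow_add, Nat.add_sub_cancel' hij, e]

theorem conjChar_moved {N : Subgroup H} [N.Normal] {χ : N →* K} (h : conjChar s χ ≠ χ) {g : H}
    (hg : s * g = g * s) : conjChar s (conjChar g χ) ≠ conjChar g χ := by
  rw [← conjChar_mul, hg, conjChar_mul]
  exact fun e => h (conjChar_injective g e)

/-- A moved character sent into its orbit by an element of order prime to `r` is fixed by it. -/
theorem conjChar_eq_of_mem_orbit [Finite H] {N : Subgroup H} [N.Normal] (c : Ctx s r G0) {b : H}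
    (hb : b ∈ G0) (hsb : s * b = b * s) {χ : N →* K} (h : conjChar s χ ≠ χ) {i : ℕ}
    (e : conjChar b χ = conjChar (s ^ i) χ) : conjChar b χ = χ := by
  have hiter : ∀ k, conjChar (b ^ k) χ = conjChar (s ^ (i * k)) χ := by
    intro k
    induction k with
    | zero => simp [conjChar_one]
    | succ k ih =>
      rw [pow_succ', conjChar_mul, ih, ← conjChar_mul, ← Ctx.conj_pow_eq hsb, conjChar_mul, e, ← conjChar_mul,
        ← pow_add, mul_add, mul_one]
  have h1 := hiter (orderOf b)
  rw [pow_orderOf_eq_one, conjChar_one] at h1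
  by_cases hi : r ∣ i
  · rw [e, ← pow_mod_eq c, Nat.mod_eq_zero_of_dvd hi, pow_zero, conjChar_one]
  · exact absurd h1.symm (conjChar_pow_ne c h fun hd =>
      ((c.prime.dvd_mul).mp hd).elim hi ((c.prime.coprime_iff_not_dvd).mp (c.coprime_orderOf hb)))

theorem proj_rho_of_comm [Finite H] {N : Subgroup H}
    (hcomm : ∀ a ∈ N, ∀ b ∈ N, ρ a * ρ b = ρ b * ρ a) (χ : N →* K) {n : H} (hn : n ∈ N) (w : W) :
    proj ρ N χ (ρ n w) = ρ n (proj ρ N χ w) := by
  letI := Fintype.ofFinite N
  rw [proj_apply, proj_apply, map_smul, map_sum]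
  congr 1
  refine Finset.sum_congr rfl fun m _ => ?_
  rw [map_smul, ← Module.End.mul_apply, hcomm _ m.2 _ hn, Module.End.mul_apply]

/-- The core counting argument. -/
theorem coeff_eq_zero_of_support [Finite H] {N : Subgroup H} [N.Normal] (c : Ctx s r G0) (hN : N ≤ G0)
    (F : (N →* K) →₀ K) (O : Finset (N →* K)) (hO : O.card ≤ 2 * r)
    (hOs : ∀ ψ ∈ O, conjChar s ψ ∈ O) (hmoved : ∀ ψ ∈ O, conjChar s ψ ≠ ψ)
    (hF : ∀ ψ, F ψ ≠ 0 → ψ ∈ O) (N0 : Subgroup N)
    (hN0s : ∀ n : N, ∀ h : s⁻¹ * n * s ∈ N, n ∈ N0 → (⟨_, h⟩ : N) ∈ N0)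
    (hzero : ∀ n : N, n ∉ N0 → (F.sum fun ψ x => x * ψ n) = 0)
    {η : N →* K} (hη : ∀ n ∈ N0, η n = 1) (hηm : conjChar s η ≠ η) : F = 0 := by
  classical
  haveI hN' : N.Normal := inferInstance
  have hηs : ∀ (i : ℕ) (η : N →* K), (∀ n ∈ N0, η n = 1) → ∀ n ∈ N0, conjChar (s ^ i) η n = 1 := by
    intro i
    induction i with
    | zero => intro η h; rw [pow_zero, conjChar_one]; exact h
    | succ i ih =>
      intro η h
      rw [conjChar_pow_succ]
      exact ih _ fun n hn => h _ (hN0s n (hN'.conj_mem' _ n.2 s) hn)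
  have hOpow : ∀ (i : ℕ), ∀ ψ ∈ O, conjChar (s ^ i) ψ ∈ O := by
    intro i
    induction i with
    | zero => intro ψ h; rwa [pow_zero, conjChar_one]
    | succ i ih => intro ψ h; rw [conjChar_pow_succ]; exact ih _ (hOs ψ h)
  ext ψ
  by_contra hψ
  rw [Finsupp.coe_zero, Pi.zero_apply] at hψ
  have hin : ∀ θ : N →* K, (∀ n ∈ N0, θ n = 1) → ψ * θ ∈ O := fun θ hθ =>
    hF _ (by rwa [coeff_mul_eq F N0 hzero hθ])
  have hψm := hmoved ψ (hF ψ hψ)
  have hcm : ∀ (g : H) (a b : N →* K), conjChar g (a * b) = conjChar g a * conjChar g b := fun g a b => rfl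
  -- the translated cosets are different
  have hsep : ∀ (d : ℕ), ¬ r ∣ d → ∀ θ : N →* K, (∀ n ∈ N0, θ n = 1) → conjChar (s ^ d) ψ ≠ ψ * θ := by
    intro d hd θ hθ e
    obtain ⟨m, hm⟩ := Nat.exists_mul_mod_eq_one_of_coprime
      ((c.prime.coprime_iff_not_dvd).mpr hd).symm c.prime.one_lt
    have hall : ∀ k, ∃ θ' : N →* K, (∀ n ∈ N0, θ' n = 1) ∧ conjChar (s ^ (d * k)) ψ = ψ * θ' := by
      intro k
      induction k with
      | zero => exact ⟨1, fun n _ => rfl, by rw [mul_zero, pow_zero, conjChar_one, mul_one]⟩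
      | succ k ih =>
        obtain ⟨θ', hθ', e'⟩ := ih
        refine ⟨θ * conjChar (s ^ d) θ', fun n hn => ?_, ?_⟩
        · rw [MonoidHom.mul_apply, hθ n hn, hηs d θ' hθ' n hn, mul_one]
        · rw [mul_add, mul_one, add_comm, pow_add, conjChar_mul, e', hcm, e, mul_assoc]
    have hall' : ∀ i, ∃ θ' : N →* K, (∀ n ∈ N0, θ' n = 1) ∧ conjChar (s ^ i) ψ = ψ * θ' := fun i => by
      obtain ⟨θ', h1, h2⟩ := hall (m * i)
      refine ⟨θ', h1, ?_⟩
      rwa [← mul_assoc, ← pow_mod_eq c (d * m * i), Nat.mul_mod, hm.2, one_mul, Nat.mod_mod, pow_mod_eq c] at h2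
    choose Θ hΘ1 hΘ2 using hall'
    obtain ⟨k, hk⟩ : ∃ k, (r * k) % Nat.card N = 1 % Nat.card N := by
      rcases Nat.eq_or_lt_of_le (Nat.card_pos : 1 ≤ Nat.card N) with h1 | h1
      · exact ⟨0, by simp [← h1]⟩
      · obtain ⟨k, hk⟩ := Nat.exists_mul_mod_eq_one_of_coprime (n := r) (k := Nat.card N)
          (c.prime.coprime_iff_not_dvd.mpr fun h => c.cop (h.trans (Subgroup.card_dvd_of_le hN))) h1
        exact ⟨k, by rw [hk.2, Nat.one_mod_eq_one.mpr h1.ne']⟩
    set P : N →* K := ∏ i ∈ Finset.range r, conjChar (s ^ i) ψ with hP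
    have hprod : ∀ (g : H) (f : ℕ → N →* K),
        conjChar g (∏ i ∈ Finset.range r, f i) = ∏ i ∈ Finset.range r, conjChar g (f i) := fun g f =>
      map_prod ({ toFun := conjChar g, map_one' := rfl, map_mul' := hcm g } : (N →* K) →* (N →* K)) f _
    have hPfix : conjChar s P = P := by
      rw [hP, hprod]
      simp only [← conjChar_mul, ← pow_succ']
      obtain ⟨m', hm'⟩ : ∃ m', r = m' + 1 := ⟨r - 1, (Nat.succ_pred_eq_of_pos c.prime.pos).symm⟩
      rw [hm', Finset.prod_range_succ, Finset.prod_range_succ' (fun i => conjChar (s ^ i) ψ)]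
      rw [← hm', conjChar_pow_period c, pow_zero, conjChar_one]
    have hfix : conjChar s (P ^ k) = P ^ k := by
      rw [show conjChar s (P ^ k) = conjChar s P ^ k from
        map_pow ({ toFun := conjChar s, map_one' := rfl, map_mul' := hcm s } : (N →* K) →* (N →* K)) P k, hPfix]
    have hPψ : P ^ k = ψ * (∏ i ∈ Finset.range r, Θ i) ^ k := by
      rw [hP, Finset.prod_congr rfl fun i _ => hΘ2 i, Finset.prod_mul_distrib, Finset.prod_const,
        Finset.card_range, mul_pow, ← pow_mul]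
      congr 1
      ext n
      have hn : ψ n ^ (Nat.card N * r) = 1 := by
        rw [pow_mul, ← map_pow, pow_card_eq_one', map_one, one_pow]
      show ψ n ^ (r * k) = ψ n
      have hn : ψ n ^ Nat.card N = 1 := by rw [← map_pow, pow_card_eq_one', map_one]
      rw [pow_eq_pow_mod _ hn, hk, ← pow_eq_pow_mod _ hn, pow_one]
    have hθk : ∀ n ∈ N0, ((∏ i ∈ Finset.range r, Θ i) ^ k) n = 1 := fun n hn => by
      show (∏ i ∈ Finset.range r, Θ i) n ^ k = 1
      rw [MonoidHom.finsetProd_apply, Finset.prod_eq_one fun i _ => hΘ1 i n hn, one_pow]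
    exact hmoved _ (hin _ hθk) (by rw [← hPψ, hfix])
  -- three translates in each coset
  have hinv : ∀ θ : N →* K, θ * θ ^ (Nat.card N - 1) = 1 := fun θ => MonoidHom.ext fun n => by
    show θ n * θ n ^ (Nat.card N - 1) = 1
    rw [← pow_succ', Nat.sub_add_cancel Nat.card_pos, ← map_pow, pow_card_eq_one', map_one]
  let E : Fin 3 → (N →* K) := ![1, η, conjChar s η]
  have hE : ∀ e, ∀ n ∈ N0, E e n = 1 := by
    intro e
    fin_cases e
    · exact fun n _ => rfl
    · exact hη
    · exact fun n hn => (pow_one s ▸ hηs 1 η hη) n hn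
  have hEinj : Function.Injective E := by
    have h1 : η ≠ 1 := fun e => hηm (by rw [e]; rfl)
    have h2 : conjChar s η ≠ 1 := fun e => h1 (conjChar_injective s (e.trans rfl))
    intro a b
    fin_cases a <;> fin_cases b <;>
      simp [E, h1, h2, hηm, Ne.symm h1, Ne.symm h2, Ne.symm hηm]
  let Φ : Fin r × Fin 3 → O := fun x => ⟨conjChar (s ^ (x.1 : ℕ)) ψ * E x.2, by
    have h1 := hOpow x.1 _ (hin _ (hηs (r - x.1) _ (hE x.2)))
    rwa [hcm, ← conjChar_mul (s ^ (x.1 : ℕ)), ← pow_add, Nat.add_sub_cancel' x.1.2.le, conjChar_pow_period c] at h1⟩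
  have key : ∀ (i j : Fin r) (a b : Fin 3), i.1 < j.1 →
      conjChar (s ^ (i : ℕ)) ψ * E a ≠ conjChar (s ^ (j : ℕ)) ψ * E b := by
    intro i j a b hij h
    refine hsep ((j : ℕ) - i) (Nat.not_dvd_of_pos_of_lt (by omega) (by omega))
      (conjChar (s ^ (r - i : ℕ)) (E a * E b ^ (Nat.card N - 1))) (fun n hn => hηs _ _ (fun m hm => ?_) n hn) ?_
    · show E a m * E b m ^ (Nat.card N - 1) = 1
      rw [hE a m hm, hE b m hm, one_pow, mul_one]
    · have h1 : conjChar (s ^ (i : ℕ)) ψ * (E a * E b ^ (Nat.card N - 1)) = conjChar (s ^ (j : ℕ)) ψ := by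
        rw [← mul_assoc, h, mul_assoc, hinv, mul_one]
      have h2 := congrArg (conjChar (s ^ (r - i : ℕ))) h1
      rw [hcm, ← conjChar_mul, ← conjChar_mul, ← pow_add, ← pow_add, Nat.sub_add_cancel i.2.le,
        conjChar_pow_period c] at h2
      rw [h2, show r - (i : ℕ) + j = r + (j - i) by omega, pow_add, c.pow_eq, one_mul]
  have hΦ : Function.Injective Φ := by
    rintro ⟨i, a⟩ ⟨j, b⟩ h
    have h1 : conjChar (s ^ (i : ℕ)) ψ * E a = conjChar (s ^ (j : ℕ)) ψ * E b := congrArg Subtype.val h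
    rcases lt_trichotomy i.1 j.1 with h2 | h2 | h2
    · exact absurd h1 (key i j a b h2)
    · obtain rfl : i = j := Fin.ext h2
      refine Prod.ext rfl (hEinj (MonoidHom.ext fun n => ?_))
      have h3 := DFunLike.congr_fun h1 n
      exact mul_left_cancel₀ (char_ne_zero (conjChar (s ^ (i : ℕ)) ψ) n) h3
    · exact absurd h1.symm (key j i b a h2)
  have h3 := Fintype.card_le_of_injective Φ hΦ
  rw [Fintype.card_prod, Fintype.card_fin, Fintype.card_fin, Fintype.card_coe] at h3
  have := c.prime.pos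
  omega

/-- **Moved weights are fixed.** An element fixing the orbit sums of the moved members of a spanning
set fixes every weight space moved by `s`. -/
theorem rho_eq_of_moved_weight [Finite H] [IsAlgClosed K] [FiniteDimensional K W] (c : Ctx s r G0) {N : Subgroup H}
    [N.Normal] (hN : N ≤ G0) (hcard : (Nat.card N : K) ≠ 0)
    (hcomm : ∀ a ∈ N, ∀ b ∈ N, ρ a * ρ b = ρ b * ρ a) (S : Set W) (hspan : Submodule.span K S = ⊤)
    (hS : ∀ n ∈ N, ∀ u ∈ S, ρ n u ∈ S) {b : H} (hb : b ∈ G0) (hsb : s * b = b * s)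
    (hfix : Fixes ρ s r S b) {χ : N →* K} (hχ : conjChar s χ ≠ χ) {w : W} (hw : w ∈ eig ρ N χ) :
    ρ b w = w := by
  classical
  suffices key : ∀ u ∈ S, ρ b (proj ρ N χ u) = proj ρ N χ u by
    have h0 : (ρ b - 1) ∘ₗ proj ρ N χ = 0 := by
      refine LinearMap.ext_on hspan fun u hu => ?_
      show ρ b (proj ρ N χ u) - proj ρ N χ u = 0
      rw [key u hu, sub_self]
    have h1 := LinearMap.congr_fun h0 w
    rw [LinearMap.comp_apply, proj_eq_self hcard hw, LinearMap.sub_apply, Module.End.one_apply,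
      LinearMap.zero_apply, sub_eq_zero] at h1
    exact h1
  suffices key' : ∀ u ∈ S, ((∀ n ∈ N, ρ s (ρ n u) ≠ ρ n u) ∨ ρ s u = u) →
      ρ b (proj ρ N χ u) = proj ρ N χ u by
    intro u hu
    by_cases h : ∀ n ∈ N, ρ s (ρ n u) ≠ ρ n u
    · exact key' u hu (Or.inl h)
    · push Not at h
      obtain ⟨n, hn, hfx⟩ := h
      have h1 := key' _ (hS n hn u hu) (Or.inr hfx)
      rw [proj_rho_of_comm hcomm χ hn, proj_mem_eig χ u ⟨n, hn⟩, map_smul] at h1
      exact smul_right_injective W (char_ne_zero χ _) h1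
  intro u hu hcase
  set x := proj ρ N χ u with hxdef
  set χb := conjChar b⁻¹ χ with hχb
  let ι := Fin r ⊕ Fin r
  let ψ : ι → (N →* K) := Sum.elim (fun i => conjChar (s ^ (r - (i : ℕ))) χb)
    (fun i => conjChar (s ^ (r - (i : ℕ))) χ)
  let a : (W →ₗ[K] K) → ι → K := fun φ => Sum.elim
    (fun i => φ (ρ b (ρ (s ^ (i : ℕ)) (proj ρ N (conjChar (s ^ (r - (i : ℕ))) χb) u))))
    (fun i => -φ (ρ (s ^ (i : ℕ)) (proj ρ N (conjChar (s ^ (r - (i : ℕ))) χ) u)))
  let F : (W →ₗ[K] K) → ((N →* K) →₀ K) := fun φ => ∑ j, Finsupp.single (ψ j) (a φ j)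
  have hFn : ∀ (φ : W →ₗ[K] K) (n : N), ((F φ).sum fun χ' x => x * χ' n) =
      φ (proj ρ N χ (ρ b (avg ρ s r (ρ n u)) - avg ρ s r (ρ n u))) := by
    intro φ n
    have hcyc : ∀ (i : Fin r) (χ' : N →* K), conjChar (s ^ (i : ℕ)) (conjChar (s ^ (r - (i : ℕ))) χ') = χ' :=
      fun i χ' => by rw [← conjChar_mul, ← pow_add, Nat.add_sub_cancel' i.2.le, conjChar_pow_period c]
    have hterm : ∀ (i : Fin r) (χ' : N →* K), proj ρ N χ' (ρ (s ^ (i : ℕ)) (ρ n u)) =
        conjChar (s ^ (r - (i : ℕ))) χ' n • ρ (s ^ (i : ℕ)) (proj ρ N (conjChar (s ^ (r - (i : ℕ))) χ') u) := by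
      intro i χ'
      conv_lhs => rw [← hcyc i χ', ← rho_proj, proj_rho_of_comm hcomm _ n.2, proj_mem_eig _ u n, map_smul]
    have hb' : ∀ v, proj ρ N χ (ρ b v) = ρ b (proj ρ N χb v) := fun v => by
      rw [rho_proj, hχb, ← conjChar_mul, mul_inv_cancel, conjChar_one]
    simp only [avg_apply, map_sub, map_sum, hb', Finset.sum_range, hterm, map_smul, smul_eq_mul]
    rw [← Finsupp.sum_finsetSum_index (fun _ => zero_mul _) (fun _ _ _ => add_mul _ _ _),
      Fintype.sum_sum_type, ← Finset.sum_sub_distrib, ← Finset.sum_add_distrib]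
    refine Finset.sum_congr rfl fun i _ => ?_
    rw [Finsupp.sum_single_index (zero_mul _), Finsupp.sum_single_index (zero_mul _)]
    simp only [ψ, a, Sum.elim_inl, Sum.elim_inr]
    ring
  have hFsupp : ∀ φ ψ', F φ ψ' ≠ 0 → ∃ j, ψ j = ψ' := by
    intro φ ψ' h
    by_contra hne
    push Not at hne
    refine h ?_
    simp only [F, Finsupp.finsetSum_apply]
    exact Finset.sum_eq_zero fun j _ => Finsupp.single_eq_of_ne (hne j).symm
  have hF0 : ∀ φ, F φ = 0 := by
    intro φ
    have hsm : s⁻¹ * s = 1 := inv_mul_cancel s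
    rcases hcase with hall | hu0
    · refine linearCombination_char_eq_zero _ fun n => ?_
      rw [hFn, hfix _ (hS n n.2 u hu) (hall n n.2), sub_self, map_zero, map_zero]
    let N0 : Subgroup N :=
      { carrier := {n | ρ ((n : H)⁻¹ * (s * n * s⁻¹)) u = u}
        one_mem' := by simp
        mul_mem' := fun {m n} hm hn => by
          simp only [Set.mem_ofPred_eq] at hm hn ⊢
          have hmN : (m : H)⁻¹ * (s * m * s⁻¹) ∈ N :=
            N.mul_mem (N.inv_mem m.2) ((inferInstance : N.Normal).conj_mem _ m.2 s)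
          rw [show ((m * n : N) : H)⁻¹ * (s * (m * n : N) * s⁻¹) =
            (n : H)⁻¹ * ((m : H)⁻¹ * (s * m * s⁻¹)) * n * ((n : H)⁻¹ * (s * n * s⁻¹)) by
              simp [mul_assoc], rho_mul_apply, hn]
          rw [rho_mul_apply, rho_mul_apply, ← Module.End.mul_apply (ρ _) (ρ (n : H)),
            hcomm _ hmN _ n.2, Module.End.mul_apply, hm, rho_inv_apply]
        inv_mem' := fun {m} hm => by
          simp only [Set.mem_ofPred_eq] at hm ⊢
          have hmN : (m : H)⁻¹ * (s * m * s⁻¹) ∈ N :=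
            N.mul_mem (N.inv_mem m.2) ((inferInstance : N.Normal).conj_mem _ m.2 s)
          rw [show ((m⁻¹ : N) : H)⁻¹ * (s * (m⁻¹ : N) * s⁻¹) =
            m * ((m : H)⁻¹ * (s * m * s⁻¹))⁻¹ * (m : H)⁻¹ by simp [mul_assoc]]
          have h1 : ρ ((m : H)⁻¹ * (s * m * s⁻¹))⁻¹ u = u := by
            conv_lhs => rw [← hm]
            rw [rho_inv_apply]
          rw [rho_mul_apply, rho_mul_apply, ← Module.End.mul_apply (ρ _) (ρ ((m : H)⁻¹)),
            hcomm _ (N.inv_mem hmN) _ (N.inv_mem m.2), Module.End.mul_apply, h1, rho_apply_inv] }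
    have hsu : ρ s⁻¹ u = u := by
      conv_lhs => rw [← hu0]
      rw [rho_inv_apply]
    have hzero : ∀ n : N, n ∉ N0 → ((F φ).sum fun χ' x => x * χ' n) = 0 := by
      intro n hn
      rw [hFn, hfix _ (hS n n.2 u hu), sub_self, map_zero, map_zero]
      intro e
      refine hn ?_
      show ρ ((n : H)⁻¹ * (s * n * s⁻¹)) u = u
      rw [rho_mul_apply, rho_mul_apply, rho_mul_apply, hsu, e, rho_inv_apply]
    by_cases htop : ∀ n : N, n ∈ N0
    · -- all twists fix `u`: the moved component vanishes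
      have hx0 : ∀ ψ', conjChar s ψ' ≠ ψ' → proj ρ N ψ' u = 0 := by
        intro ψ' hm
        by_contra hne
        refine hm (MonoidHom.ext fun n => ?_)
        let n' : N := ⟨s⁻¹ * n * s, (inferInstance : N.Normal).conj_mem' _ n.2 s⟩
        have h1 := htop n'
        have hmN : (n' : H)⁻¹ * (s * n' * s⁻¹) ∈ N :=
          N.mul_mem (N.inv_mem n'.2) ((inferInstance : N.Normal).conj_mem _ n'.2 s)
        have h2 := proj_rho_of_comm (ρ := ρ) hcomm ψ' hmN u
        rw [show ρ ((n' : H)⁻¹ * (s * n' * s⁻¹)) u = u from h1, proj_mem_eig ψ' u ⟨_, hmN⟩,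
          show (⟨_, hmN⟩ : N) = n'⁻¹ * n from Subtype.ext (by simp [n', mul_assoc]), map_mul, char_inv] at h2
        rw [conjChar_apply]
        have h3 : (ψ' n')⁻¹ * ψ' n = 1 := smul_left_injective K hne (h2.symm.trans (one_smul K _).symm)
        rw [inv_mul_eq_one₀ (char_ne_zero ψ' _)] at h3
        exact h3
      simp only [F]
      refine Finset.sum_eq_zero fun j _ => ?_
      have : a φ j = 0 := by
        rcases j with i | i
        · show φ (ρ b (ρ _ (proj ρ N _ u))) = 0
          rw [hx0 _ (conjChar_moved (conjChar_moved hχ (show s * b⁻¹ = b⁻¹ * s from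
            ((show Commute s b from hsb).inv_right).eq)) (Commute.self_pow s _).eq)]
          simp
        · show -φ (ρ _ (proj ρ N _ u)) = 0
          rw [hx0 _ (conjChar_moved hχ (Commute.self_pow s _).eq)]
          simp
      rw [this, Finsupp.single_zero]
    push Not at htop
    obtain ⟨n1, hn1⟩ := htop
    obtain ⟨χ', hχ', hχ'0⟩ : ∃ χ' : N →* K,
        χ' ⟨(n1 : H)⁻¹ * (s * n1 * s⁻¹), N.mul_mem (N.inv_mem n1.2)
          ((inferInstance : N.Normal).conj_mem _ n1.2 s)⟩ ≠ 1 ∧ proj ρ N χ' u ≠ 0 := by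
      by_contra hcon
      push Not at hcon
      refine hn1 (sub_eq_zero.mp (eq_zero_of_forall_proj N hcard hcomm fun χ' => ?_))
      rw [map_sub, proj_rho_of_comm hcomm χ' (N.mul_mem (N.inv_mem n1.2)
          ((inferInstance : N.Normal).conj_mem _ n1.2 s)), sub_eq_zero,
        proj_mem_eig χ' u ⟨_, N.mul_mem (N.inv_mem n1.2) ((inferInstance : N.Normal).conj_mem _ n1.2 s)⟩]
      by_cases h0 : proj ρ N χ' u = 0
      · rw [h0, smul_zero]
      · have h2 : χ' ⟨(n1 : H)⁻¹ * (s * n1 * s⁻¹), N.mul_mem (N.inv_mem n1.2)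
            ((inferInstance : N.Normal).conj_mem _ n1.2 s)⟩ = 1 := by
          by_contra h2
          exact h0 (hcon _ h2)
        rw [h2, one_smul]
    let η : N →* K := χ' ^ (Nat.card N - 1) * conjChar s⁻¹ χ'
    have hpow : ∀ (θ : N →* K) (n : N), θ n ^ Nat.card N = 1 := fun θ n => by
      rw [← map_pow, pow_card_eq_one', map_one]
    have hηv : ∀ (n : N) (h : (n : H)⁻¹ * (s * n * s⁻¹) ∈ N), η n = χ' ⟨_, h⟩ := by
      intro n h
      show χ' n ^ (Nat.card N - 1) * conjChar s⁻¹ χ' n = _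
      rw [conjChar_apply]
      have h1 : χ' n ^ (Nat.card N - 1) = χ' n⁻¹ := by
        rw [char_inv]
        refine eq_inv_of_mul_eq_one_left ?_
        rw [← pow_succ, Nat.sub_add_cancel Nat.card_pos, hpow]
      rw [h1, ← map_mul]
      exact congrArg χ' (Subtype.ext (by simp))
    have hη1 : ∀ n ∈ N0, η n = 1 := by
      intro n hn
      have hmN : (n : H)⁻¹ * (s * n * s⁻¹) ∈ N :=
        N.mul_mem (N.inv_mem n.2) ((inferInstance : N.Normal).conj_mem _ n.2 s)
      rw [hηv n hmN]
      have h1 := congrArg (proj ρ N χ') (show ρ ((n : H)⁻¹ * (s * n * s⁻¹)) u = u from hn)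
      rw [proj_rho_of_comm hcomm χ' hmN, proj_mem_eig χ' u ⟨_, hmN⟩] at h1
      exact smul_left_injective K hχ'0 (h1.trans (one_smul K _).symm)
    have hηm : conjChar s η ≠ η := by
      intro e
      have hstep : conjChar s⁻¹ χ' = χ' * η := MonoidHom.ext fun n => by
        show _ = χ' n * (χ' n ^ (Nat.card N - 1) * conjChar s⁻¹ χ' n)
        rw [← mul_assoc, ← pow_succ', Nat.sub_add_cancel Nat.card_pos, hpow, one_mul]
      have e' : conjChar s⁻¹ η = η := by
        conv_lhs => rw [← e]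
        rw [← conjChar_mul, inv_mul_cancel, conjChar_one]
      have hiter : ∀ k, conjChar (s⁻¹ ^ k) χ' = χ' * η ^ k := by
        intro k
        induction k with
        | zero => rw [pow_zero, conjChar_one, pow_zero, mul_one]
        | succ k ih =>
          rw [pow_succ', conjChar_mul, ih, pow_succ', ← mul_assoc, ← hstep]
          ext n
          show conjChar s⁻¹ χ' n * conjChar s⁻¹ η n ^ _ = _
          rw [e']
          rfl
      have h1 := hiter r
      rw [inv_pow, c.pow_eq, inv_one, conjChar_one] at h1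
      apply hχ'
      rw [← hηv n1]
      have h2 : η n1 ^ r = 1 := by
        have := DFunLike.congr_fun h1 n1
        exact mul_left_cancel₀ (char_ne_zero χ' n1) (this.symm.trans (mul_one _).symm)
      have h3 := pow_gcd_eq_one.mpr ⟨h2, hpow η n1⟩
      rwa [(c.prime.coprime_iff_not_dvd.mpr fun h => c.cop (h.trans (Subgroup.card_dvd_of_le hN))).gcd_eq_one,
        pow_one] at h3
    let O : Finset (N →* K) := Finset.univ.image ψ
    refine coeff_eq_zero_of_support c hN (F φ) O ?_ ?_ ?_ ?_ N0 ?_ hzero hη1 hηm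
    · refine Finset.card_image_le.trans ?_
      simp [ι, two_mul]
    · intro ψ' h
      obtain ⟨j, -, rfl⟩ := Finset.mem_image.mp h
      have hnext : ∀ (θ : N →* K) (i : Fin r), ∃ i' : Fin r,
          conjChar (s ^ (r - (i' : ℕ))) θ = conjChar s (conjChar (s ^ (r - (i : ℕ))) θ) := by
        intro θ i
        rw [← conjChar_mul, ← pow_succ']
        by_cases h0 : (i : ℕ) = 0
        · refine ⟨⟨r - 1, by omega⟩, ?_⟩
          rw [show r - (r - 1) = 1 by omega, h0, Nat.sub_zero, pow_succ s r, c.pow_eq, one_mul, pow_one]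
        · exact ⟨⟨i - 1, by omega⟩, by rw [show r - ((i : ℕ) - 1) = r - i + 1 by omega]⟩
      rcases j with i | i
      · obtain ⟨i', hi'⟩ := hnext χb i
        exact Finset.mem_image.mpr ⟨Sum.inl i', Finset.mem_univ _, hi'⟩
      · obtain ⟨i', hi'⟩ := hnext χ i
        exact Finset.mem_image.mpr ⟨Sum.inr i', Finset.mem_univ _, hi'⟩
    · intro ψ' h
      obtain ⟨j, -, rfl⟩ := Finset.mem_image.mp h
      rcases j with i | i
      · exact conjChar_moved (conjChar_moved hχ (show s * b⁻¹ = b⁻¹ * s from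
          ((show Commute s b from hsb).inv_right).eq)) (Commute.self_pow s _).eq
      · exact conjChar_moved hχ (Commute.self_pow s _).eq
    · intro ψ' h
      obtain ⟨j, rfl⟩ := hFsupp φ ψ' h
      exact Finset.mem_image.mpr ⟨j, Finset.mem_univ _, rfl⟩
    · intro n h hn
      show ρ ((s⁻¹ * n * s)⁻¹ * (s * (s⁻¹ * n * s) * s⁻¹)) u = u
      rw [show (s⁻¹ * n * s)⁻¹ * (s * (s⁻¹ * n * s) * s⁻¹) = s⁻¹ * ((n : H)⁻¹ * (s * n * s⁻¹)) * s by group,
        rho_mul_apply, rho_mul_apply, hu0, show ρ ((n : H)⁻¹ * (s * n * s⁻¹)) u = u from hn, hsu]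
  -- the coefficient at `χ`
  have hcoef : ∀ φ : W →ₗ[K] K,
      (∑ i : Fin r, if conjChar (s ^ (r - (i : ℕ))) χb = χ
        then φ (ρ b (ρ (s ^ (i : ℕ)) (proj ρ N (conjChar (s ^ (r - (i : ℕ))) χb) u))) else 0) - φ x = 0 := by
    intro φ
    have h1 := DFunLike.congr_fun (hF0 φ) χ
    simp only [F, Finsupp.coe_zero, Pi.zero_apply, Finsupp.finsetSum_apply,
      Finsupp.single_apply, ψ, a] at h1
    erw [Fintype.sum_sum_type] at h1
    simp only [Sum.elim_inl, Sum.elim_inr] at h1
    have hz : ∀ i : Fin r, conjChar (s ^ (r - (i : ℕ))) χ = χ ↔ i = ⟨0, c.prime.pos⟩ := by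
      intro i
      constructor
      · intro e
        by_contra hne
        have hi : (i : ℕ) ≠ 0 := fun e' => hne (Fin.ext e')
        exact conjChar_pow_ne c hχ (Nat.not_dvd_of_pos_of_lt (by omega) (by omega)) e
      · rintro rfl
        exact conjChar_pow_period c χ
    simp only [hz, Finset.sum_ite_eq', Finset.mem_univ, if_true, pow_zero, map_one, Module.End.one_apply,
      Nat.sub_zero, c.pow_eq, conjChar_one, ← sub_eq_add_neg] at h1
    exact h1
  by_cases hbo : ∃ i : Fin r, conjChar (s ^ (r - (i : ℕ))) χb = χ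
  · obtain ⟨i, hi⟩ := hbo
    have e : conjChar b χ = conjChar (s ^ (r - (i : ℕ))) χ := by
      conv_lhs => rw [← hi]
      rw [← conjChar_mul, ← Ctx.conj_pow_eq hsb, conjChar_mul, hχb, ← conjChar_mul b, mul_inv_cancel,
        conjChar_one]
    have hχb' : χb = χ := by
      rw [hχb]
      conv_lhs => rw [← conjChar_eq_of_mem_orbit c hb hsb hχ e]
      rw [← conjChar_mul, inv_mul_cancel, conjChar_one]
    refine sub_eq_zero.mp ((Module.forall_dual_apply_eq_zero_iff K _).mp fun φ => ?_)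
    have h1 := hcoef φ
    simp only [hχb'] at h1
    rw [Finset.sum_eq_single (⟨0, c.prime.pos⟩ : Fin r)] at h1
    · simp only [Nat.sub_zero, c.pow_eq, conjChar_one, pow_zero, map_one, Module.End.one_apply, if_true] at h1
      rw [map_sub]
      exact h1
    · intro j _ hj
      refine if_neg fun e' => ?_
      have hj' : (j : ℕ) ≠ 0 := fun e'' => hj (Fin.ext e'')
      exact conjChar_pow_ne c hχ (Nat.not_dvd_of_pos_of_lt (by omega) (by omega)) e'
    · simp
  · push Not at hbo
    have hx0 : x = 0 := (Module.forall_dual_apply_eq_zero_iff K _).mp fun φ => by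
      have h1 := hcoef φ
      simpa [hbo] using h1
    rw [hx0, map_zero]

end CfsgLib.Turull
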