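import Cfsg.Agent.Lib.Turull.Component
import Cfsg.Agent.Lib.Turull.Fourier
import Cfsg.Agent.Lib.HallHigman.FullyRamified

/-!
# Components without fixed vectors and operators fixing the fixed vectors
-/

set_option autoImplicit false
set_option linter.style.haveILetI false

namespace CfsgLib.Turull

open Module (End)
open CfsgLib.HallHigman
open scoped commutatorElement

variable {K W H : Type*} [Field K] [AddCommGroup W] [Module K W] [Group H] [Finite H]
  {ρ : H →* End K W} {s : H} {r : ℕ} {G0 : Subgroup H}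

/-- The orbit sum of a vector with moved weight is not zero. -/
theorem proj_avg_of_moved (c : Ctx s r G0) {N : Subgroup H} [N.Normal] (hcard : (Nat.card N : K) ≠ 0)
    {χ : N →* K} (hχ : conjChar s χ ≠ χ) {w : W} (hw : w ∈ eig ρ N χ) :
    proj ρ N χ (avg ρ s r w) = w := by
  rw [avg_apply, map_sum, Finset.sum_eq_single 0]
  · rw [pow_zero, map_one, Module.End.one_apply, proj_eq_self hcard hw]
  · intro i hi hi0
    refine proj_eq_zero ?_ (apply_mem_eig _ hw)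
    exact Ne.symm (conjChar_pow_ne c hχ (Nat.not_dvd_of_pos_of_lt (Nat.pos_of_ne_zero hi0) (Finset.mem_range.mp hi)))
  · intro h
    exact absurd (Finset.mem_range.mpr c.prime.pos) h

/-- Without fixed vectors every weight is fixed. -/
theorem weight_fixed_of_no_fixed (c : Ctx s r G0) {N : Subgroup H} [N.Normal] (hcard : (Nat.card N : K) ≠ 0)
    (hno : ∀ w, ρ s w = w → w = 0) {χ : N →* K} (hχ : eig ρ N χ ≠ ⊥) : conjChar s χ = χ := by
  by_contra hm
  obtain ⟨w, hw, h0⟩ := Submodule.exists_mem_ne_zero_of_ne_bot hχ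
  have h1 := proj_avg_of_moved (ρ := ρ) c hcard hm hw
  rw [hno _ (rho_avg c w), map_zero] at h1
  exact h0 h1.symm

theorem natCast_ne_zero_of_dvd {m n : ℕ} (h : m ∣ n) (hn : (n : K) ≠ 0) : (m : K) ≠ 0 := by
  obtain ⟨k, rfl⟩ := h
  rw [Nat.cast_mul] at hn
  exact left_ne_zero_of_mul hn

theorem exists_primRoot [IsAlgClosed K] (hr : (r : K) ≠ 0) : ∃ ω : K, IsPrimitiveRoot ω r := by
  haveI : NeZero (r : K) := ⟨hr⟩
  exact HasEnoughRootsOfUnity.exists_primitiveRoot K r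

section

variable {T : Subgroup H} [T.Normal] {V : Submodule K W} {U : Submodule K V}

theorem intertwiner_injective {Q : Type*} [Group Q] {ρ0 : Q →* End K U} (hirr : IsIrred ρ0)
    {π : Q →* End K V} {f : U →ₗ[K] V} (hf : f ≠ 0) (hfg : ∀ g, π g ∘ₗ f = f ∘ₗ ρ0 g) :
    Function.Injective f := by
  rw [← LinearMap.ker_eq_bot]
  refine (hirr _ fun g w hw => ?_).resolve_right fun h => hf (LinearMap.ker_eq_top.mp h)
  rw [LinearMap.mem_ker] at hw ⊢
  have h := LinearMap.congr_fun (hfg g) w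
  rw [LinearMap.comp_apply, LinearMap.comp_apply, hw, map_zero] at h
  exact h.symm

variable [IsAlgClosed K] [FiniteDimensional K W]

/-- A component on which `s` has no fixed vector. -/
theorem no_fixed_exception [Nontrivial W] (c : Ctx s r G0) (hr : (r : K) ≠ 0) (hTG : T ≤ G0) {p : ℕ}
    (hp : p.Prime) (hTp : IsPGroup p T) (hcard : (Nat.card T : K) ≠ 0)
    (hcl : ∀ a ∈ T, ∀ b ∈ T, ∃ e : K, ρ ⁅a, b⁆ = e • 1) (hCT : ∀ x ∈ T, s * x = x * s → x ∈ rad ρ T)
    (hne : ¬ T ≤ rad ρ T) (hno : ∀ w, ρ s w = w → w = 0) :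
    p = 2 ∧ ∃ m, r = 2 ^ m + 1 ∧ (rad ρ T).relIndex T = 2 ^ (2 * m) := by
  classical
  haveI : Fact r.Prime := ⟨c.prime⟩
  haveI : Fact p.Prime := ⟨hp⟩
  set N := rad ρ T with hN
  have hNcard : (Nat.card N : K) ≠ 0 := natCast_ne_zero_of_dvd (Subgroup.card_dvd_of_le rad_le) hcard
  obtain ⟨χ, hχ⟩ : ∃ χ : N →* K, eig ρ N χ ≠ ⊥ := by
    by_contra hcon
    push Not at hcon
    have h := iSup_eig (ρ := ρ) N hNcard rad_comm
    simp only [hcon, iSup_bot] at h
    exact bot_ne_top h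
  set V := eig ρ N χ with hVdef
  have hfix := weight_fixed_of_no_fixed c hNcard hno hχ
  have hsV : s ∈ stab ρ V := fun w hw => by
    have := apply_mem_eig (ρ := ρ) s hw
    rwa [hfix] at this
  have hTV : T ≤ stab ρ V := fun t ht w hw n => by
    rw [← Module.End.mul_apply, n.2.2 t ht, Module.End.mul_apply, hw n, map_smul]
  obtain ⟨U, ρ0, hU, hirr, hinj, hclQ, hram, hLU, hidx, hfixQ, hzfix, hcen⟩ :=
    exists_model c hTG hcl hχ hTV hsV (fun x hx => ⟨χ ⟨x, hx⟩, fun w hw => hw ⟨x, hx⟩⟩) hCT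
  haveI := hU
  set σ := imageAut hTV ⟨s, hsV⟩ with hσdef
  have hσ : σ ^ r = 1 := by
    rw [hσdef, ← map_pow, show (⟨s, hsV⟩ : stab ρ V) ^ r = 1 from Subtype.ext c.pow_eq, map_one]
  obtain ⟨T0, hT0, hT0ρ⟩ := exists_twist hirr hclQ hram σ c.prime.pos hσ fun z hz => by
    rw [hzfix _ z hz]
  set S := restr ρ V ⟨s, hsV⟩ with hSdef
  have hS : S ^ r = 1 := by
    rw [hSdef, ← map_pow, show (⟨s, hsV⟩ : stab ρ V) ^ r = 1 from Subtype.ext c.pow_eq, map_one]
  obtain ⟨φ, μ, hμ, hφ0, hφ, hφT⟩ := exists_equivariant_map_up_to_root ρ0 (liftSub ρ V hTV) σ T0 S c.prime.pos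
    hT0 hS hT0ρ (fun g => restr_mul_lift hTV ⟨s, hsV⟩ g) U.subtype
    (fun h => by
      obtain ⟨u, hu⟩ := exists_ne (0 : U)
      exact hu (Subtype.ext (LinearMap.congr_fun h u)))
    (fun g => LinearMap.ext fun u => hLU g u)
  obtain ⟨ω, hω⟩ := exists_primRoot (K := K) hr
  obtain ⟨i, hi, hie⟩ := hω.eq_pow_of_pow_eq_one (ξ := μ⁻¹) (by rw [inv_pow, hμ, inv_one])
  have hμ0 : μ ≠ 0 := fun e => by rw [e, zero_pow c.prime.ne_zero] at hμ; exact zero_ne_one hμ
  have hφinj := intertwiner_injective hirr hφ0 hφ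
  have hne' : ∃ g, g ∉ Subgroup.center (T ⧸ (onSub ρ V hTV).ker) := by
    obtain ⟨x, hx, hxN⟩ := SetLike.not_le_iff_exists.mp hne
    exact ⟨_, fun h => hxN ((hcen ⟨x, hx⟩).mp h)⟩
  obtain ⟨hd, hY⟩ := finrank_add_one_of_missing hirr hclQ hram σ hσ hfixQ hne' hω hT0 hT0ρ (i : ZMod r)
    fun x hx => by
      rw [ZMod.val_natCast, Nat.mod_eq_of_lt hi, hie] at hx
      have h1 : S (φ x) = φ x := by
        rw [hφT, LinearMap.smul_apply, hx, smul_smul, mul_inv_cancel₀ hμ0, one_smul]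
      have h2 := hno ((φ x : V) : W) (congrArg Subtype.val h1)
      exact hφinj (by rw [map_zero]; exact Subtype.ext h2)
  rw [hidx] at hY
  obtain ⟨n, hn⟩ := IsPGroup.iff_card.mp hTp
  obtain ⟨a, -, ha⟩ := (Nat.dvd_prime_pow hp).mp (hn ▸ Subgroup.relIndex_dvd_card N T)
  have hr2 : r ≠ 2 := fun e => by
    subst e
    exact hne (Subgroup.relIndex_eq_one.mp hY)
  obtain ⟨m, -, hm⟩ := (Nat.dvd_prime_pow hp).mp
    (show r - 1 ∣ p ^ a by rw [← ha, hY, pow_two]; exact dvd_mul_right _ _)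
  have h2 : 2 ∣ r - 1 := by
    obtain ⟨k, hk⟩ := c.prime.odd_of_ne_two hr2
    exact ⟨k, by omega⟩
  rw [hm] at h2
  have hp2 : p = 2 := ((Nat.prime_dvd_prime_iff_eq Nat.prime_two hp).mp (Nat.prime_two.dvd_of_dvd_pow h2)).symm
  subst hp2
  have := c.prime.two_le
  exact ⟨rfl, m, by omega, by rw [hY, hm, ← pow_mul, mul_comm m 2]⟩

/-- An element fixing every fixed vector of a component on which the centre of the image is scalar. -/
theorem scalar_action [Nontrivial W] (c : Ctx s r G0) (hr : (r : K) ≠ 0) (hTG : T ≤ G0) {p : ℕ}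
    (hp : p.Prime) (hTp : IsPGroup p T) (hcl : ∀ a ∈ T, ∀ b ∈ T, ∃ e : K, ρ ⁅a, b⁆ = e • 1)
    (hscal : ∀ x ∈ rad ρ T, ∃ e : K, ρ x = e • 1) (hCT : ∀ x ∈ T, s * x = x * s → x ∈ rad ρ T)
    {b : H} (hbG : b ∈ G0) (hsb : s * b = b * s) (hbp : (orderOf b).Coprime p)
    (hbC : ∀ w, ρ s w = w → ρ b w = w) {q : ℕ} (hq : q.Prime)
    (hbq : ∀ t ∈ T, t⁻¹ * (b ^ q * t * (b ^ q)⁻¹) ∈ rad ρ T)
    (hbne : ∃ t ∈ T, t⁻¹ * (b * t * b⁻¹) ∉ rad ρ T) :
    q = 2 ∧ (rad ρ T).relIndex T = (2 * r - 1) ^ 2 := by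
  classical
  haveI : Fact r.Prime := ⟨c.prime⟩
  haveI : Fact p.Prime := ⟨hp⟩
  haveI : Fact q.Prime := ⟨hq⟩
  set V : Submodule K W := ⊤ with hVdef
  have hall : ∀ g, g ∈ stab ρ V := fun g w _ => Submodule.mem_top
  have hTV : T ≤ stab ρ V := fun t _ => hall t
  obtain ⟨U, ρ0, hU, hirr, hinj, hclQ, hram, hLU, hidx, hfixQ, hzfix, hcen⟩ :=
    exists_model (V := V) c hTG hcl top_ne_bot hTV (hall s) (fun x hx => by
      obtain ⟨e, he⟩ := hscal x hx
      exact ⟨e, fun w _ => by rw [he, LinearMap.smul_apply, Module.End.one_apply]⟩) hCT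
  haveI := hU
  set σ := imageAut hTV ⟨s, hall s⟩ with hσdef
  set β := imageAut hTV ⟨b, hall b⟩ with hβdef
  have hσ : σ ^ r = 1 := by
    rw [hσdef, ← map_pow, show (⟨s, hall s⟩ : stab ρ V) ^ r = 1 from Subtype.ext c.pow_eq, map_one]
  have hβo : β ^ orderOf b = 1 := by
    rw [hβdef, ← map_pow, show (⟨b, hall b⟩ : stab ρ V) ^ orderOf b = 1 from Subtype.ext (pow_orderOf_eq_one b),
      map_one]
  have hcomm : ∀ g, σ (β g) = β (σ g) := fun g => by
    rw [← MulAut.mul_apply, ← MulAut.mul_apply, hσdef, hβdef, ← map_mul, ← map_mul,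
      show (⟨s, hall s⟩ : stab ρ V) * ⟨b, hall b⟩ = ⟨b, hall b⟩ * ⟨s, hall s⟩ from Subtype.ext hsb]
  obtain ⟨N, hN⟩ := IsPGroup.iff_card.mp (hTp.to_quotient (onSub ρ V hTV).ker)
  have hco : ∀ {m : ℕ}, m.Coprime p → m.Coprime (Nat.card (T ⧸ (onSub ρ V hTV).ker)) := fun h => by
    rw [hN]; exact h.pow_right N
  have hβq : β ^ q = 1 := by
    refine mulAut_eq_one _ (Subgroup.center _) (n := orderOf b)
      (by rw [← pow_mul, mul_comm, pow_mul, hβo, one_pow]) (hco hbp)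
      (fun z hz => ?_) fun g => ?_
    · rw [hβdef, ← map_pow]
      exact hzfix _ z hz
    · induction g using QuotientGroup.induction_on with
      | H x =>
        rw [hβdef, ← map_pow, imageAut_mk, ← QuotientGroup.mk_inv, ← QuotientGroup.mk_mul, hcen]
        simp only [Subgroup.coe_mul, Subgroup.coe_inv, SubgroupClass.coe_pow, MulAut.conjNormal_apply]
        exact hbq x x.2
  obtain ⟨t0, ht0, htne⟩ := hbne
  have hne' : ∃ g, g⁻¹ * β g ∉ Subgroup.center (T ⧸ (onSub ρ V hTV).ker) := by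
    refine ⟨((⟨t0, ht0⟩ : T) : T ⧸ _), fun h => htne ?_⟩
    rw [hβdef, imageAut_mk, ← QuotientGroup.mk_inv, ← QuotientGroup.mk_mul, hcen] at h
    simpa [MulAut.conjNormal_apply] using h
  have hβ1 : β ≠ 1 := fun e => by
    obtain ⟨g, hg⟩ := hne'
    exact hg (by rw [e, MulAut.one_apply, inv_mul_cancel]; exact one_mem _)
  have hord : ∀ {k : ℕ}, k.Coprime (orderOf b) → β ^ k = 1 → False := fun hk h => hβ1 (by
    have h2 := pow_gcd_eq_one.mpr ⟨h, hβo⟩
    rwa [hk.gcd_eq_one, pow_one] at h2)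
  have hrq : r ≠ q := fun e => hord (e ▸ c.coprime_orderOf hbG) hβq
  have hpY : ¬ q ∣ Nat.card ((T ⧸ (onSub ρ V hTV).ker) ⧸ Subgroup.center (T ⧸ (onSub ρ V hTV).ker)) := by
    intro hd
    have h1 := hd.trans (Subgroup.card_quotient_dvd_card _)
    rw [hN] at h1
    have h2 := (Nat.prime_dvd_prime_iff_eq hq hp).mp (hq.dvd_of_dvd_pow h1)
    exact hord (h2 ▸ hbp.symm) hβq
  obtain ⟨T0, hT0, hT0ρ⟩ := exists_twist hirr hclQ hram σ c.prime.pos hσ fun z hz => by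
    rw [hzfix _ z hz]
  obtain ⟨B0, hB0, hB0ρ⟩ := exists_twist hirr hclQ hram β hq.pos hβq fun z hz => by
    rw [hzfix _ z hz]
  set S := restr ρ V ⟨s, hall s⟩ with hSdef
  set Sb := restr ρ V ⟨b, hall b⟩ with hSbdef
  have hS : S ^ r = 1 := by
    rw [hSdef, ← map_pow, show (⟨s, hall s⟩ : stab ρ V) ^ r = 1 from Subtype.ext c.pow_eq, map_one]
  obtain ⟨φ, μ, hμ, hφ0, hφ, hφT⟩ := exists_equivariant_map_up_to_root ρ0 (liftSub ρ V hTV) σ T0 S c.prime.pos
    hT0 hS hT0ρ (fun g => restr_mul_lift hTV ⟨s, hall s⟩ g) U.subtype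
    (fun h => by
      obtain ⟨u, hu⟩ := exists_ne (0 : U)
      exact hu (Subtype.ext (LinearMap.congr_fun h u)))
    (fun g => LinearMap.ext fun u => hLU g u)
  obtain ⟨ω, hω⟩ := exists_primRoot (K := K) hr
  obtain ⟨i, hi, hie⟩ := hω.eq_pow_of_pow_eq_one (ξ := μ⁻¹) (by rw [inv_pow, hμ, inv_one])
  have hμ0 : μ ≠ 0 := fun e => by rw [e, zero_pow c.prime.ne_zero] at hμ; exact zero_ne_one hμ
  have hφinj := intertwiner_injective hirr hφ0 hφ
  have hfixφ : ∀ x, T0 x = μ⁻¹ • x → Sb (φ x) = φ x := fun x hx => by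
    have h1 : S (φ x) = φ x := by
      rw [hφT, LinearMap.smul_apply, hx, smul_smul, mul_inv_cancel₀ hμ0, one_smul]
    exact Subtype.ext (hbC _ (congrArg Subtype.val h1))
  -- the second intertwiner
  have hB' : ∀ g, B0 ^ (q - 1) * ρ0 (β g) = ρ0 g * B0 ^ (q - 1) := fun g => by
    have e1 : B0 ^ (q - 1) * B0 = 1 := by rw [← pow_succ, Nat.sub_add_cancel hq.pos, hB0]
    have e2 : B0 * B0 ^ (q - 1) = 1 := by rw [← pow_succ', Nat.sub_add_cancel hq.pos, hB0]
    calc B0 ^ (q - 1) * ρ0 (β g) = B0 ^ (q - 1) * (ρ0 (β g) * B0) * B0 ^ (q - 1) := by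
          rw [mul_assoc, mul_assoc, e2, mul_one]
      _ = B0 ^ (q - 1) * (B0 * ρ0 g) * B0 ^ (q - 1) := by rw [hB0ρ]
      _ = ρ0 g * B0 ^ (q - 1) := by rw [← mul_assoc (B0 ^ (q - 1)), e1, one_mul]
  set ψ : U →ₗ[K] V := Sb ∘ₗ φ ∘ₗ (B0 ^ (q - 1)) with hψdef
  have hψ : ∀ g, liftSub ρ V hTV g ∘ₗ ψ = ψ ∘ₗ ρ0 g := fun g => by
    obtain ⟨g', rfl⟩ : ∃ g', β g' = g := ⟨β.symm g, β.apply_symm_apply g⟩
    refine LinearMap.ext fun u => ?_
    have h1 := LinearMap.congr_fun (hB' g') u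
    have h2 := LinearMap.congr_fun (restr_mul_lift hTV ⟨b, hall b⟩ g') (φ ((B0 ^ (q - 1)) u))
    have h3 := LinearMap.congr_fun (hφ g') ((B0 ^ (q - 1)) u)
    simp only [Module.End.mul_apply, LinearMap.comp_apply] at h1 h2 h3
    simp only [hψdef, LinearMap.comp_apply]
    rw [h1, ← h3, h2]
  obtain ⟨cB, hscalB⟩ : ∃ cB : K, ∀ x, T0 x = ω ^ ((i : ZMod r)).val • x → B0 x = cB • x := by
    simp only [ZMod.val_natCast, Nat.mod_eq_of_lt hi, hie]
    by_cases hex : ∀ x, T0 x = μ⁻¹ • x → x = 0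
    · exact ⟨0, fun x hx => by rw [hex x hx, map_zero, smul_zero]⟩
    push Not at hex
    obtain ⟨x0, hx0, hx00⟩ := hex
    have hψB : ∀ x, ψ (B0 x) = Sb (φ x) := fun x => by
      simp only [hψdef, LinearMap.comp_apply]
      rw [← Module.End.mul_apply (B0 ^ (q - 1)), ← pow_succ, Nat.sub_add_cancel hq.pos, hB0,
        Module.End.one_apply]
    have htop : (LinearMap.range φ).comap ψ = ⊤ := by
      refine (hirr _ fun g u hu => ?_).resolve_left fun hbot => ?_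
      · obtain ⟨v, hv⟩ := hu
        refine ⟨ρ0 g v, ?_⟩
        rw [← LinearMap.comp_apply φ, ← hφ g, LinearMap.comp_apply, hv, ← LinearMap.comp_apply, hψ g,
          LinearMap.comp_apply]
      · have hy : B0 x0 ∈ (LinearMap.range φ).comap ψ := ⟨x0, by rw [hψB, hfixφ x0 hx0]⟩
        rw [hbot, Submodule.mem_bot] at hy
        apply hx00
        have := congrArg (B0 ^ (q - 1)) hy
        rwa [← Module.End.mul_apply, ← pow_succ, Nat.sub_add_cancel hq.pos, hB0, Module.End.one_apply,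
          map_zero] at this
    have hmem : ∀ u, ψ u ∈ LinearMap.range φ := fun u => by
      have : u ∈ (LinearMap.range φ).comap ψ := htop ▸ Submodule.mem_top
      exact this
    let e : End K U := (LinearEquiv.ofInjective φ hφinj).symm.toLinearMap ∘ₗ ψ.codRestrict _ hmem
    have hφe : ∀ u, φ (e u) = ψ u := fun u =>
      congrArg Subtype.val ((LinearEquiv.ofInjective φ hφinj).apply_symm_apply (ψ.codRestrict _ hmem u))
    obtain ⟨k, hk⟩ := exists_eq_smul_one hirr e fun g => LinearMap.ext fun u => hφinj (by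
      rw [Module.End.mul_apply, Module.End.mul_apply, hφe, ← LinearMap.comp_apply ψ, ← hψ g,
        LinearMap.comp_apply, ← hφe, ← LinearMap.comp_apply, hφ g, LinearMap.comp_apply])
    have hkB : ∀ x, T0 x = μ⁻¹ • x → k • B0 x = x := fun x hx => hφinj (by
      rw [map_smul, ← hfixφ x hx, ← hψB, ← hφe (B0 x), hk, LinearMap.smul_apply, Module.End.one_apply,
        map_smul])
    have hk0 : k ≠ 0 := fun h => hx00 (by rw [← hkB x0 hx0, h, zero_smul])
    exact ⟨k⁻¹, fun x hx => by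
      conv_rhs => rw [← hkB x hx]
      rw [smul_smul, inv_mul_cancel₀ hk0, one_smul]⟩
  obtain ⟨h1, h2⟩ := scalar_exception hirr hinj hclQ hram σ β hrq hσ hβq hcomm hfixQ
    (fun z hz => hzfix _ z hz) hpY hne' hω hT0 hT0ρ hB0 hB0ρ (i : ZMod r) cB hscalB
  exact ⟨h1, hidx ▸ h2⟩

end

end CfsgLib.Turull
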