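import Cfsg.Agent.Lib.Turull.OrbitCount
import Cfsg.Agent.Lib.HallHigman.FullyRamified

/-!
# The eigenvalue multiplicities of a fixed-point-free twist of a fully ramified representation

If `σ` has prime order `r`, centralises the centre and is fixed-point-free modulo it, all but one eigenvalue
multiplicity of the twisting operator are equal, and the exceptional one differs by one.
-/

set_option autoImplicit false
set_option linter.style.haveILetI false

namespace CfsgLib.Turull

open Module (End)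
open CfsgLib.HallHigman
open scoped commutatorElement

variable {K U Q : Type*} [Field K] [AddCommGroup U] [Module K U] [Group Q]

/-- Conjugation by an operator of period `n`. -/
noncomputable def conjOp (T : End K U) (n : ℕ) : End K (End K U) :=
  LinearMap.mulLeft K T ∘ₗ LinearMap.mulRight K (T ^ (n - 1))

theorem conjOp_apply (T : End K U) (n : ℕ) (x : End K U) : conjOp T n x = T * (x * T ^ (n - 1)) := rfl

theorem conjOp_eigen_iff {T : End K U} {n : ℕ} (hn : 0 < n) (hT : T ^ n = 1) (κ : K) (x : End K U) :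
    x ∈ (conjOp T n).eigenspace κ ↔ T * x = κ • (x * T) := by
  have h1 : T ^ (n - 1) * T = 1 := by rw [← pow_succ, Nat.sub_add_cancel hn, hT]
  have h2 : T * T ^ (n - 1) = 1 := by rw [← pow_succ', Nat.sub_add_cancel hn, hT]
  rw [Module.End.mem_eigenspace_iff, conjOp_apply]
  constructor
  · intro h
    calc T * x = T * (x * T ^ (n - 1)) * T := by rw [mul_assoc, mul_assoc, h1, mul_one]
      _ = κ • (x * T) := by rw [h, smul_mul_assoc]
  · intro h
    rw [← mul_assoc, h, smul_mul_assoc, mul_assoc, h2, mul_one]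

/-- The permutation of the cosets of the centre induced by an automorphism. -/
noncomputable def cosetPerm (σ : MulAut Q) : Equiv.Perm (Q ⧸ Subgroup.center Q) :=
  (QuotientGroup.congr _ _ σ (Subgroup.characteristic_iff_map_eq.mp inferInstance σ)).toEquiv

theorem cosetPerm_mk (σ : MulAut Q) (g : Q) :
    cosetPerm σ (g : Q ⧸ Subgroup.center Q) = ((σ g : Q) : Q ⧸ Subgroup.center Q) := rfl

theorem cosetPerm_pow_mk (σ : MulAut Q) (i : ℕ) (g : Q) :
    ((cosetPerm σ) ^ i) (g : Q ⧸ Subgroup.center Q) = (((σ ^ i) g : Q) : Q ⧸ Subgroup.center Q) := by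
  induction i generalizing g with
  | zero => rfl
  | succ i ih => rw [pow_succ, Equiv.Perm.mul_apply, cosetPerm_mk, ih, pow_succ, MulAut.mul_apply]

theorem cosetPerm_pow_eq_one (σ : MulAut Q) {n : ℕ} (hσ : σ ^ n = 1) : cosetPerm σ ^ n = 1 := by
  refine Equiv.ext fun a => ?_
  induction a using QuotientGroup.induction_on with
  | H g => rw [cosetPerm_pow_mk, hσ]; rfl

theorem cosetPerm_one (σ : MulAut Q) : cosetPerm σ 1 = 1 := by
  rw [← QuotientGroup.mk_one, cosetPerm_mk, map_one]

/-- A permutation of prime period moving a point moves it freely. -/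
theorem perm_free_of_moved {α : Type*} {π : Equiv.Perm α} {r : ℕ} (hr : r.Prime) (hπ : π ^ r = 1) {a : α}
    (ha : π a ≠ a) {i : ℕ} (hi0 : 0 < i) (hi : i < r) : (π ^ i) a ≠ a := fun e => ha (by
  obtain ⟨k, hk⟩ := Nat.exists_mul_mod_eq_one_of_coprime
    (hr.coprime_iff_not_dvd.mpr (Nat.not_dvd_of_pos_of_lt hi0 hi)).symm hr.one_lt
  have h1 : ∀ m, ((π ^ i) ^ m) a = a := fun m => by
    induction m with
    | zero => rfl
    | succ m ih => rw [pow_succ, Equiv.Perm.mul_apply, e, ih]
  have h2 := h1 k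
  rwa [← pow_mul, pow_eq_pow_mod (i * k) hπ, hk.2, pow_one] at h2)

theorem twist_eq_conj (σ : MulAut Q) {ρ : Q →* End K U} {T : End K U} {n : ℕ} (hn : 0 < n)
    (hT : T ^ n = 1) (hTρ : ∀ g, T * ρ g = ρ (σ g) * T) (g : Q) : conjOp T n (ρ g) = ρ (σ g) := by
  rw [conjOp_apply, ← mul_assoc, hTρ, mul_assoc, ← pow_succ', Nat.sub_add_cancel hn, hT, mul_one]

variable [IsAlgClosed K] [FiniteDimensional K U] [Nontrivial U] [Finite Q]

/-- The basis of coset operators. -/
noncomputable def cosetBasis {ρ : Q →* End K U} (hirr : IsIrred ρ)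
    (hcl : ∀ g h : Q, ⁅g, h⁆ ∈ Subgroup.center Q) (hram : IsFullyRamified ρ) :
    Module.Basis (Q ⧸ Subgroup.center Q) K (End K U) :=
  Module.Basis.mk (linearIndependent_cosetOp hirr hcl hram) (span_cosetOp_eq_top hirr).ge

omit [Finite Q] in
theorem isMono_conjOp {ρ : Q →* End K U} (hirr : IsIrred ρ)
    (hcl : ∀ g h : Q, ⁅g, h⁆ ∈ Subgroup.center Q) (hram : IsFullyRamified ρ) (σ : MulAut Q) {T : End K U}
    {n : ℕ} (hn : 0 < n) (hT : T ^ n = 1) (hTρ : ∀ g, T * ρ g = ρ (σ g) * T) :
    IsMono (cosetBasis hirr hcl hram) (conjOp T n) (cosetPerm σ) := fun a => by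
  obtain ⟨θ, -, hθ⟩ := exists_smul_cosetOp hirr (σ a.out)
  refine ⟨θ, ?_⟩
  unfold cosetBasis
  rw [Module.Basis.mk_apply, Module.Basis.mk_apply]
  show conjOp T n (ρ a.out) = _
  rw [twist_eq_conj σ hn hT hTρ, hθ, ← cosetPerm_mk, QuotientGroup.out_eq']

omit [Finite Q] in
theorem cosetBasis_one {ρ : Q →* End K U} (hirr : IsIrred ρ)
    (hcl : ∀ g h : Q, ⁅g, h⁆ ∈ Subgroup.center Q) (hram : IsFullyRamified ρ) :
    ∃ c : K, c ≠ 0 ∧ cosetBasis hirr hcl hram 1 = c • 1 := by
  unfold cosetBasis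
  rw [Module.Basis.mk_apply]
  refine exists_scalar_of_mem_center hirr ?_
  rw [← QuotientGroup.eq_one_iff, QuotientGroup.out_eq']

omit [Finite Q] in
/-- Membership in the part off the centre. -/
theorem eigen_decomp_one {ρ : Q →* End K U} (hirr : IsIrred ρ)
    (hcl : ∀ g h : Q, ⁅g, h⁆ ∈ Subgroup.center Q) (hram : IsFullyRamified ρ) (σ : MulAut Q) {T : End K U}
    {n : ℕ} (hn : 0 < n) (hT : T ^ n = 1) (hTρ : ∀ g, T * ρ g = ρ (σ g) * T) {κ : K} {x : End K U}
    (hx : x ∈ (conjOp T n).eigenspace κ) :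
    ∃ (y : End K U) (c : K),
      y ∈ (conjOp T n).eigenspace κ ⊓ suppSpace (cosetBasis hirr hcl hram) {a | a ≠ 1} ∧
      x = y + c • 1 ∧ (κ ≠ 1 → c = 0) := by
  classical
  set e := cosetBasis hirr hcl hram
  have hmono := isMono_conjOp hirr hcl hram σ hn hT hTρ
  let f : Q ⧸ Subgroup.center Q → K := fun a => if a = 1 then 0 else 1
  let f' : Q ⧸ Subgroup.center Q → K := fun a => if a = 1 then 1 else 0
  have hinv : ∀ a, cosetPerm σ a = 1 ↔ a = 1 := fun a => by
    rw [← (cosetPerm σ).injective.eq_iff (a := a) (b := 1), cosetPerm_one]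
  have hf : ∀ a, f (cosetPerm σ a) = f a := fun a => by simp only [f, hinv]
  have hf' : ∀ a, f' (cosetPerm σ a) = f' a := fun a => by simp only [f', hinv]
  rw [Module.End.mem_eigenspace_iff] at hx
  obtain ⟨c, hc0, hc⟩ := cosetBasis_one hirr hcl hram
  have hone : ∃ d : K, diag e f' x = d • 1 := by
    have h1 : diag e f' x ∈ suppSpace e {1} := diag_mem_suppSpace (fun a ha => if_neg (fun h => ha h)) x
    rw [suppSpace, Set.image_singleton, Submodule.mem_span_singleton] at h1
    obtain ⟨d, hd⟩ := h1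
    exact ⟨d * c, by rw [← hd, hc, smul_smul]⟩
  obtain ⟨d, hd⟩ := hone
  refine ⟨diag e f x, d, ⟨?_, diag_mem_suppSpace (fun a ha => if_pos (by simpa using ha)) x⟩, ?_, fun hκ => ?_⟩
  · simp only [SetLike.mem_coe, Module.End.mem_eigenspace_iff]
    rw [hmono.diag_comm hf, hx, map_smul]
  · rw [← hd, ← diag_add, show f + f' = 1 from funext fun a => by simp only [f, f', Pi.add_apply, Pi.one_apply]; split_ifs <;> simp,
      diag_one]
  · have h1 : conjOp T n (d • (1 : End K U)) = κ • d • (1 : End K U) := by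
      rw [← hd, hmono.diag_comm hf', hx, map_smul]
    have h2 : conjOp T n (1 : End K U) = 1 := by
      rw [conjOp_apply, one_mul, ← pow_succ', Nat.sub_add_cancel hn, hT]
    rw [map_smul, h2, smul_smul] at h1
    by_contra hd0
    refine hκ (mul_right_cancel₀ hd0 ?_)
    rw [one_mul]
    exact (smul_left_injective K (one_ne_zero (α := End K U)) h1).symm

/-- The multiplicities of the eigenvalues of the twisting operator. -/
theorem multiplicity_distribution {ρ : Q →* End K U} (hirr : IsIrred ρ)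
    (hcl : ∀ g h : Q, ⁅g, h⁆ ∈ Subgroup.center Q) (hram : IsFullyRamified ρ) (σ : MulAut Q) {r : ℕ}
    [hr : Fact r.Prime] (hσ : σ ^ r = 1)
    (hfix : ∀ g, g⁻¹ * σ g ∈ Subgroup.center Q → g ∈ Subgroup.center Q) {ω : K}
    (hω : IsPrimitiveRoot ω r) {T : End K U} (hT : T ^ r = 1) (hTρ : ∀ g, T * ρ g = ρ (σ g) * T)
    {ι : Type*} [Fintype ι] [DecidableEq ι] (v : Module.Basis ι K U) (φ : ι → ZMod r)
    (hv : ∀ i, T (v i) = ω ^ (φ i).val • v i) :
    ∃ (e : ZMod r) (l : ℕ), (∀ f, f ≠ e → (Finset.univ.filter fun i => φ i = f).card = l) ∧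
      ((Finset.univ.filter fun i => φ i = e).card = l + 1 ∨
        (Finset.univ.filter fun i => φ i = e).card + 1 = l) := by
  classical
  haveI := Fintype.ofFinite (Q ⧸ Subgroup.center Q)
  set e := cosetBasis hirr hcl hram
  have hr0 : 0 < r := hr.out.pos
  have hmono := isMono_conjOp hirr hcl hram σ hr0 hT hTρ
  let S : Set (Q ⧸ Subgroup.center Q) := {a | a ≠ 1}
  have hS : ∀ a, cosetPerm σ a ∈ S ↔ a ∈ S := fun a => by
    show _ ≠ _ ↔ _ ≠ _
    rw [not_iff_not, ← (cosetPerm σ).injective.eq_iff (a := a) (b := 1), cosetPerm_one]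
  have hfree : ∀ a ∈ S, ∀ i, 0 < i → i < r → (cosetPerm σ ^ i) a ≠ a := by
    intro a ha i hi0 hi
    refine perm_free_of_moved hr.out (cosetPerm_pow_eq_one σ hσ) ?_ hi0 hi
    induction a using QuotientGroup.induction_on with
    | H g =>
      intro h
      rw [cosetPerm_mk, eq_comm, QuotientGroup.eq] at h
      exact ha ((QuotientGroup.eq_one_iff g).mpr (hfix g h))
  let E : K → ℕ := fun κ => Module.finrank K ((conjOp T r).eigenspace κ)
  let E' : K → ℕ := fun κ => Module.finrank K ↥((conjOp T r).eigenspace κ ⊓ suppSpace e S)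
  have hE1 : E 1 = E' 1 + 1 := by
    have h1 : (conjOp T r).eigenspace 1 =
        ((conjOp T r).eigenspace 1 ⊓ suppSpace e S) ⊔ Submodule.span K {(1 : End K U)} := by
      refine le_antisymm (fun x hx => ?_) (sup_le inf_le_left ?_)
      · obtain ⟨y, c, hy, rfl, -⟩ := eigen_decomp_one hirr hcl hram σ hr0 hT hTρ hx
        exact Submodule.mem_sup.mpr ⟨y, hy, c • 1, Submodule.mem_span_singleton.mpr ⟨c, rfl⟩, rfl⟩
      · rw [Submodule.span_singleton_le_iff_mem, conjOp_eigen_iff hr0 hT, mul_one, one_mul, one_smul]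
    have h2 : ((conjOp T r).eigenspace 1 ⊓ suppSpace e S) ⊓ Submodule.span K {(1 : End K U)} = ⊥ := by
      rw [eq_bot_iff]
      rintro x ⟨⟨-, hx⟩, hx'⟩
      obtain ⟨c, rfl⟩ := Submodule.mem_span_singleton.mp hx'
      let f : Q ⧸ Subgroup.center Q → K := fun a => if a = 1 then 1 else 0
      obtain ⟨d, hd0, hd⟩ := cosetBasis_one hirr hcl hram
      have h3 : diag e f (c • (1 : End K U)) = 0 := by
        rw [diag_eq_of_mem_suppSpace (f := f) (g := 0) (fun a ha => by simp only [f]; exact if_neg ha) hx,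
          diag_zero]
      have h4 : diag e f (1 : End K U) = 1 := by
        have h5 : (1 : End K U) = d⁻¹ • e 1 := by rw [hd, smul_smul, inv_mul_cancel₀ hd0, one_smul]
        rw [h5, map_smul, diag_apply_basis]
        simp [f]
      rw [map_smul, h4] at h3
      exact h3
    have h6 := Submodule.finrank_sup_add_finrank_inf_eq ((conjOp T r).eigenspace 1 ⊓ suppSpace e S)
      (Submodule.span K {(1 : End K U)})
    rw [← h1, h2, finrank_bot, finrank_span_singleton (one_ne_zero (α := End K U))] at h6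
    exact h6
  have hEg : ∀ g : ZMod r, g ≠ 0 → E 1 = E (ω ^ g.val) + 1 := by
    intro g hg
    have hne : ω ^ g.val ≠ 1 := fun h => hg (root_pow_val_injective hω (by simpa using h))
    have h1 : (conjOp T r).eigenspace (ω ^ g.val) = (conjOp T r).eigenspace (ω ^ g.val) ⊓ suppSpace e S := by
      refine le_antisymm (fun x hx => ?_) inf_le_left
      obtain ⟨y, c, hy, rfl, hc⟩ := eigen_decomp_one hirr hcl hram σ hr0 hT hTρ hx
      rw [hc hne, zero_smul, add_zero]
      exact hy
    rw [hE1]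
    congr 1
    show E' 1 = Module.finrank K ((conjOp T r).eigenspace (ω ^ g.val))
    rw [h1]
    have h2 := finrank_eigen_supp_twist hmono hr0 (cosetPerm_pow_eq_one σ hσ) S hS hfree (η := ω ^ g.val)
      (by rw [← pow_mul, mul_comm, pow_mul, hω.pow_eq_one, one_pow]) 1
    rwa [one_mul] at h2
  have hpairs : ∀ g : ZMod r, E (ω ^ g.val) =
      ∑ f, (Finset.univ.filter fun i => φ i = g + f).card * (Finset.univ.filter fun i => φ i = f).card := by
    intro g
    show Module.finrank K ((conjOp T r).eigenspace (ω ^ g.val)) = _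
    rw [finrank_conj_eigen v hω (p := 1) (γ := (1 : K)) IsPrimitiveRoot.one (B := 1) (ψ := fun _ => 0) hv
      (fun i => by simp) g 0 ((conjOp T r).eigenspace (ω ^ g.val))
      (fun x => by rw [conjOp_eigen_iff hr0 hT]; simp)]
    simp only [add_zero, and_true]
    rw [Finset.card_eq_sum_card_fiberwise (f := fun kl : ι × ι => φ kl.2) (t := Finset.univ)
      (fun _ _ => Finset.mem_univ _)]
    refine Finset.sum_congr rfl fun f _ => ?_
    rw [← Finset.card_product]
    congr 1
    ext ⟨k, l⟩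
    simp only [Finset.mem_filter, Finset.mem_univ, true_and, Finset.mem_product]
    constructor
    · rintro ⟨h1, h2⟩
      exact ⟨h2 ▸ h1, h2⟩
    · rintro ⟨h1, h2⟩
      exact ⟨h2 ▸ h1, h2⟩
  refine exists_distribution _ fun g hg => ?_
  have h0 := hpairs 0
  simp only [ZMod.val_zero, pow_zero, zero_add] at h0
  rw [← h0, ← hpairs g]
  exact hEg g hg

end CfsgLib.Turull
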