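import Cfsg.Agent.Lib.Turull.Count

/-!
# An element scalar on one eigenspace of the twisting operator

If `β` has prime order, commutes with `σ` and its operator is scalar on an eigenspace of the twisting
operator of dimension `N`, then `N ^ 2` plus the number of other multiplicities prime to the order of `β` is
at most one more than the number of orbits of `σ` on the fixed points of `β`.
-/

set_option autoImplicit false
set_option linter.style.haveILetI false

namespace CfsgLib.Turull

open Module (End)
open CfsgLib.HallHigman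
open scoped commutatorElement

theorem sum_autocorrelation_le {p : ℕ} [hp : Fact p.Prime] (n : ZMod p → ℕ) :
    (∑ a, n (1 + a) * n a) + (if p ∣ ∑ a, n a then 0 else 1) ≤ ∑ a, n a * n a := by
  have h1 : ∑ a, ((n (1 + a) : ℤ) - n a) ^ 2 =
      2 * (∑ a, (n a : ℤ) * n a) - 2 * ∑ a, (n (1 + a) : ℤ) * n a := by
    have h2 : ∑ a, (n (1 + a) : ℤ) ^ 2 = ∑ a, (n a : ℤ) * n a := by
      rw [← Equiv.sum_comp (Equiv.addLeft (1 : ZMod p)) fun a => (n a : ℤ) * n a]
      exact Finset.sum_congr rfl fun a _ => by rw [Equiv.coe_addLeft, sq]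
    have h4 : ∑ a, (n a : ℤ) ^ 2 = ∑ a, (n a : ℤ) * n a := Finset.sum_congr rfl fun a _ => sq _
    simp only [sub_sq, Finset.sum_add_distrib, Finset.sum_sub_distrib, h2, h4, mul_assoc, ← Finset.mul_sum]
    ring
  split_ifs with hd
  · have h2 : 0 ≤ ∑ a, ((n (1 + a) : ℤ) - n a) ^ 2 := Finset.sum_nonneg fun a _ => sq_nonneg _
    have h3 : ((∑ a, n (1 + a) * n a : ℕ) : ℤ) ≤ ((∑ a, n a * n a : ℕ) : ℤ) := by push_cast; linarith
    omega
  · have h2 : 0 < ∑ a, ((n (1 + a) : ℤ) - n a) ^ 2 := by
      by_contra hle
      have h0 : ∀ a, ((n (1 + a) : ℤ) - n a) ^ 2 = 0 := fun a =>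
        le_antisymm ((Finset.single_le_sum (f := fun b => ((n (1 + b) : ℤ) - n b) ^ 2) (fun b _ => sq_nonneg _)
          (Finset.mem_univ a)).trans (not_lt.mp hle))
          (sq_nonneg _)
      have h5 : ∀ k : ℕ, n (k : ZMod p) = n 0 := by
        intro k
        induction k with
        | zero => simp
        | succ k ih =>
          have := pow_eq_zero_iff two_ne_zero |>.mp (h0 (k : ZMod p))
          rw [Nat.cast_succ, add_comm]
          omega
      refine hd ⟨n 0, ?_⟩
      rw [Finset.sum_congr rfl fun a _ => (ZMod.natCast_zmod_val a ▸ h5 a.val : n a = n 0), Finset.sum_const,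
        Finset.card_univ, ZMod.card, smul_eq_mul]
    have h3 : ((∑ a, n (1 + a) * n a : ℕ) : ℤ) < ((∑ a, n a * n a : ℕ) : ℤ) := by push_cast; linarith
    omega

theorem dvd_of_cast_eq_zero {K : Type*} [Field K] {p n : ℕ} (hp : p.Prime) (hpK : (p : K) = 0)
    (h : (n : K) = 0) : p ∣ n := by
  by_contra hn
  obtain ⟨k, hk⟩ := Nat.exists_mul_mod_eq_one_of_coprime (hp.coprime_iff_not_dvd.mpr hn).symm hp.one_lt
  have h1 : ((n * k : ℕ) : K) = 1 := by
    rw [← Nat.mod_add_div (n * k) p, hk.2, Nat.cast_add, Nat.cast_mul, hpK, zero_mul, add_zero, Nat.cast_one]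
  rw [Nat.cast_mul, h, zero_mul] at h1
  exact zero_ne_one h1

theorem trace_eq_sum_coord {K U ι : Type*} [Field K] [AddCommGroup U] [Module K U] [Fintype ι] [DecidableEq ι]
    (v : Module.Basis ι K U) (x : End K U) : LinearMap.trace K U x = ∑ i, v.coord i (x (v i)) := by
  rw [LinearMap.trace_eq_matrix_trace K v x, Matrix.trace]
  exact Finset.sum_congr rfl fun i _ => by rw [Matrix.diag_apply, LinearMap.toMatrix_apply, Module.Basis.coord_apply]

theorem perm_product_free {α : Type*} {s b : Equiv.Perm α} {r p : ℕ} (hr : r.Prime) (hp : p.Prime)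
    (hrp : r ≠ p) (hs : s ^ r = 1) (hb : b ^ p = 1) (hsb : Commute s b) {a : α} (ha : s a ≠ a) (hba : b a ≠ a)
    {i : ℕ} (hi0 : 0 < i) (hi : i < r * p) : ((s * b) ^ i) a ≠ a := by
  intro e
  have hk : ∀ m, ((s * b) ^ (i * m)) a = a := fun m => by
    induction m with
    | zero => rfl
    | succ m ih => rw [mul_add, mul_one, pow_add, Equiv.Perm.mul_apply, e, ih]
  have e1 := hk r
  rw [hsb.mul_pow, mul_comm i r, pow_mul s, hs, one_pow, one_mul] at e1
  have e2 := hk p
  rw [hsb.mul_pow, mul_comm i p, pow_mul b, hb, one_pow, mul_one] at e2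
  have hcop : r.Coprime p := (Nat.coprime_primes hr hp).mpr hrp
  have hdp : p ∣ r * i := by
    by_contra hn
    rw [← Nat.mod_add_div (r * i) p, pow_add, pow_mul, hb, one_pow, mul_one] at e1
    refine perm_free_of_moved hp hb hba (Nat.pos_of_ne_zero fun h0 => hn (Nat.dvd_of_mod_eq_zero h0))
      (Nat.mod_lt _ hp.pos) e1
  have hdr : r ∣ p * i := by
    by_contra hn
    rw [← Nat.mod_add_div (p * i) r, pow_add, pow_mul, hs, one_pow, mul_one] at e2
    refine perm_free_of_moved hr hs ha (Nat.pos_of_ne_zero fun h0 => hn (Nat.dvd_of_mod_eq_zero h0))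
      (Nat.mod_lt _ hr.pos) e2
  have h := Nat.le_of_dvd hi0 (hcop.mul_dvd_of_dvd_of_dvd (hcop.dvd_of_dvd_mul_left hdr)
    (hcop.symm.dvd_of_dvd_mul_left hdp))
  omega

variable {K U Q : Type*} [Field K] [AddCommGroup U] [Module K U] [Group Q]
  [IsAlgClosed K] [FiniteDimensional K U] [Nontrivial U] [Finite Q]

/-- **The bound.** -/
theorem scalar_eigen_bound {ρ : Q →* End K U} (hirr : IsIrred ρ)
    (hcl : ∀ g h : Q, ⁅g, h⁆ ∈ Subgroup.center Q) (hram : IsFullyRamified ρ) (σ β : MulAut Q)
    {r p : ℕ} [hr : Fact r.Prime] [hp : Fact p.Prime] (hrp : r ≠ p) (hσ : σ ^ r = 1) (hβ : β ^ p = 1)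
    (hcomm : ∀ g, σ (β g) = β (σ g))
    (hfix : ∀ g, g⁻¹ * σ g ∈ Subgroup.center Q → g ∈ Subgroup.center Q)
    {ω : K} (hω : IsPrimitiveRoot ω r) {T B : End K U} (hT : T ^ r = 1)
    (hTρ : ∀ g, T * ρ g = ρ (σ g) * T) (hB : B ^ p = 1) (hBρ : ∀ g, B * ρ g = ρ (β g) * B)
    (hTB : B * T = T * B) {ι : Type} [Fintype ι] [DecidableEq ι] (v : Module.Basis ι K U) (φ : ι → ZMod r)
    (hv : ∀ i, T (v i) = ω ^ (φ i).val • v i) (e0 : ZMod r) (cB : K)
    (hscal : ∀ x, T x = ω ^ e0.val • x → B x = cB • x) :
    r * ((Finset.univ.filter fun i => φ i = e0).card * (Finset.univ.filter fun i => φ i = e0).card +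
        (Finset.univ.filter fun f : ZMod r =>
          f ≠ e0 ∧ ¬ p ∣ (Finset.univ.filter fun i => φ i = f).card).card) + 1 ≤
      r + Nat.card {a : Q ⧸ Subgroup.center Q // cosetPerm β a = a} := by
  classical
  haveI := Fintype.ofFinite (Q ⧸ Subgroup.center Q)
  set e := cosetBasis hirr hcl hram
  have hr0 : 0 < r := hr.out.pos
  have hp0 : 0 < p := hp.out.pos
  have hC := isMono_conjOp hirr hcl hram σ hr0 hT hTρ
  have hL := isMono_conjOp hirr hcl hram β hp0 hB hBρ
  have hperm : ∀ a, cosetPerm σ (cosetPerm β a) = cosetPerm β (cosetPerm σ a) := by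
    intro a
    induction a using QuotientGroup.induction_on with
    | H g => rw [cosetPerm_mk, cosetPerm_mk, cosetPerm_mk, cosetPerm_mk, hcomm]
  have hσfree : ∀ a, a ≠ 1 → cosetPerm σ a ≠ a := by
    intro a ha
    induction a using QuotientGroup.induction_on with
    | H g =>
      intro h
      rw [cosetPerm_mk, eq_comm, QuotientGroup.eq] at h
      exact ha ((QuotientGroup.eq_one_iff g).mpr (hfix g h))
  let Fx : Finset (Q ⧸ Subgroup.center Q) := Finset.univ.filter fun a => cosetPerm β a = a
  have hmemFx : ∀ a, a ∈ Fx ↔ cosetPerm β a = a := fun a => by simp [Fx]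
  have hFxσ : ∀ a, cosetPerm σ a ∈ Fx ↔ a ∈ Fx := fun a => by
    rw [hmemFx, hmemFx, ← hperm]; exact (cosetPerm σ).injective.eq_iff
  have hFxβ : ∀ a, cosetPerm β a ∈ Fx ↔ a ∈ Fx := fun a => by
    rw [hmemFx, hmemFx]; exact (cosetPerm β).injective.eq_iff
  set E1 := (conjOp T r).eigenspace (1 : K) with hE1def
  have h1Fx : (1 : Q ⧸ Subgroup.center Q) ∈ Fx := (hmemFx 1).mpr (cosetPerm_one β)
  -- the fixed part is small
  let D := Module.finrank K ↥(E1 ⊓ suppSpace e (Fx : Set (Q ⧸ Subgroup.center Q)))
  have hD : r * D + 1 ≤ r + Fx.card := by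
    let S := Fx.erase 1
    have hS : ∀ a, cosetPerm σ a ∈ S ↔ a ∈ S := fun a => by
      simp only [S, Finset.mem_erase, hFxσ, ne_eq]
      rw [show cosetPerm σ a = 1 ↔ a = 1 by
        rw [← (cosetPerm σ).injective.eq_iff (a := a) (b := 1), cosetPerm_one]]
    have h1 : r * Module.finrank K ↥(E1 ⊓ suppSpace e (S : Set (Q ⧸ Subgroup.center Q))) ≤ S.card :=
      mul_finrank_fixed_le hC hω hr0 (cosetPerm_pow_eq_one σ hσ) S hS fun a ha i hi0 hi =>
      perm_free_of_moved hr.out (cosetPerm_pow_eq_one σ hσ) (hσfree a (Finset.mem_erase.mp ha).1) hi0 hi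
    have h2 : E1 ⊓ suppSpace e (Fx : Set (Q ⧸ Subgroup.center Q)) ≤
        (E1 ⊓ suppSpace e (S : Set (Q ⧸ Subgroup.center Q))) ⊔ Submodule.span K {e 1} := by
      rintro x ⟨hx1, hx2⟩
      simp only [SetLike.mem_coe] at hx1 hx2
      let f : Q ⧸ Subgroup.center Q → K := fun a => if a ∈ S then 1 else 0
      let f' : Q ⧸ Subgroup.center Q → K := fun a => if a = 1 then 1 else 0
      have hx : x = diag e f x + diag e f' x := by
        rw [← diag_add, diag_eq_of_mem_suppSpace (g := 1) (fun a ha => ?_) hx2, diag_one]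
        simp only [f, f', S, Pi.add_apply, Pi.one_apply, Finset.mem_erase]
        by_cases h : a = 1
        · simp [h]
        · simp [h, Finset.mem_coe.mp ha]
      rw [hx]
      refine add_mem (Submodule.mem_sup_left ⟨?_, diag_mem_suppSpace (fun a ha => if_neg (by simpa using ha)) x⟩)
        (Submodule.mem_sup_right ?_)
      · simp only [SetLike.mem_coe, hE1def, Module.End.mem_eigenspace_iff] at hx1 ⊢
        rw [hC.diag_comm (f' := f) (fun a => by simp only [f, hS]), hx1, map_smul]
      · have := diag_mem_suppSpace (e := e) (S := {1}) (f := f') (fun a ha => if_neg (fun h => ha h)) x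
        rwa [suppSpace, Set.image_singleton] at this
    have h3 : D ≤ Module.finrank K ↥(E1 ⊓ suppSpace e (S : Set (Q ⧸ Subgroup.center Q))) + 1 := by
      refine (Submodule.finrank_mono h2).trans ((Submodule.finrank_add_le_finrank_add_finrank _ _).trans ?_)
      exact Nat.add_le_add_left (finrank_span_singleton (e.ne_zero 1)).le _
    have h4 : S.card + 1 = Fx.card := Finset.card_erase_add_one h1Fx
    have h5 := Nat.mul_le_mul_left r h3
    rw [mul_add, mul_one] at h5
    omega
  have hcardFx : Fx.card = Nat.card {a : Q ⧸ Subgroup.center Q // cosetPerm β a = a} := by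
    rw [Nat.card_eq_fintype_card, Fintype.card_subtype]
  rw [← hcardFx]
  refine le_trans (Nat.add_le_add_right (Nat.mul_le_mul_left r ?_) 1) hD
  -- the block side
  let n : ZMod r → ℕ := fun f => (Finset.univ.filter fun i => φ i = f).card
  set F : Finset (ZMod r) := Finset.univ.filter fun f : ZMod r => f ≠ e0 ∧ ¬ p ∣ n f with hF
  set N := n e0 with hN
  have hBscal : ∀ j, φ j = e0 → B (v j) = cB • v j := fun j hj => hscal _ (hj ▸ hv j)
  have hBblock : ∀ i j, φ i ≠ φ j → v.coord i (B (v j)) = 0 := by
    intro i j hij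
    have h1 := congrArg (v.coord i) (LinearMap.congr_fun hTB (v j))
    rw [Module.End.mul_apply, Module.End.mul_apply, hv, map_smul, map_smul, coord_of_eigenbasis v hv,
      smul_eq_mul] at h1
    by_contra hne
    exact hij (root_pow_val_injective hω (mul_right_cancel₀ hne h1).symm)
  by_cases hpK : (p : K) = 0
  · -- the characteristic is `p`
    let I := {i : ι // φ i = e0}
    let P : ZMod r → End K U := fun f => diag v fun i => if φ i = f then 1 else 0
    have hPB : ∀ f, P f * B = B * P f := by
      intro f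
      refine v.ext fun j => v.ext_elem fun i => ?_
      simp only [Module.End.mul_apply, P, diag_apply_basis, map_smul, Finsupp.smul_apply, smul_eq_mul]
      simp only [← Module.Basis.coord_apply]
      rw [coord_of_eigenbasis v (fun i => diag_apply_basis _ i)]
      by_cases hij : φ i = φ j
      · rw [hij]
      · rw [hBblock i j hij, mul_zero, mul_zero]
    let Ψ : End K U →ₗ[K] (I × I → K) × (F → K) :=
      LinearMap.prod (LinearMap.pi fun kl => v.coord kl.1.1 ∘ₗ LinearMap.applyₗ (v kl.2.1))
        (LinearMap.pi fun f => LinearMap.trace K U ∘ₗ LinearMap.mulLeft K (P f.1))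
    have hΨL : ∀ x, Ψ (conjOp B p x) = Ψ x := by
      intro x
      refine Prod.ext (funext fun kl => ?_) (funext fun f => ?_)
      · show v.coord kl.1.1 ((B * (x * B ^ (p - 1))) (v kl.2.1)) = v.coord kl.1.1 (x (v kl.2.1))
        have hcoord : ∀ y, v.coord kl.1.1 (B y) = cB * v.coord kl.1.1 y := by
          intro y
          refine LinearMap.congr_fun (v.ext (f₁ := v.coord kl.1.1 ∘ₗ B) (f₂ := cB • v.coord kl.1.1) fun j => ?_) y
          rw [LinearMap.comp_apply, LinearMap.smul_apply]
          by_cases hj : φ j = e0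
          · rw [hBscal j hj, map_smul]
          · rw [hBblock _ _ (fun h => hj (h ▸ kl.1.2)), Module.Basis.coord_apply, v.repr_self,
              Finsupp.single_eq_of_ne (fun (h : kl.1.1 = j) => hj (h ▸ kl.1.2)), smul_zero]
        have hpow : ∀ m, (B ^ m) (v kl.2.1) = cB ^ m • v kl.2.1 := by
          intro m
          induction m with
          | zero => simp
          | succ m ih => rw [pow_succ', Module.End.mul_apply, ih, map_smul, hBscal _ kl.2.2, smul_smul, ← pow_succ]
        have hcp : cB ^ p = 1 := by
          have h1 := hpow p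
          rw [hB, Module.End.one_apply] at h1
          exact (smul_left_injective K (v.ne_zero _) ((one_smul K _).trans h1)).symm
        rw [Module.End.mul_apply, Module.End.mul_apply, hcoord, hpow, map_smul, map_smul, smul_eq_mul,
          ← mul_assoc, ← pow_succ', Nat.sub_add_cancel hp0, hcp, one_mul]
      · show LinearMap.trace K U (P f.1 * (B * (x * B ^ (p - 1)))) = LinearMap.trace K U (P f.1 * x)
        rw [← mul_assoc, hPB, LinearMap.trace_mul_comm, mul_assoc x, ← mul_assoc (B ^ (p - 1)), ← pow_succ,
          Nat.sub_add_cancel hp0, hB, one_mul, LinearMap.trace_mul_comm]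
    -- fixed operators map onto the target
    have hsurj : (⊤ : Submodule K ((I × I → K) × (F → K))) ≤
        (E1 ⊓ (conjOp B p).eigenspace (1 : K)).map Ψ := by
      rintro ⟨a, b⟩ -
      let bf : ZMod r → K := fun g => if hf : g ∈ F then b ⟨_, hf⟩ / (n g : K) else 0
      let x : End K U := v.constr K fun j =>
        if hj : φ j = e0 then ∑ i : I, a (i, ⟨j, hj⟩) • v i.1
        else bf (φ j) • v j
      have hxT : T * x = x * T := by
        refine v.ext fun j => ?_
        simp only [Module.End.mul_apply, hv, map_smul, x, v.constr_basis]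
        by_cases hj : φ j = e0
        · simp only [dif_pos hj, map_sum, map_smul, hv, Finset.smul_sum]
          exact Finset.sum_congr rfl fun i _ => by rw [i.2, hj, smul_comm]
        · simp only [dif_neg hj, map_smul, hv]
          rw [smul_comm]
      have hxB : B * x = x * B := by
        refine v.ext fun j => ?_
        simp only [Module.End.mul_apply, x, v.constr_basis]
        by_cases hj : φ j = e0
        · rw [dif_pos hj, hBscal j hj, map_smul, v.constr_basis, dif_pos hj, map_sum, Finset.smul_sum]
          exact Finset.sum_congr rfl fun i _ => by rw [map_smul, hBscal _ i.2, smul_comm]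
        · rw [dif_neg hj, map_smul]
          have hy : B (v j) = ∑ i, v.coord i (B (v j)) • v i := (v.sum_repr (B (v j))).symm
          conv_rhs => rw [hy, map_sum]
          conv_lhs => rw [hy, Finset.smul_sum]
          refine Finset.sum_congr rfl fun i _ => ?_
          rw [map_smul, v.constr_basis]
          by_cases hij : φ i = φ j
          · rw [dif_neg (fun h => hj (hij ▸ h)), hij, smul_comm]
          · rw [hBblock i j hij, zero_smul, smul_zero, zero_smul]
      refine ⟨x, ⟨?_, ?_⟩, ?_⟩
      · rw [hE1def, SetLike.mem_coe, conjOp_eigen_iff hr0 hT, one_smul, hxT]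
      · rw [SetLike.mem_coe, conjOp_eigen_iff hp0 hB, one_smul, hxB]
      refine Prod.ext (funext fun kl => ?_) (funext fun f => ?_)
      · show v.coord kl.1.1 (x (v kl.2.1)) = a kl
        simp only [x, v.constr_basis, dif_pos kl.2.2, map_sum, map_smul, Module.Basis.coord_apply, v.repr_self,
          Finsupp.single_apply, smul_eq_mul, mul_ite, mul_one, mul_zero]
        rw [Finset.sum_eq_single kl.1 (fun i _ hne => if_neg fun h => hne (Subtype.ext h)) (by simp), if_pos rfl]
      · show LinearMap.trace K U (P f.1 * x) = b f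
        have hf' := (Finset.mem_filter.mp f.2).2
        have hn0 : (n f.1 : K) ≠ 0 := fun h => hf'.2 (dvd_of_cast_eq_zero hp.out hpK h)
        rw [trace_eq_sum_coord v]
        have hterm : ∀ i, v.coord i ((P f.1 * x) (v i)) = if φ i = f.1 then b f / (n f.1 : K) else 0 := by
          intro i
          rw [Module.End.mul_apply, coord_of_eigenbasis v (fun i => diag_apply_basis _ i)]
          split_ifs with hi
          · have hie : φ i ≠ e0 := hi ▸ hf'.1
            have hfm : φ i ∈ F := hi ▸ f.2
            simp only [x, bf, v.constr_basis, dif_neg hie, dif_pos hfm, map_smul, Module.Basis.coord_apply, v.repr_self,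
              Finsupp.single_eq_same, smul_eq_mul, one_mul, mul_one]
            obtain ⟨f1, hf1⟩ := f
            simp only at hi
            subst hi
            rfl
          · rw [zero_mul]
        rw [Finset.sum_congr rfl fun i _ => hterm i, ← Finset.sum_filter, Finset.sum_const, nsmul_eq_mul]
        exact mul_div_cancel₀ _ hn0
    -- only the fixed lines contribute
    have hred : (E1 ⊓ (conjOp B p).eigenspace (1 : K)).map Ψ ≤
        (E1 ⊓ suppSpace e (Fx : Set (Q ⧸ Subgroup.center Q))).map Ψ := by
      rintro _ ⟨x, ⟨hx1, hx2⟩, rfl⟩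
      simp only [hE1def, SetLike.mem_coe, Module.End.mem_eigenspace_iff] at hx1 hx2
      let ff : Q ⧸ Subgroup.center Q → K := fun a => if a ∈ Fx then 1 else 0
      obtain ⟨h, hh⟩ := exists_phase (cosetPerm β) hp0 (cosetPerm_pow_eq_one β hβ)
        {a | a ∉ Fx} fun a ha i hi0 hi =>
          perm_free_of_moved hp.out (cosetPerm_pow_eq_one β hβ) (fun h => ha ((hmemFx a).mpr h)) hi0 hi
      let fk : ℕ → Q ⧸ Subgroup.center Q → K := fun k a => if a ∉ Fx ∧ h a % p = k % p then 1 else 0
      have hstep : ∀ k a, fk (k + 1) (cosetPerm β a) = fk k a := by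
        intro k a
        simp only [fk]
        refine if_congr ⟨fun ⟨h1, h2⟩ => ?_, fun ⟨h1, h2⟩ => ?_⟩ rfl rfl
        · have ha : a ∉ Fx := fun h' => h1 ((hFxβ a).mpr h')
          have h3 := hh a ha 1
          rw [pow_one] at h3
          rw [h3] at h2
          exact ⟨ha, Nat.ModEq.add_right_cancel' 1 h2⟩
        · have h3 := hh a h1 1
          rw [pow_one] at h3
          exact ⟨fun h' => h1 ((hFxβ a).mp h'), h3.trans (Nat.ModEq.add_right 1 h2)⟩
      have hiter : ∀ k, Ψ (diag e (fk k) x) = Ψ (diag e (fk 0) x) := by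
        intro k
        induction k with
        | zero => rfl
        | succ k ih =>
          rw [← ih, ← hΨL (diag e (fk k) x), hL.diag_comm (hstep k), hx2, one_smul]
      have hsum : x = diag e ff x + ∑ k ∈ Finset.range p, diag e (fk k) x := by
        rw [← diag_sum, ← diag_add, show ff + ∑ k ∈ Finset.range p, fk k = 1 from funext fun a => ?_, diag_one]
        rw [Pi.add_apply, Finset.sum_apply, Pi.one_apply]
        by_cases ha : a ∈ Fx
        · simp [ff, fk, ha]
        · simp only [ff, fk, ha, if_false, not_false_eq_true, true_and, zero_add]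
          rw [Finset.sum_eq_single (h a % p)]
          · simp
          · intro k hk hne
            refine if_neg fun h' => hne ?_
            rw [h', Nat.mod_eq_of_lt (Finset.mem_range.mp hk)]
          · intro h'
            exact absurd (Finset.mem_range.mpr (Nat.mod_lt _ hp0)) h'
      refine ⟨diag e ff x, ⟨?_, diag_mem_suppSpace (fun a ha => if_neg (by simpa using ha)) x⟩, ?_⟩
      · rw [hE1def, SetLike.mem_coe, Module.End.mem_eigenspace_iff,
          hC.diag_comm (f' := ff) (fun a => by simp only [ff, hFxσ]), hx1, map_smul]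
      · conv_rhs => rw [hsum, map_add, map_sum, Finset.sum_congr rfl fun k _ => hiter k]
        rw [Finset.sum_const, Finset.card_range, ← Nat.cast_smul_eq_nsmul K, hpK, zero_smul, add_zero]
    have h1 := Submodule.finrank_mono (hsurj.trans hred)
    rw [finrank_top, Module.finrank_prod, Module.finrank_fintype_fun_eq_card, Module.finrank_fintype_fun_eq_card,
      Fintype.card_prod, Fintype.card_subtype, Fintype.card_coe] at h1
    exact h1.trans (Submodule.finrank_map_le _ _)
  · -- the order of `β` is invertible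
    haveI : NeZero (p : K) := ⟨hpK⟩
    obtain ⟨γ, hγ⟩ := HasEnoughRootsOfUnity.exists_primitiveRoot K p
    obtain ⟨ι', _, w, φ', ψ', hwT, hwB⟩ := exists_joint_eigenbasis hω hγ (hω.neZero'.out) hpK hT hB hTB
    have hn' : ∀ f : ZMod r, n f = (Finset.univ.filter fun i => φ' i = f).card := by
      intro f
      have hspan : ∀ {κ : Type} [Fintype κ] (u : Module.Basis κ K U) (χ : κ → ZMod r)
          (_ : ∀ i, T (u i) = ω ^ (χ i).val • u i),
          Module.finrank K (T.eigenspace (ω ^ f.val)) = (Finset.univ.filter fun i => χ i = f).card := by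
        intro κ _ u χ hu
        have h1 : T.eigenspace (ω ^ f.val) = suppSpace u {i | χ i = f} := by
          refine le_antisymm (fun x hx => ?_) (Submodule.span_le.mpr ?_)
          · rw [Module.End.mem_eigenspace_iff] at hx
            rw [← u.sum_repr x]
            refine Submodule.sum_mem _ fun i _ => ?_
            by_cases hi : χ i = f
            · exact Submodule.smul_mem _ _ (Submodule.subset_span ⟨i, hi, rfl⟩)
            · have h2 := congrArg (u.coord i) hx
              rw [coord_of_eigenbasis u hu, map_smul, smul_eq_mul] at h2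
              have h3 : u.repr x i = 0 := by
                by_contra hne
                exact hi (root_pow_val_injective hω (mul_right_cancel₀ hne h2))
              rw [h3, zero_smul]
              exact zero_mem _
          · rintro _ ⟨i, hi, rfl⟩
            rw [SetLike.mem_coe, Module.End.mem_eigenspace_iff, hu, hi]
        have h2 : LinearIndependent K fun x : {i // χ i = f} => u x :=
          u.linearIndependent.comp _ Subtype.val_injective
        rw [h1, suppSpace, Set.image_eq_range, ← Fintype.card_subtype]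
        exact finrank_span_eq_card h2
      exact (hspan v φ hv).symm.trans (hspan w φ' hwT)
    let M : ZMod p → Submodule K (End K U) := fun h => E1 ⊓ (conjOp B p).eigenspace (γ ^ h.val)
    have hM : ∀ h, Module.finrank K (M h) = ∑ f, ∑ a,
        (Finset.univ.filter fun i => φ' i = f ∧ ψ' i = h + a).card *
          (Finset.univ.filter fun i => φ' i = f ∧ ψ' i = a).card := by
      intro h
      rw [finrank_conj_eigen w hω hγ hwT hwB 0 h (M h) fun x => by
        simp only [M, hE1def, Submodule.mem_inf, conjOp_eigen_iff hr0 hT, conjOp_eigen_iff hp0 hB, ZMod.val_zero,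
          pow_zero],
        ← Finset.sum_product', Finset.card_eq_sum_card_fiberwise (f := fun kl : ι' × ι' => (φ' kl.2, ψ' kl.2))
          (t := Finset.univ ×ˢ Finset.univ) (fun _ _ => Finset.mem_univ _)]
      refine Finset.sum_congr rfl fun fa _ => ?_
      rw [← Finset.card_product]
      congr 1
      ext ⟨k, l⟩
      simp only [Finset.mem_filter, Finset.mem_univ, true_and, Finset.mem_product, zero_add, Prod.ext_iff]
      constructor
      · rintro ⟨⟨h1, h2⟩, h3, h4⟩
        exact ⟨⟨h3 ▸ h1, h4 ▸ h2⟩, h3, h4⟩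
      · rintro ⟨⟨h1, h2⟩, h3, h4⟩
        exact ⟨⟨h3 ▸ h1, h4 ▸ h2⟩, h3, h4⟩
    -- blocks
    have hblock : N * N + F.card + Module.finrank K (M 1) ≤ Module.finrank K (M 0) := by
      rw [hM 1, hM 0]
      simp only [zero_add]
      let m : ZMod r → ZMod p → ℕ := fun f a => (Finset.univ.filter fun i => φ' i = f ∧ ψ' i = a).card
      have hm : ∀ f, ∑ a, m f a = n f := fun f => by
        rw [hn' f, Finset.card_eq_sum_card_fiberwise (f := ψ') (t := Finset.univ) (fun _ _ => Finset.mem_univ _)]
        exact Finset.sum_congr rfl fun a _ => by rw [Finset.filter_filter]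
      show N * N + F.card + ∑ f, ∑ a, m f (1 + a) * m f a ≤ ∑ f, ∑ a, m f a * m f a
      have hconst : ∀ i j, φ' i = e0 → φ' j = e0 → ψ' i = ψ' j := by
        intro i j hi hj
        have h1 := smul_left_injective K (w.ne_zero i) ((hwB i).symm.trans (hscal _ (hi ▸ hwT i)))
        have h2 := smul_left_injective K (w.ne_zero j) ((hwB j).symm.trans (hscal _ (hj ▸ hwT j)))
        exact root_pow_val_injective hγ (h1.trans h2.symm)
      have he1 : ∑ a, m e0 (1 + a) * m e0 a = 0 := by
        refine Finset.sum_eq_zero fun a _ => mul_eq_zero.mpr ?_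
        by_contra hne
        push Not at hne
        obtain ⟨i, hi⟩ := Finset.card_ne_zero.mp hne.1
        obtain ⟨j, hj⟩ := Finset.card_ne_zero.mp hne.2
        simp only [Finset.mem_filter, Finset.mem_univ, true_and] at hi hj
        have := hconst i j hi.1 hj.1
        rw [hi.2, hj.2, add_eq_right] at this
        exact one_ne_zero this
      have he2 : ∑ a, m e0 a * m e0 a = N * N := by
        rcases Finset.eq_empty_or_nonempty (Finset.univ.filter fun i => φ' i = e0) with hemp | ⟨i, hi⟩
        · have hN0 : N = 0 := by rw [hN, hn', hemp]; rfl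
          have hz : ∀ a, m e0 a = 0 := fun a => by
            have := hm e0
            rw [← hN, hN0, Finset.sum_eq_zero_iff] at this
            exact this a (Finset.mem_univ a)
          simp [hz, hN0]
        · simp only [Finset.mem_filter, Finset.mem_univ, true_and] at hi
          have hz : ∀ a, a ≠ ψ' i → m e0 a = 0 := fun a ha => Finset.card_eq_zero.mpr
            (Finset.filter_eq_empty_iff.mpr fun j _ hj => ha (hj.2.symm.trans (hconst j i hj.1 hi)))
          have h1 := hm e0
          rw [Finset.sum_eq_single (ψ' i) (fun a _ ha => hz a ha) (by simp), ← hN] at h1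
          rw [Finset.sum_eq_single (ψ' i) (fun a _ ha => by rw [hz a ha, zero_mul]) (by simp), h1]
      rw [← Finset.add_sum_erase _ _ (Finset.mem_univ e0), ← Finset.add_sum_erase
        (f := fun f => ∑ a, m f a * m f a) _ (Finset.mem_univ e0), he1, he2, zero_add]
      have hFc : F.card = ∑ f ∈ Finset.univ.erase e0, if p ∣ n f then 0 else 1 := by
        rw [hF, Finset.card_filter, ← Finset.add_sum_erase _ _ (Finset.mem_univ e0), if_neg (by simp), zero_add]
        refine Finset.sum_congr rfl fun f hf => ?_
        have := (Finset.mem_erase.mp hf).1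
        by_cases hd : p ∣ n f <;> simp [this, hd]
      rw [hFc, add_assoc, ← Finset.sum_add_distrib]
      refine Nat.add_le_add_left (Finset.sum_le_sum fun f _ => ?_) _
      have := sum_autocorrelation_le (m f)
      rw [hm f] at this
      omega
    -- phases
    have hsσ := cosetPerm_pow_eq_one σ hσ
    have hsβ := cosetPerm_pow_eq_one β hβ
    set πs := cosetPerm σ
    set πb := cosetPerm β
    have hcm : Commute πs πb := Equiv.ext fun a => hperm a
    have hπ : (πs * πb) ^ (r * p) = 1 := by
      rw [hcm.mul_pow, pow_mul πs, hsσ, one_pow, one_mul, mul_comm r p, pow_mul πb, hsβ, one_pow]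
    obtain ⟨h, hh⟩ := exists_phase (πs * πb) (Nat.mul_pos hr0 hp0) hπ {a | a ∉ Fx} fun a ha i hi0 hi =>
      perm_product_free hr.out hp.out hrp hsσ hsβ hcm (hσfree a fun h1 => ha (h1 ▸ h1Fx))
        (fun h' => ha ((hmemFx a).mpr h')) hi0 hi
    obtain ⟨k1, hk1r, hk1p⟩ := Nat.chineseRemainder ((Nat.coprime_primes hr.out hp.out).mpr hrp) 1 0
    obtain ⟨k2, hk2r, hk2p⟩ := Nat.chineseRemainder ((Nat.coprime_primes hr.out hp.out).mpr hrp) 0 1
    have hpow : ∀ k, (πs * πb) ^ k = πs ^ (k % r) * πb ^ (k % p) := fun k => by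
      rw [hcm.mul_pow, ← pow_eq_pow_mod _ hsσ, ← pow_eq_pow_mod _ hsβ]
    have hph : ∀ a, a ∉ Fx → ∀ k, h (((πs * πb) ^ k) a) % p = (h a + k) % p := fun a ha k => by
      have := congrArg (· % p) (hh a ha k)
      simpa [Nat.mod_mul_left_mod] using this
    have hσh : ∀ a, a ∉ Fx → h (πs a) % p = h a % p := by
      intro a ha
      have h1 := hph a ha k1
      rw [hpow, show k1 % r = 1 % r from hk1r, show k1 % p = 0 % p from hk1p, Nat.mod_eq_of_lt hr.out.one_lt,
        Nat.zero_mod, pow_one, pow_zero, mul_one] at h1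
      rw [h1, Nat.add_mod, show k1 % p = 0 % p from hk1p, Nat.zero_mod, add_zero, Nat.mod_mod]
    have hβh : ∀ a, a ∉ Fx → h (πb a) % p = (h a + 1) % p := by
      intro a ha
      have h1 := hph a ha k2
      rw [hpow, show k2 % r = 0 % r from hk2r, show k2 % p = 1 % p from hk2p, Nat.mod_eq_of_lt hp.out.one_lt,
        Nat.zero_mod, pow_zero, pow_one, one_mul] at h1
      rw [h1, Nat.add_mod, show k2 % p = 1 % p from hk2p, ← Nat.add_mod]
    have hγp : γ⁻¹ ^ p = 1 := by rw [inv_pow, hγ.pow_eq_one, inv_one]
    let fm : Q ⧸ Subgroup.center Q → K := fun a => if a ∈ Fx then 0 else γ⁻¹ ^ h a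
    let fi : Q ⧸ Subgroup.center Q → K := fun a => if a ∈ Fx then 0 else γ ^ h a
    let ff : Q ⧸ Subgroup.center Q → K := fun a => if a ∈ Fx then 1 else 0
    have hmσ : ∀ a, fm (πs a) = fm a := by
      intro a
      simp only [fm, hFxσ]
      split_ifs with ha
      · rfl
      · rw [pow_eq_pow_mod _ hγp, hσh a ha, ← pow_eq_pow_mod _ hγp]
    have hmβ : ∀ a, (γ • fm) (πb a) = fm a := by
      intro a
      simp only [fm, Pi.smul_apply, smul_eq_mul, hFxβ]
      split_ifs with ha
      · rw [mul_zero]
      · rw [pow_eq_pow_mod _ hγp, hβh a ha, ← pow_eq_pow_mod _ hγp, pow_succ', mul_inv_cancel_left₀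
          (hγ.ne_zero hp0.ne')]
    let Θ : ↥(M 0) →ₗ[K] ↥(M 1) × ↥(E1 ⊓ suppSpace e (Fx : Set (Q ⧸ Subgroup.center Q))) :=
      LinearMap.prod
        (LinearMap.codRestrict (M 1) (diag e fm ∘ₗ (M 0).subtype) fun x => by
          obtain ⟨hx1, hx2⟩ := x.2
          simp only [hE1def, SetLike.mem_coe, Module.End.mem_eigenspace_iff, ZMod.val_zero, pow_zero] at hx1 hx2
          refine ⟨?_, ?_⟩
          · simp only [hE1def, SetLike.mem_coe, Module.End.mem_eigenspace_iff, LinearMap.comp_apply,
              Submodule.subtype_apply]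
            rw [hC.diag_comm hmσ, hx1, map_smul]
          · simp only [SetLike.mem_coe, Module.End.mem_eigenspace_iff, LinearMap.comp_apply,
              Submodule.subtype_apply, ZMod.val_one, pow_one]
            rw [hL.diag_comm hmβ, diag_smul, hx2, one_smul])
        (LinearMap.codRestrict _ (diag e ff ∘ₗ (M 0).subtype) fun x => by
          obtain ⟨hx1, -⟩ := x.2
          simp only [hE1def, SetLike.mem_coe, Module.End.mem_eigenspace_iff] at hx1
          refine ⟨?_, diag_mem_suppSpace (fun a ha => if_neg (by simpa using ha)) _⟩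
          simp only [hE1def, SetLike.mem_coe, Module.End.mem_eigenspace_iff, LinearMap.comp_apply,
            Submodule.subtype_apply]
          rw [hC.diag_comm (f' := ff) (fun a => by simp only [ff, hFxσ]), hx1, map_smul])
    have hΘ : Function.Injective Θ := by
      rw [← LinearMap.ker_eq_bot, LinearMap.ker_eq_bot']
      intro x hx
      have h1 : diag e fm (x : End K U) = 0 := congrArg (fun z => ((z.1 : ↥(M 1)) : End K U)) hx
      have h2 : diag e ff (x : End K U) = 0 := congrArg (fun z => ((z.2 : ↥(E1 ⊓ _)) : End K U)) hx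
      refine Subtype.ext ?_
      have h3 : diag e (fi * fm + ff) (x : End K U) = x := by
        rw [show fi * fm + ff = 1 from funext fun a => ?_, diag_one]
        simp only [fi, fm, ff, Pi.add_apply, Pi.mul_apply, Pi.one_apply]
        split_ifs with ha
        · simp
        · rw [← mul_pow, mul_inv_cancel₀ (hγ.ne_zero hp0.ne'), one_pow, add_zero]
      rw [diag_add, ← diag_mul, h1, h2, map_zero, add_zero] at h3
      exact h3.symm
    have h4 := LinearMap.finrank_le_finrank_of_injective hΘ
    rw [Module.finrank_prod] at h4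
    show N * N + F.card ≤ D
    omega

end CfsgLib.Turull
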