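import Cfsg.Agent.Lib.Turull.Lev

/-!
# A quotient on which the automorphism is irreducible

Free action gives congruences for the indices of invariant subgroups; operators commuting with an irreducible
automorphism of an abelian quotient commute with each other.
-/

set_option autoImplicit false
set_option linter.style.haveILetI false

namespace CfsgLib.Turull

open scoped commutatorElement

variable {H : Type*} [Group H] [Finite H] {s : H} {r : ℕ} {G0 : Subgroup H}

/-- A free action gives a congruence for the index. -/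
theorem dvd_relIndex_sub_one (c : Ctx s r G0) {A M : Subgroup H} [M.Normal] (hA : A ≤ M)
    (hsA : s ∈ Subgroup.normalizer (A : Set H))
    (hfix : ∀ x ∈ M, x⁻¹ * (s * x * s⁻¹) ∈ A → x ∈ A) : r ∣ A.relIndex M - 1 := by
  let A' : Subgroup M := A.subgroupOf M
  let σ : MulAut M := MulAut.conjNormal s
  have hmem : ∀ x : M, x ∈ A' ↔ σ x ∈ A' := fun x => by
    simp only [A', σ, Subgroup.mem_subgroupOf, MulAut.conjNormal_apply]
    exact (mem_normalizer_conj_iff hsA).symm
  let π : Equiv.Perm (M ⧸ A') := Quotient.congr σ.toEquiv fun a b => by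
    rw [QuotientGroup.leftRel_apply, QuotientGroup.leftRel_apply, MulEquiv.toEquiv_eq_coe, EquivLike.coe_coe,
      ← map_inv, ← map_mul, ← hmem]
  have hπ : ∀ (i : ℕ) (x : M), (π ^ i) (x : M ⧸ A') = (((σ ^ i) x : M) : M ⧸ A') := by
    intro i
    induction i with
    | zero => intro x; rfl
    | succ i ih =>
      intro x
      rw [pow_succ, Equiv.Perm.mul_apply, pow_succ σ, MulAut.mul_apply, ← ih]
      rfl
  have hσr : σ ^ r = 1 := by rw [← map_pow, c.pow_eq, map_one]
  have hπr : π ^ r = 1 := Equiv.ext fun a => by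
    induction a using QuotientGroup.induction_on with
    | H x => rw [hπ, hσr]; rfl
  refine dvd_card_sub_one_of_free π c.prime.pos hπr ((1 : M) : M ⧸ A') ?_ fun a ha i hi0 hi => ?_
  · have := hπ 1 1
    rwa [pow_one, map_one] at this
  · refine perm_free_of_moved c.prime hπr (fun e => ha ?_) hi0 hi
    induction a using QuotientGroup.induction_on with
    | H x =>
      have h1 := hπ 1 x
      rw [pow_one, e, pow_one, QuotientGroup.eq, Subgroup.mem_subgroupOf] at h1
      exact QuotientGroup.eq.mpr (by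
        simpa [A', Subgroup.mem_subgroupOf] using hfix x x.2 (by simpa [σ] using h1))

variable {T N : Subgroup H} [T.Normal] [N.Normal]

/-- The smallest proper invariant subgroup would give a small index. -/
theorem eq_top_of_invariant (c : Ctx s r G0) (hTG : T ≤ G0) (hN : N ≤ T)
    (hfix : ∀ x ∈ T, s * x = x * s → x ∈ N) {p : ℕ} (hp : p.Prime) (hTp : IsPGroup p T) (hr2 : r ≠ 2)
    (hidx : N.relIndex T = (2 * r - 1) ^ 2) {Z : Subgroup H} (hNZ : N ≤ Z) (hZT : Z ≤ T)
    (hsZ : s ∈ Subgroup.normalizer (Z : Set H)) (hTZ : T ≤ Subgroup.normalizer (Z : Set H)) :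
    Z ≤ N ∨ T ≤ Z := by
  haveI : Fact p.Prime := ⟨hp⟩
  have hfree : ∀ A : Subgroup H, N ≤ A → A ≤ T → s ∈ Subgroup.normalizer (A : Set H) →
      ∀ x ∈ T, x⁻¹ * (s * x * s⁻¹) ∈ A → x ∈ A := fun A hA1 hA2 hsA x hx h => by
    obtain ⟨z, hz, hzs, hxz⟩ := c.exists_fixed_rep hTG (by rw [Subgroup.normalizer_eq_top]; exact Subgroup.mem_top s)
      hA2 hsA hx h
    have h2 := A.mul_mem (hA1 (hfix z hz hzs)) (A.inv_mem hxz)
    rwa [show z * (x⁻¹ * z)⁻¹ = x by group] at h2
  have hmul := Subgroup.relIndex_mul_relIndex N Z T hNZ hZT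
  have h2 : r ∣ Z.relIndex T - 1 := dvd_relIndex_sub_one c hZT hsZ (hfree Z hNZ hZT hsZ)
  have hodd : ∀ m : ℕ, m ∣ N.relIndex T → ¬ 2 ∣ m := fun m hm h => by
    have h3 := Nat.prime_two.dvd_of_dvd_pow (hidx ▸ h.trans hm)
    have := c.prime.pos
    omega
  by_cases hTZ' : T ≤ Z
  · exact Or.inr hTZ'
  refine Or.inl ?_
  by_contra hZN
  obtain ⟨x, hxT, hx⟩ := SetLike.not_le_iff_exists.mp hTZ'
  have hpos : 0 < r := c.prime.pos
  have hbig : ∀ m : ℕ, m ≠ 1 → r ∣ m - 1 → m ∣ N.relIndex T → 2 * r + 1 ≤ m := by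
    intro m hm hd hmd
    have hm0 : m ≠ 0 := fun e => hodd m hmd (e ▸ dvd_zero 2)
    obtain ⟨k, hk⟩ := hd
    rcases Nat.lt_or_ge k 2 with hk2 | hk2
    · interval_cases k
      · omega
      · exfalso
        obtain ⟨j, hj⟩ := c.prime.odd_of_ne_two hr2
        exact hodd m hmd ⟨j + 1, by omega⟩
    · have := Nat.mul_le_mul_left r hk2
      omega
  have hd1 : r ∣ N.relIndex Z - 1 := by
    -- from the product
    have hd : r ∣ N.relIndex T - 1 :=
      dvd_relIndex_sub_one c hN (by rw [Subgroup.normalizer_eq_top]; exact Subgroup.mem_top s)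
        (hfree N le_rfl hN (by rw [Subgroup.normalizer_eq_top]; exact Subgroup.mem_top s))
    have hz0 : Z.relIndex T ≠ 0 := Subgroup.index_ne_zero_of_finite
    have hn0 : N.relIndex Z ≠ 0 := Subgroup.index_ne_zero_of_finite
    rw [← Nat.modEq_iff_dvd' (Nat.one_le_iff_ne_zero.mpr hz0)] at h2
    rw [← Nat.modEq_iff_dvd' (Nat.one_le_iff_ne_zero.mpr (by rw [← hmul]; exact Nat.mul_ne_zero hn0 hz0))] at hd
    rw [← Nat.modEq_iff_dvd' (Nat.one_le_iff_ne_zero.mpr hn0)]
    rw [← hmul] at hd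
    calc 1 ≡ N.relIndex Z * Z.relIndex T [MOD r] := hd
      _ ≡ N.relIndex Z * 1 [MOD r] := Nat.ModEq.mul_left _ h2.symm
      _ = N.relIndex Z := mul_one _
  have hA := hbig _ (fun e => hZN (Subgroup.relIndex_eq_one.mp e)) hd1 ⟨_, hmul.symm⟩
  have hB := hbig _ (fun e => hTZ' (Subgroup.relIndex_eq_one.mp e)) h2 ⟨N.relIndex Z, by rw [mul_comm]; exact hmul.symm⟩
  have h5 := Nat.mul_le_mul hA hB
  rw [hmul, hidx] at h5
  have h6 : (2 * r - 1) ^ 2 < (2 * r + 1) * (2 * r + 1) := by
    rw [pow_two]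
    exact Nat.mul_lt_mul'' (by omega) (by omega)
  omega

/-- Operators commuting with `s` commute modulo `N`. -/
theorem commutator_twist_mem (hN : N ≤ T) (hab : ∀ a ∈ T, ∀ b ∈ T, ⁅a, b⁆ ∈ N)
    (hirr : ∀ Z : Subgroup H, N ≤ Z → Z ≤ T → s ∈ Subgroup.normalizer (Z : Set H) →
      T ≤ Subgroup.normalizer (Z : Set H) → Z ≤ N ∨ T ≤ Z)
    {g h : H} (hgs : s * g = g * s) (hhs : s * h = h * s) {t : H} (ht : t ∈ T) :
    t⁻¹ * (⁅g, h⁆ * t * ⁅g, h⁆⁻¹) ∈ N := by
  classical
  let N' : Subgroup T := N.subgroupOf T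
  letI : CommGroup (T ⧸ N') :=
    { (inferInstance : Group (T ⧸ N')) with
      mul_comm := fun a b => by
        induction a using QuotientGroup.induction_on with
        | H x =>
          induction b using QuotientGroup.induction_on with
          | H y =>
            rw [← QuotientGroup.mk_mul, ← QuotientGroup.mk_mul, QuotientGroup.eq, Subgroup.mem_subgroupOf]
            have := hab _ (T.inv_mem y.2) _ (T.inv_mem x.2)
            simpa [commutatorElement_def, mul_assoc] using this }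
  let q : H → (T ⧸ N') →* (T ⧸ N') := fun k => QuotientGroup.map N' N' (MulAut.conjNormal k).toMonoidHom
    (fun x hx => by
      simp only [N', Subgroup.mem_comap, Subgroup.mem_subgroupOf, MulEquiv.coe_toMonoidHom,
        MulAut.conjNormal_apply] at hx ⊢
      exact (inferInstance : N.Normal).conj_mem _ hx k)
  have hq : ∀ k (x : T), q k (x : T ⧸ N') = ((MulAut.conjNormal k x : T) : T ⧸ N') := fun _ _ => rfl
  have hqmul : ∀ a b y, q (a * b) y = q a (q b y) := fun a b y => by
    induction y using QuotientGroup.induction_on with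
    | H x => rw [hq, hq, hq, map_mul, MulAut.mul_apply]
  have hq1 : ∀ y, q 1 y = y := fun y => by
    induction y using QuotientGroup.induction_on with
    | H x => rw [hq, map_one, MulAut.one_apply]
  by_cases hTN : T ≤ N
  · exact N.mul_mem (N.inv_mem (hTN ht)) ((inferInstance : N.Normal).conj_mem _ (hTN ht) _)
  obtain ⟨y0, hy0, hy0N⟩ := SetLike.not_le_iff_exists.mp hTN
  set y : T ⧸ N' := ((⟨y0, hy0⟩ : T) : T ⧸ N')
  -- endomorphisms commuting with everything that commutes with `q s`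
  let Good : Set ((T ⧸ N') →* (T ⧸ N')) :=
    {e | ∀ k : (T ⧸ N') →* (T ⧸ N'), (∀ z, k (q s z) = q s (k z)) → ∀ z, k (e z) = e (k z)}
  let P : Subgroup (T ⧸ N') :=
    { carrier := {z | ∃ e ∈ Good, e y = z}
      one_mem' := ⟨1, fun k _ z => by simp, rfl⟩
      mul_mem' := by
        rintro _ _ ⟨e, he, rfl⟩ ⟨e', he', rfl⟩
        exact ⟨e * e', fun k hk z => by simp [he k hk z, he' k hk z], rfl⟩
      inv_mem' := by
        rintro _ ⟨e, he, rfl⟩
        exact ⟨e⁻¹, fun k hk z => by simp [he k hk z], rfl⟩ }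
  let Z : Subgroup H := (P.comap (QuotientGroup.mk' N')).map T.subtype
  have hid : MonoidHom.id (T ⧸ N') ∈ Good := fun k _ z => rfl
  have hyP : y ∈ P := ⟨MonoidHom.id _, hid, rfl⟩
  have hsP : ∀ z ∈ P, q s z ∈ P := by
    rintro _ ⟨e, he, rfl⟩
    exact ⟨(q s).comp e, fun k hk z => by simp [hk, he k hk z], rfl⟩
  have hNZ : N ≤ Z := fun x hx => ⟨⟨x, hN hx⟩, by
    show ((⟨x, hN hx⟩ : T) : T ⧸ N') ∈ P
    rw [(QuotientGroup.eq_one_iff _).mpr (Subgroup.mem_subgroupOf.mpr hx)]
    exact P.one_mem, rfl⟩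
  have hsZ : s ∈ Subgroup.normalizer (Z : Set H) := CfsgLib.Coprime.mem_normalizer_of_forall_conj fun x hx => by
    obtain ⟨x, hxP, rfl⟩ := hx
    exact ⟨MulAut.conjNormal s x, by
      show ((MulAut.conjNormal s x : T) : T ⧸ N') ∈ P
      rw [← hq]; exact hsP _ hxP, MulAut.conjNormal_apply s x⟩
  have hTZ : T ≤ Subgroup.normalizer (Z : Set H) := fun u hu =>
    CfsgLib.Coprime.mem_normalizer_of_forall_conj fun x hx => by
      obtain ⟨x, hxP, rfl⟩ := hx
      exact ⟨⟨u, hu⟩ * x * (⟨u, hu⟩ : T)⁻¹, by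
        show (((⟨u, hu⟩ : T) * x * (⟨u, hu⟩ : T)⁻¹ : T) : T ⧸ N') ∈ P
        rw [QuotientGroup.mk_mul, QuotientGroup.mk_mul, QuotientGroup.mk_inv, mul_right_comm, mul_inv_cancel,
          one_mul]
        exact hxP, rfl⟩
  have hall : ∀ z, z ∈ P := by
    have hT : T ≤ Z := (hirr Z hNZ (Subgroup.map_subtype_le _) hsZ hTZ).resolve_left fun hle =>
      hy0N (hle ⟨⟨y0, hy0⟩, hyP, rfl⟩)
    intro z
    induction z using QuotientGroup.induction_on with
    | H x =>
      obtain ⟨x', hx', he⟩ := hT x.2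
      obtain rfl : x' = x := Subtype.ext he
      exact hx'
  have hcommσ : ∀ k : H, s * k = k * s → ∀ z, q k (q s z) = q s (q k z) := fun k hk z => by
    rw [← hqmul, ← hqmul, hk]
  have hgh : ∀ z, q g (q h z) = q h (q g z) := by
    obtain ⟨e, he, hey⟩ := hall (q g y)
    have hge : ∀ z, q g z = e z := by
      intro z
      obtain ⟨e', he', rfl⟩ := hall z
      have heσ : ∀ z, e (q s z) = q s (e z) := fun z => (he (q s) (fun _ => rfl) z).symm
      rw [he' (q g) (hcommσ g hgs) y, he' e heσ y, hey]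
    intro z
    rw [hge, hge, he (q h) (hcommσ h hhs) z]
  have hfin : q ⁅g, h⁆ ((⟨t, ht⟩ : T) : T ⧸ N') = ((⟨t, ht⟩ : T) : T ⧸ N') := by
    rw [commutatorElement_def, hqmul, hqmul, hqmul, hgh, ← hqmul g g⁻¹, mul_inv_cancel, hq1, ← hqmul,
      mul_inv_cancel, hq1]
  rw [hq, eq_comm, QuotientGroup.eq, Subgroup.mem_subgroupOf] at hfin
  simp only [Subgroup.coe_mul, Subgroup.coe_inv, MulAut.conjNormal_apply] at hfin
  exact hfin

end CfsgLib.Turull
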