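import Cfsg.Agent.Lib.Turull.Small
import Cfsg.Agent.Lib.Solvable.Fitting

/-!
# The action on a minimal invariant section is centralised

From the odd subgroups to the whole solvable group: the `2`-core acts trivially on a minimal invariant
`2`-section, and the centraliser of the Fitting subgroup is inside it.
-/

set_option autoImplicit false
set_option linter.style.haveILetI false

namespace CfsgLib.Turull

open scoped commutatorElement

variable {H : Type*} [Group H] [Finite H] {s : H} {r : ℕ} {G0 : Subgroup H}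

theorem twistSub_normal (T N : Subgroup H) [hT : T.Normal] [hN : N.Normal] : (twistSub T N).Normal :=
  ⟨fun g hg h t ht => by
    have h1 := hN.conj_mem _ (hg (h⁻¹ * t * h) (hT.conj_mem' t ht h)) h
    rwa [show h * ((h⁻¹ * t * h)⁻¹ * (g * (h⁻¹ * t * h) * g⁻¹)) * h⁻¹ =
      t⁻¹ * (h * g * h⁻¹ * t * (h * g * h⁻¹)⁻¹) by group] at h1⟩

/-- A `q`-quotient is covered by a Sylow subgroup. -/
theorem le_sylow_sup {q : ℕ} [Fact q.Prime] {X N : Subgroup H} [N.Normal] (hX : ∀ x ∈ X, ∃ k, x ^ q ^ k ∈ N)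
    (P : Sylow q X) : X ≤ (P : Subgroup X).map X.subtype ⊔ N := by
  let N' : Subgroup X := N.subgroupOf X
  have htop : (P : Subgroup X) ⊔ N' = ⊤ := by
    rw [← Subgroup.index_eq_one]
    have h1 : ((P : Subgroup X) ⊔ N').index ∣ (P : Subgroup X).index := Subgroup.index_dvd_of_le le_sup_left
    have h2 : ((P : Subgroup X) ⊔ N').index ∣ N'.index := Subgroup.index_dvd_of_le le_sup_right
    have hq : IsPGroup q (X ⧸ N') := fun y => by
      induction y using QuotientGroup.induction_on with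
      | H x =>
        obtain ⟨k, hk⟩ := hX x x.2
        exact ⟨k, by rw [← QuotientGroup.mk_pow, QuotientGroup.eq_one_iff, Subgroup.mem_subgroupOf]; simpa using hk⟩
    obtain ⟨n, hn⟩ := IsPGroup.iff_card.mp hq
    rw [Subgroup.index_eq_card N', hn] at h2
    obtain ⟨j, -, hj⟩ := (Nat.dvd_prime_pow (Fact.out : q.Prime)).mp h2
    rw [hj] at h1 ⊢
    rcases Nat.eq_zero_or_pos j with rfl | hj0
    · rw [pow_zero]
    · exact absurd ((dvd_pow_self q hj0.ne').trans h1) P.not_dvd_index
  calc X = (⊤ : Subgroup X).map X.subtype := by rw [← MonoidHom.range_eq_map, Subgroup.range_subtype]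
    _ = ((P : Subgroup X).map X.subtype) ⊔ N'.map X.subtype := by rw [← htop, Subgroup.map_sup]
    _ ≤ _ := sup_le_sup le_rfl (Subgroup.map_comap_le _ _)

/-- **The centralising statement.** -/
theorem twist_mem_of_minimal (F : Type*) [Field F] [Algebra (ZMod 2) F] [IsAlgClosed F] (c : Ctx s r G0)
    (hr2 : r ≠ 2) [Group.IsSolvable G0] {T R Y0 : Subgroup H} [hT : T.Normal] [hR : R.Normal] [hY : Y0.Normal]
    (hTR : R ≤ T) (hTG : T ≤ G0) (hT2 : IsPGroup 2 T)
    (β : H → H → ZMod 2) (hβr : ∀ x ∈ T, ∀ a ∈ T, ∀ b ∈ T, β x (a * b) = β x a + β x b)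
    (hβsymm : ∀ a ∈ T, ∀ b ∈ T, β a b = β b a) (hβrad : ∀ x ∈ T, x ∈ R ↔ ∀ t ∈ T, β x t = 0)
    (hβconj : ∀ g a b, a ∈ T → b ∈ T → β (g * a * g⁻¹) (g * b * g⁻¹) = β a b)
    {a : ℕ} (ha : a < r) (hidx : (fixMod s T R).relIndex T ≤ 2 ^ a)
    (hRY : R ≤ Y0) (hYT : Y0 ≤ T) (hYne : ¬ Y0 ≤ R)
    (hmin : ∀ Y : Subgroup H, Y.Normal → R ≤ Y → Y ≤ Y0 → Y ≤ R ∨ Y0 ≤ Y) :
    ∀ g ∈ G0, g⁻¹ * (s * g * s⁻¹) ∈ twistSub Y0 R := by
  classical
  haveI := c.normal
  set K0 := twistSub Y0 R with hK0
  haveI : K0.Normal := twistSub_normal Y0 R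
  set mk := QuotientGroup.mk' K0 with hmk
  set X1 := G0.map mk with hX1
  haveI : X1.Normal := Subgroup.Normal.map c.normal mk (QuotientGroup.mk'_surjective K0)
  haveI : Group.IsSolvable X1 := solvable_of_surjective (mk.subgroupMap_surjective G0)
  let σ : MulAut X1 := MulAut.conjNormal (mk s)
  have hTK : twistSub T R ≤ K0 := fun g hg y hy => hg y (hYT hy)
  -- the cores are centralised
  have hcore : ∀ q : ℕ, q.Prime → ∀ f ∈ Cfsg.pCore q X1, σ f = f := by
    intro q hq f hf
    haveI : Fact q.Prime := ⟨hq⟩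
    set P1 := (Cfsg.pCore q X1).map X1.subtype with hP1
    haveI : (Cfsg.pCore q X1).Characteristic := CfsgLib.Fitting.pCore_characteristic q
    haveI : P1.Normal := inferInstance
    set X := G0 ⊓ P1.comap mk with hX
    haveI : X.Normal := inferInstance
    have hP1p : IsPGroup q P1 := (CfsgLib.Fitting.pCore_isPGroup q).map _
    have hXq : ∀ x ∈ X, ∃ k, x ^ q ^ k ∈ K0 := fun x hx => by
      obtain ⟨k, hk⟩ := hP1p ⟨mk x, hx.2⟩
      refine ⟨k, (QuotientGroup.eq_one_iff _).mp ?_⟩
      have := congrArg Subtype.val hk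
      rw [Subgroup.coe_pow, Subgroup.coe_one, ← map_pow] at this
      exact this
    obtain ⟨f0, hf0, hf0e⟩ : ∃ f0 ∈ X, mk f0 = (f : H ⧸ K0) := by
      obtain ⟨f0, hf0, he⟩ := f.2
      exact ⟨f0, ⟨hf0, by show mk f0 ∈ P1; rw [he]; exact ⟨f, hf, rfl⟩⟩, he⟩
    suffices hgoal : f0⁻¹ * (s * f0 * s⁻¹) ∈ K0 by
      refine Subtype.ext ?_
      have h1 := (QuotientGroup.eq_one_iff _).mpr hgoal
      rw [QuotientGroup.mk_mul, QuotientGroup.mk_inv, inv_mul_eq_one, QuotientGroup.mk_mul, QuotientGroup.mk_mul,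
        QuotientGroup.mk_inv] at h1
      show mk s * (f : H ⧸ K0) * (mk s)⁻¹ = (f : H ⧸ K0)
      rw [← hf0e]
      exact h1.symm
    rcases eq_or_ne q 2 with rfl | hq2
    · -- the 2-core is trivial
      obtain ⟨P⟩ : Nonempty (Sylow 2 X) := inferInstance
      set S2 := (P : Subgroup X).map X.subtype with hS2
      have hS2p : IsPGroup 2 S2 := P.isPGroup'.map _
      have hXS := le_sylow_sup hXq P
      set Y1 := ⁅Y0, X⁆ ⊔ R with hY1
      haveI : Y1.Normal := inferInstance
      have hY1le : Y1 ≤ ⁅Y0, S2⁆ ⊔ R := by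
        refine sup_le (Subgroup.commutator_le.mpr fun y hy x hx => ?_) le_sup_right
        obtain ⟨g, hg, k, hk, rfl⟩ := CfsgLib.Coprime.exists_mul_of_mem_sup
          (by rw [Subgroup.normalizer_eq_top]; exact le_top) (hXS hx)
        rw [show ⁅y, g * k⁆ = ⁅y, g⁆ * (g * ⁅y, k⁆ * g⁻¹) by simp only [commutatorElement_def]; group]
        refine Subgroup.mul_mem _ (Subgroup.mem_sup_left (Subgroup.commutator_mem_commutator hy hg))
          (Subgroup.mem_sup_right (hR.conj_mem _ ?_ g))
        have h1 := hk (y⁻¹) (Y0.inv_mem hy)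
        rwa [show y⁻¹⁻¹ * (k * y⁻¹ * k⁻¹) = ⁅y, k⁆ by simp only [commutatorElement_def]; group] at h1
      have hY1Y : Y1 ≤ Y0 := sup_le (Subgroup.commutator_le_left _ _) hRY
      rcases hmin Y1 inferInstance le_sup_right hY1Y with h | h
      · intro y hy
        have hf0K : f0 ∈ K0 := fun y hy => by
          have h2 : ⁅y⁻¹, f0⁆ ∈ R :=
            h (Subgroup.mem_sup_left (Subgroup.commutator_mem_commutator (Y0.inv_mem hy) hf0))
          simpa [commutatorElement_def, mul_assoc] using h2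
        exact (K0.mul_mem (K0.inv_mem hf0K) ((inferInstance : K0.Normal).conj_mem _ hf0K s)) y hy
      · exfalso
        apply hYne
        have hU : IsPGroup 2 (S2 ⊔ Y0 : Subgroup H) := IsPGroup.to_sup_of_normal_right hS2p (hT2.to_le hYT)
        haveI := hU.isNilpotent
        obtain ⟨n, hn⟩ := (Subgroup.nilpotent_iff_lowerCentralSeries).1
          (inferInstance : Group.IsNilpotent (S2 ⊔ Y0 : Subgroup H))
        have hall : ∀ i, Y0 ≤ ((⊤ : Subgroup (S2 ⊔ Y0 : Subgroup H)).lowerCentralSeries i).map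
            (S2 ⊔ Y0 : Subgroup H).subtype ⊔ R := by
          intro i
          induction i with
          | zero =>
            intro y hy
            exact Subgroup.mem_sup_left ⟨⟨y, Subgroup.mem_sup_right hy⟩, Subgroup.mem_top _, rfl⟩
          | succ i ih =>
            refine (h.trans hY1le).trans (sup_le (Subgroup.commutator_le.mpr fun y hy g hg => ?_) le_sup_right)
            obtain ⟨l, hl, k, hk, rfl⟩ := CfsgLib.Coprime.exists_mul_of_mem_sup
              (by rw [Subgroup.normalizer_eq_top]; exact le_top) (ih hy)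
            rw [show ⁅l * k, g⁆ = (l * ⁅k, g⁆ * l⁻¹) * ⁅l, g⁆ by simp only [commutatorElement_def]; group]
            refine Subgroup.mul_mem _ (Subgroup.mem_sup_right (hR.conj_mem _
              (Subgroup.commutator_le_left R ⊤ (Subgroup.commutator_mem_commutator hk (Subgroup.mem_top g))) l))
              (Subgroup.mem_sup_left ?_)
            obtain ⟨l', hl', rfl⟩ := hl
            exact ⟨⁅l', ⟨g, Subgroup.mem_sup_left hg⟩⁆,
              Subgroup.commutator_mem_commutator hl' (Subgroup.mem_top _), rfl⟩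
        have h2 := hall n
        rwa [hn, Subgroup.map_bot, bot_sup_eq] at h2
    · -- odd cores: an invariant Sylow subgroup
      have hXs : Subgroup.zpowers s ≤ Subgroup.normalizer (X : Set H) := by
        rw [Subgroup.normalizer_eq_top]; exact le_top
      obtain ⟨P, hP⟩ := CfsgLib.Coprime.exists_invariant_sylow (Subgroup.zpowers s) X hXs
        (((c.prime.coprime_iff_not_dvd.mpr fun hd =>
          c.cop (hd.trans (Subgroup.card_dvd_of_le inf_le_left))).coprime_dvd_left
            (by rw [Nat.card_zpowers]; exact orderOf_dvd_of_pow_eq_one c.pow_eq))) (Or.inl inferInstance) q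
      set Q := (P : Subgroup X).map X.subtype with hQ
      have hQG : Q ≤ G0 := by
        rintro _ ⟨x, -, rfl⟩; exact x.2.1
      have hsmall := twist_mem_of_small β hβr hβsymm hβrad hβconj F c hr2 hTR hTG ha hidx hq hq2 Q
        (P.isPGroup'.map _) hQG (hP (Subgroup.mem_zpowers s))
      obtain ⟨g, hg, k, hk, rfl⟩ := CfsgLib.Coprime.exists_mul_of_mem_sup
        (by rw [Subgroup.normalizer_eq_top]; exact le_top) (le_sylow_sup hXq P hf0)
      rw [show (g * k)⁻¹ * (s * (g * k) * s⁻¹) =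
        (k⁻¹ * (g⁻¹ * (s * g * s⁻¹)) * k⁻¹⁻¹) * (k⁻¹ * (s * k * s⁻¹)) by group]
      exact K0.mul_mem ((inferInstance : K0.Normal).conj_mem _ (hTK (hsmall g hg)) _)
        (K0.mul_mem (K0.inv_mem hk) ((inferInstance : K0.Normal).conj_mem _ hk s))
  -- the Fitting subgroup is self-centralising
  have hfit : ∀ f ∈ Cfsg.fittingSubgroup X1, σ f = f := by
    intro f hf
    rw [CfsgLib.Fitting.fitting_eq_iSup_pCore] at hf
    have hle : (⨆ q : (Nat.card X1).primeFactors, Cfsg.pCore (q : ℕ) X1) ≤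
        σ.toMonoidHom.eqLocus (MonoidHom.id X1) :=
      iSup_le fun q x hx => hcore q (Nat.prime_of_mem_primeFactors q.2) x hx
    exact hle hf
  intro g hg
  set x : X1 := ⟨mk g, ⟨g, hg, rfl⟩⟩ with hx
  set d := x⁻¹ * σ x with hd
  have hdc : d ∈ Cfsg.fittingSubgroup X1 := by
    refine CfsgLib.Fitting.centralizer_fitting_le (Subgroup.mem_centralizer_iff.mpr fun f hf => ?_)
    have hn := CfsgLib.Fitting.fitting_normal (G := X1)
    have h1 := hfit _ (hn.conj_mem f hf x)
    rw [map_mul, map_mul, map_inv, hfit f hf] at h1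
    calc f * d = x⁻¹ * (x * f * x⁻¹) * σ x := by rw [hd]; group
      _ = x⁻¹ * (σ x * f * (σ x)⁻¹) * σ x := by rw [h1]
      _ = d * f := by rw [hd]; group
  have hσd : σ d = d := hfit d hdc
  have hpow : ∀ n, (σ ^ n) x = x * d ^ n := by
    intro n
    induction n with
    | zero => simp
    | succ n ih =>
      rw [pow_succ' σ, MulAut.mul_apply, ih, map_mul, map_pow, hσd, pow_succ', ← mul_assoc, hd, mul_inv_cancel_left]
  have h1 := hpow r
  rw [show σ ^ r = 1 by
    show MulAut.conjNormal (mk s) ^ r = 1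
    rw [← map_pow, ← map_pow, c.pow_eq, map_one, map_one], MulAut.one_apply, left_eq_mul] at h1
  have hcard : r.Coprime (Nat.card X1) := c.prime.coprime_iff_not_dvd.mpr fun hdv =>
    c.cop (hdv.trans (Subgroup.card_map_dvd G0 mk))
  have h2 := pow_gcd_eq_one.mpr ⟨h1, pow_card_eq_one' (x := d)⟩
  rw [hcard.gcd_eq_one, pow_one] at h2
  rw [← QuotientGroup.eq_one_iff]
  have h3 := congrArg Subtype.val h2
  rw [hd] at h3
  exact h3

end CfsgLib.Turull
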