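import Cfsg.Agent.Lib.Turull.Pairing
import Cfsg.Agent.Lib.Turull.SmallCore

/-!
# Descent to the next level

An element fixed by `s` fixing the orbit sums of moved members is orthogonal to every moved functional coming
from a minimal invariant section above a radical.
-/

set_option autoImplicit false
set_option linter.style.haveILetI false

namespace CfsgLib.Turull

open Module (End)
open scoped commutatorElement

variable {K W H : Type*} [Field K] [AddCommGroup W] [Module K W] [Group H] [Finite H]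
  {ρ : H →* End K W} {s : H} {r : ℕ} {G0 : Subgroup H}

theorem two_mul_le_two_pow (m : ℕ) : 2 * m ≤ 2 ^ m := by
  induction m with
  | zero => simp
  | succ m ih =>
    rcases Nat.eq_zero_or_pos m with rfl | hm
    · simp
    · rw [pow_succ]; omega

theorem le_normalizer_sup' {A B C : Subgroup H} (hA : C ≤ Subgroup.normalizer (A : Set H))
    (hB : C ≤ Subgroup.normalizer (B : Set H)) : C ≤ Subgroup.normalizer ((A ⊔ B : Subgroup H) : Set H) := by
  intro g hg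
  rw [Subgroup.mem_normalizer_iff_map_conj_eq, Subgroup.map_sup,
    Subgroup.mem_normalizer_iff_map_conj_eq.mp (hA hg), Subgroup.mem_normalizer_iff_map_conj_eq.mp (hB hg)]

theorem relIndex_sup_of_le_normalizer {A F : Subgroup H} (h : F ≤ Subgroup.normalizer (A : Set H)) :
    F.relIndex (A ⊔ F) = F.relIndex A := by
  have h1 := CfsgLib.Coprime.card_sup_mul_card_inf h
  have h2 : Nat.card F * F.relIndex (A ⊔ F) = Nat.card (A ⊔ F : Subgroup H) := by
    rw [Subgroup.relIndex, ← Nat.card_congr (Subgroup.subgroupOfEquivOfLe (le_sup_right : F ≤ A ⊔ F)).toEquiv]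
    exact Subgroup.card_mul_index _
  have h3 : Nat.card (F ⊓ A : Subgroup H) * F.relIndex A = Nat.card A := by
    rw [← Subgroup.inf_relIndex_right, Subgroup.relIndex,
      ← Nat.card_congr (Subgroup.subgroupOfEquivOfLe (inf_le_right : F ⊓ A ≤ A)).toEquiv]
    exact Subgroup.card_mul_index _
  rw [sup_comm A F, inf_comm A F] at *
  rw [← h2, ← h3] at h1
  have hF : 0 < Nat.card F := Nat.card_pos
  have hI : 0 < Nat.card (F ⊓ A : Subgroup H) := Nat.card_pos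
  have h4 : Nat.card F * Nat.card (F ⊓ A : Subgroup H) * F.relIndex (F ⊔ A) =
      Nat.card F * Nat.card (F ⊓ A : Subgroup H) * F.relIndex A := by linarith
  exact Nat.eq_of_mul_eq_mul_left (Nat.mul_pos hF hI) h4

/-- A minimal invariant subgroup above the radical of a component. -/
structure MinSec (ρ : H →* End K W) (T : Subgroup H) (V : Submodule K W) (Y0 : Subgroup H) : Prop where
  le : Y0 ≤ T
  ge : radOn ρ T V ≤ Y0
  ne : ¬ Y0 ≤ radOn ρ T V
  inv : stab ρ V ≤ Subgroup.normalizer (Y0 : Set H)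
  min : ∀ Y : Subgroup H, radOn ρ T V ≤ Y → Y ≤ Y0 → stab ρ V ≤ Subgroup.normalizer (Y : Set H) →
    Y ≤ radOn ρ T V ∨ Y0 ≤ Y

variable {T Phi : Subgroup H} [T.Normal] [Phi.Normal] {p : ℕ} {S : Set W}

namespace Lev

variable [IsAlgClosed K] [FiniteDimensional K W] (h : Lev ρ s r G0 T Phi p S)
include h

omit [IsAlgClosed K] [FiniteDimensional K W] in
/-- The elements orthogonal to `x`. -/
theorem exists_orth {ζ : Phi →* K} (hne : eig ρ Phi ζ ≠ ⊥) (x : T) :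
    ∃ X : Subgroup H, ∀ a, a ∈ X ↔ ∃ ha : a ∈ T, h.pair ζ x ⟨a, ha⟩ = 1 := by
  refine ⟨{ carrier := {a | ∃ ha : a ∈ T, h.pair ζ x ⟨a, ha⟩ = 1}
            one_mem' := ⟨T.one_mem, h.pair_one_right hne x⟩
            mul_mem' := ?_
            inv_mem' := ?_ }, fun a => Iff.rfl⟩
  · rintro b c ⟨hb, hb'⟩ ⟨hc, hc'⟩
    refine ⟨T.mul_mem hb hc, ?_⟩
    rw [show (⟨b * c, T.mul_mem hb hc⟩ : T) = ⟨b, hb⟩ * ⟨c, hc⟩ from rfl, h.pair_mul_right hne, hb', hc',
      one_mul]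
  · rintro b ⟨hb, hb'⟩
    refine ⟨T.inv_mem hb, ?_⟩
    have h1 := h.pair_mul_right hne x ⟨b, hb⟩ (⟨b, hb⟩ : T)⁻¹
    rw [mul_inv_cancel, h.pair_one_right hne, hb', one_mul] at h1
    exact h1.symm

omit [IsAlgClosed K] [FiniteDimensional K W] in
theorem stab_of_fixed {ζ : Phi →* K} (hζ : conjChar s ζ = ζ) : s ∈ stab ρ (eig ρ Phi ζ) := fun w hw => by
  have := apply_mem_eig (ρ := ρ) s hw
  rwa [hζ] at this

/-- No fixed vectors in the component. -/
theorem no_fixed_of_fixes {ζ : Phi →* K} (hne : eig ρ Phi ζ ≠ ⊥) (hζ : conjChar s ζ = ζ) {z cc : T}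
    (hfix : Fixes ρ s r S (z : H)) (hcs : s * (cc : H) = cc * s) (hcz : h.pair ζ z cc ≠ 1) {w0 x0 y : T}
    (hw0y : (w0 : H) = (y : H)⁻¹ * (s * y * s⁻¹))
    (hw0 : ∀ {x : H} (hx : x ∈ T), s * x = x * s → h.pair ζ ⟨x, hx⟩ w0 = 1) (hw0R : h.pair ζ w0 x0 ≠ 1) :
    ∀ w ∈ eig ρ Phi ζ, ρ s w = w → w = 0 := by
  set V := eig ρ Phi ζ with hV
  set P := proj ρ Phi ζ with hP
  have hPs : ∀ w, P (ρ s w) = ρ s (P w) := fun w => proj_rho_of_fixed hζ w
  have hzero : ∀ v ∈ S, ρ s v ≠ v → P (avg ρ s r v) = 0 := by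
    intro v hv hvs
    set a := P (avg ρ s r v)
    have h1 : ρ (z : H) a = a := by rw [← h.proj_apply_comm z.2, hfix v hv hvs]
    have hcv : ρ s (ρ (cc : H) v) ≠ ρ (cc : H) v := fun e => hvs (by
      rw [← rho_mul_apply, hcs, rho_mul_apply] at e
      have := congrArg (ρ (cc : H)⁻¹) e
      rwa [rho_inv_apply, rho_inv_apply] at this)
    have h2 : ρ (z : H) (ρ (cc : H) a) = ρ (cc : H) a := by
      rw [← h.proj_apply_comm cc.2, rho_avg_comm hcs, ← h.proj_apply_comm z.2, hfix _ (h.stable _ v hv) hcv]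
    have h3 := h.pair_spec ζ z cc (proj_mem_eig ζ (avg ρ s r v) : a ∈ V)
    rw [h1, h2] at h3
    have h4 : (h.pair ζ z cc - 1) • ρ (cc : H) a = 0 := by rw [sub_smul, one_smul, ← h3, sub_self]
    exact rho_eq_zero _ ((smul_eq_zero.mp h4).resolve_left (sub_ne_zero.mpr hcz))
  have hnou : ∀ u ∈ S, ρ s u = u → P u = 0 := by
    intro u hu hus
    by_contra hPu
    have hsa : ρ s (P u) = P u := by rw [← hPs, hus]
    rcases exists_moved_avg h.ctx h.rK h.le (by rw [Subgroup.normalizer_eq_top]; exact Subgroup.mem_top s) S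
      (fun t _ => h.stable t) P hPs (fun t ht w => h.proj_apply_comm ht w) hu hus hPu
      (lineStab ρ T (P u)) (fun x hx => hx.1) (lineStab_mem_normalizer hsa)
      (h.normalizer_lineStab (proj_mem_eig ζ u)).2
      (fun x hx he => mem_lineStab.mpr ⟨hx, 1, by rw [he, one_smul]⟩) with ⟨v, hv, hvs, hv0'⟩ | hall
    · exact hv0' (hzero v hv hvs)
    · have hiso : ∀ a b : T, (a : H) ∈ lineStab ρ T (P u) → (b : H) ∈ lineStab ρ T (P u) → h.pair ζ a b = 1 := by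
        intro a b ha hb
        obtain ⟨-, k, hk⟩ := mem_lineStab.mp ha
        obtain ⟨-, l, hl⟩ := mem_lineStab.mp hb
        refine h.pair_eq_of_spec (proj_mem_eig ζ u) hPu ?_
        rw [one_smul, ← hP, ← hl, map_smul, ← hk, map_smul, ← hl, smul_smul, smul_smul, mul_comm]
      apply hw0R
      have hin : (w0 : H) ∈ lineStab ρ T (P u) := hw0y ▸ hall _ y.2
      exact h.pair_eq_one_of_twists hne le_rfl (fun t ht => hiso w0 _ hin (hall t ht))
        (fun x hx hxs => by rw [h.pair_swap hne ⟨x, hx⟩ w0, hw0 hx hxs, inv_one]) x0.2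
  intro w hw hws
  have h0 : P ∘ₗ avg ρ s r = 0 := LinearMap.ext_on h.span fun u hu => by
    by_cases hus : ρ s u = u
    · rw [LinearMap.comp_apply, avg_of_fixed hus, map_smul, hnou u hu hus, smul_zero, LinearMap.zero_apply]
    · exact hzero u hu hus
  have h1 := LinearMap.congr_fun h0 w
  rw [LinearMap.comp_apply, avg_of_fixed hws, map_smul, hP, proj_eq_self h.phi_card hw, LinearMap.zero_apply,
    smul_eq_zero] at h1
  exact h1.resolve_left h.rK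

/-- The twisted part of a component without fixed vectors is small. -/
theorem relIndex_fixMod_le {ζ : Phi →* K} (hne : eig ρ Phi ζ ≠ ⊥) (hζ : conjChar s ζ = ζ)
    (hno : ∀ w ∈ eig ρ Phi ζ, ρ s w = w → w = 0) {w0 x0 y : T}
    (hw0y : (w0 : H) = (y : H)⁻¹ * (s * y * s⁻¹)) (hw0R : h.pair ζ w0 x0 ≠ 1)
    [((radOn ρ T (eig ρ Phi ζ)).subgroupOf (stab ρ (eig ρ Phi ζ))).Normal] :
    p = 2 ∧ r ≠ 2 ∧ ∃ m : ℕ, 2 * m < r ∧
      (fixMod (⟨s, h.stab_of_fixed hζ⟩ : stab ρ (eig ρ Phi ζ)) (T.subgroupOf (stab ρ (eig ρ Phi ζ)))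
        ((radOn ρ T (eig ρ Phi ζ)).subgroupOf (stab ρ (eig ρ Phi ζ)))).relIndex
          (T.subgroupOf (stab ρ (eig ρ Phi ζ))) ≤ 2 ^ (2 * m) := by
  classical
  haveI : Fact p.Prime := ⟨h.prime⟩
  obtain ⟨v0, hv0, hv00⟩ := Submodule.exists_mem_ne_zero_of_ne_bot hne
  have hsV := h.stab_of_fixed hζ
  have hTV : T ≤ stab ρ (eig ρ Phi ζ) := fun t ht w hw => h.mem_eig_apply ht hw
  haveI : Nontrivial (eig ρ Phi ζ) := Submodule.nontrivial_iff_ne_bot.mpr hne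
  set L2 : Subgroup H := T ⊔ Subgroup.zpowers s with hL2
  have hL2L : L2 ≤ stab ρ (eig ρ Phi ζ) := sup_le hTV (Subgroup.zpowers_le.mpr hsV)
  have hsL2 : s ∈ L2 := Subgroup.mem_sup_right (Subgroup.mem_zpowers s)
  set ρ2 : L2 →* End K (eig ρ Phi ζ) := (restr ρ (eig ρ Phi ζ)).comp (Subgroup.inclusion hL2L) with hρ2
  set T1 : Subgroup H := ⁅T, Subgroup.zpowers s⁆ ⊔ Phi with hT1
  have hT1T : T1 ≤ T := sup_le (Subgroup.commutator_le_left _ _) h.phi_le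
  have hT1n : L2 ≤ Subgroup.normalizer (T1 : Set H) :=
    sup_le (le_normalizer_sup' (CfsgLib.Coprime.le_normalizer_commutator_left _ _)
        (by rw [Subgroup.normalizer_eq_top]; exact le_top))
      (le_normalizer_sup' (CfsgLib.Coprime.le_normalizer_commutator_right _ _)
        (by rw [Subgroup.normalizer_eq_top]; exact le_top))
  have hT1L2 : T1 ≤ L2 := hT1T.trans le_sup_left
  haveI : (T1.subgroupOf L2).Normal := (Subgroup.normal_subgroupOf_iff_le_normalizer hT1L2).mpr hT1n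
  have htw1 : ∀ t ∈ T, t⁻¹ * (s * t * s⁻¹) ∈ T1 := fun t ht => Subgroup.mem_sup_left (by
    have h1 := Subgroup.commutator_mem_commutator (T.inv_mem ht) (Subgroup.mem_zpowers s)
    rwa [show ⁅t⁻¹, s⁆ = t⁻¹ * (s * t * s⁻¹) by simp [commutatorElement_def, mul_assoc]] at h1)
  have hscal : ∀ x : L2, (x : H) ∈ Phi → ∃ e : K, ρ2 x = e • 1 := fun x hx =>
    ⟨ζ ⟨x, hx⟩, LinearMap.ext fun w => Subtype.ext (w.2 ⟨x, hx⟩)⟩
  have hrad1 : ∀ x : L2, ∀ hx : x ∈ T1.subgroupOf L2, (x ∈ rad ρ2 (T1.subgroupOf L2) ↔ ∀ t : T, (t : H) ∈ T1 →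
      h.pair ζ ⟨x, hT1T hx⟩ t = 1) := by
    intro x hx
    constructor
    · intro hr t ht
      have h1 := congrArg Subtype.val (LinearMap.congr_fun (hr.2 ⟨t, hT1L2 ht⟩ ht) ⟨v0, hv0⟩)
      exact h.pair_eq_of_spec hv0 hv00 (by rw [one_smul]; exact h1)
    · intro hr
      refine ⟨hx, fun t ht => LinearMap.ext fun w => Subtype.ext ?_⟩
      have h1 := h.pair_spec ζ ⟨x, hT1T hx⟩ ⟨t, hT1T ht⟩ w.2
      rw [hr ⟨t, hT1T ht⟩ ht, one_smul] at h1
      exact h1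
  have hCorth : ∀ x : T, s * (x : H) = x * s → ∀ t : T, (t : H) ∈ T1 → h.pair ζ x t = 1 := by
    intro x hxs t ht
    obtain ⟨X, hX⟩ := h.exists_orth hne x
    have hle : T1 ≤ X := by
      refine sup_le (Subgroup.commutator_le.mpr fun a ha g hg => ?_) fun a ha => (hX a).mpr ⟨h.phi_le ha, ?_⟩
      · obtain ⟨k, rfl⟩ := (mem_powers_iff_mem_zpowers (x := s)).mpr hg
        show ⁅a, s ^ k⁆ ∈ X
        have h1 : s ^ k * (x : H) = x * s ^ k := Ctx.conj_pow_eq hxs k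
        have hsk : s ^ k ∈ stab ρ (eig ρ Phi ζ) := Subgroup.pow_mem _ hsV k
        set a' : T := ⟨s ^ k * a⁻¹ * (s ^ k)⁻¹,
          (inferInstance : T.Normal).conj_mem a⁻¹ (T.inv_mem ha) (s ^ k)⟩ with ha'
        have e : ⁅a, s ^ k⁆ = ((⟨a, ha⟩ * a' : T) : H) := by
          simp [ha', commutatorElement_def, mul_assoc]
        rw [e]
        refine (hX _).mpr ⟨(⟨a, ha⟩ * a' : T).2, ?_⟩
        rw [Subtype.coe_eta, h.pair_mul_right hne, h.pair_conj hne hsk (a := x) (b := (⟨a, ha⟩ : T)⁻¹) (a' := x)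
          (b' := a') (by rw [h1, mul_inv_cancel_right]) (by simp [ha']), ← h.pair_mul_right hne, mul_inv_cancel,
          h.pair_one_right hne]
      · have h1 := (h.mem_radOn_iff hne (x := ⟨a, h.phi_le ha⟩)).mp (h.phi_le_radOn hne ha) x
        rw [h.pair_swap hne ⟨a, h.phi_le ha⟩ x, h1, inv_one]
    exact ((hX _).mp (hle ht)).2
  have hp1 : IsPGroup p (T1.subgroupOf L2) :=
    (h.pgroup.to_le hT1T).of_equiv (Subgroup.subgroupOfEquivOfLe hT1L2).symm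
  have hcard1 : (Nat.card (T1.subgroupOf L2) : K) ≠ 0 := natCast_ne_zero_of_dvd
    (by rw [Nat.card_congr (Subgroup.subgroupOfEquivOfLe hT1L2).toEquiv]; exact Subgroup.card_dvd_of_le hT1T) h.card
  have hw01 : (w0 : H) ∈ T1 := hw0y ▸ htw1 _ y.2
  have hne1 : ¬ T1.subgroupOf L2 ≤ rad ρ2 (T1.subgroupOf L2) := by
    intro hle
    apply hw0R
    refine h.pair_eq_one_of_twists hne le_rfl
      (fun t ht => (hrad1 ⟨w0, hT1L2 hw01⟩ hw01).mp (hle hw01) _ (htw1 t ht))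
      (fun x hx hxs => by rw [h.pair_swap hne ⟨x, hx⟩ w0, hCorth ⟨x, hx⟩ hxs w0 hw01, inv_one]) x0.2
  obtain ⟨hp2, m, hm, hidx1⟩ := no_fixed_exception (ρ := ρ2) (h.ctx.subgroupOf hsL2) h.rK
    (fun x hx => h.le (hT1T hx)) h.prime hp1 hcard1 (fun a ha b hb => hscal _ (h.comm _ (hT1T ha) _ (hT1T hb)))
    (fun x hx hxs => (hrad1 x hx).mpr (hCorth ⟨x, hT1T hx⟩ (congrArg Subtype.val hxs))) hne1
    (fun w hw => Subtype.ext (hno w w.2 (congrArg Subtype.val hw)))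
  subst hp2
  have hr2 : r ≠ 2 := by
    intro e
    have hm0 : m = 0 := by
      rcases Nat.eq_zero_or_pos m with h0 | h0
      · exact h0
      · have : 2 ∣ 2 ^ m := dvd_pow_self 2 h0.ne'
        omega
    rw [hm0, mul_zero, pow_zero] at hidx1
    exact hne1 (Subgroup.relIndex_eq_one.mp hidx1)
  have ha : 2 * m < r := by
    have := two_mul_le_two_pow m
    omega
  refine ⟨rfl, hr2, m, ha, ?_⟩
  have hFMmem : ∀ x (hx : x ∈ T), x⁻¹ * (s * x * s⁻¹) ∈ radOn ρ T (eig ρ Phi ζ) →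
      x ∈ (fixMod (⟨s, hsV⟩ : stab ρ (eig ρ Phi ζ)) (T.subgroupOf (stab ρ (eig ρ Phi ζ)))
        ((radOn ρ T (eig ρ Phi ζ)).subgroupOf (stab ρ (eig ρ Phi ζ)))).map (stab ρ (eig ρ Phi ζ)).subtype :=
    fun x hx hh => ⟨⟨x, hTV hx⟩, ⟨hx, hh⟩, rfl⟩
  have e1 := Subgroup.relIndex_map_map_of_injective
    (fixMod (⟨s, hsV⟩ : stab ρ (eig ρ Phi ζ)) (T.subgroupOf (stab ρ (eig ρ Phi ζ)))
      ((radOn ρ T (eig ρ Phi ζ)).subgroupOf (stab ρ (eig ρ Phi ζ))))
    (T.subgroupOf (stab ρ (eig ρ Phi ζ))) (stab ρ (eig ρ Phi ζ)).subtype_injective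
  have hFT : (fixMod (⟨s, hsV⟩ : stab ρ (eig ρ Phi ζ)) (T.subgroupOf (stab ρ (eig ρ Phi ζ)))
      ((radOn ρ T (eig ρ Phi ζ)).subgroupOf (stab ρ (eig ρ Phi ζ)))).map (stab ρ (eig ρ Phi ζ)).subtype ≤ T := by
    rintro _ ⟨g, hg, rfl⟩; exact hg.1
  rw [Subgroup.map_subgroupOf_eq_of_le hTV] at e1
  rw [← e1]
  generalize (fixMod (⟨s, hsV⟩ : stab ρ (eig ρ Phi ζ)) (T.subgroupOf (stab ρ (eig ρ Phi ζ)))
      ((radOn ρ T (eig ρ Phi ζ)).subgroupOf (stab ρ (eig ρ Phi ζ)))).map (stab ρ (eig ρ Phi ζ)).subtype = FM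
    at hFMmem hFT ⊢
  have hsup : T ≤ T1 ⊔ FM := by
    refine h.ctx.le_of_twists h.le (fun t ht => Subgroup.mem_sup_left (htw1 t ht)) fun x hx hxs =>
      Subgroup.mem_sup_right (hFMmem x hx ?_)
    rw [hxs, mul_inv_cancel_right, inv_mul_cancel]
    exact one_mem _
  have e2 : FM.relIndex T = FM.relIndex T1 := by
    have hTe : T = T1 ⊔ FM := le_antisymm hsup (sup_le hT1T hFT)
    have hn : FM ≤ Subgroup.normalizer (T1 : Set H) := hFT.trans (le_sup_left.trans hT1n)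
    rw [hTe]
    exact CfsgLib.Turull.relIndex_sup_of_le_normalizer hn
  have e3 : FM.relIndex T1 ∣ (rad ρ2 (T1.subgroupOf L2)).relIndex (T1.subgroupOf L2) := by
    rw [← Subgroup.relIndex_map_map_of_injective _ _ L2.subtype_injective,
      Subgroup.map_subgroupOf_eq_of_le hT1L2]
    refine Subgroup.relIndex_dvd_of_le_left _ ?_
    rintro _ ⟨x, hx, rfl⟩
    have hx1 : (x : H) ∈ T1 := hx.1
    have hxR : (x : H) ∈ radOn ρ T (eig ρ Phi ζ) := by
      refine (h.mem_radOn_iff hne (x := ⟨x, hT1T hx1⟩)).mpr fun t => ?_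
      refine h.pair_eq_one_of_twists hne le_rfl (fun t ht => (hrad1 x hx1).mp hx _ (htw1 t ht))
        (fun c hc hcs => ?_) t.2
      rw [h.pair_swap hne ⟨c, hc⟩ ⟨x, hT1T hx1⟩, hCorth ⟨c, hc⟩ hcs _ hx1, inv_one]
    exact hFMmem x (hT1T hx1)
      ((radOn ρ T _).mul_mem ((radOn ρ T _).inv_mem hxR) (conj_mem_radOn hsV hxR))
  rw [e2]
  exact (Nat.le_of_dvd (Nat.pos_of_ne_zero Subgroup.index_ne_zero_of_finite) e3).trans hidx1.le

/-- In a minimal section of a component without fixed vectors, the fixed part is invariant. -/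
theorem section_fixed_invariant (hpow : ∀ x ∈ T, x ^ p ∈ Phi) [Group.IsSolvable G0]
    (hgen : G0 ⊔ Subgroup.zpowers s = ⊤) {ζ : Phi →* K} (hne : eig ρ Phi ζ ≠ ⊥) (hζ : conjChar s ζ = ζ)
    (hno : ∀ w ∈ eig ρ Phi ζ, ρ s w = w → w = 0) {w0 x0 y : T}
    (hw0y : (w0 : H) = (y : H)⁻¹ * (s * y * s⁻¹)) (hw0R : h.pair ζ w0 x0 ≠ 1)
    {Y0 : Subgroup H} (hY : MinSec ρ T (eig ρ Phi ζ) Y0) :
    ∀ g ∈ stab ρ (eig ρ Phi ζ), ∀ x ∈ Y0, x⁻¹ * (s * x * s⁻¹) ∈ radOn ρ T (eig ρ Phi ζ) →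
      g * x * g⁻¹ ∈ Y0 ∧ (g * x * g⁻¹)⁻¹ * (s * (g * x * g⁻¹) * s⁻¹) ∈ radOn ρ T (eig ρ Phi ζ) := by
  classical
  have hTV : T ≤ stab ρ (eig ρ Phi ζ) := fun t ht w hw => h.mem_eig_apply ht hw
  haveI hRLn : ((radOn ρ T (eig ρ Phi ζ)).subgroupOf (stab ρ (eig ρ Phi ζ))).Normal :=
    ⟨fun x hx g => conj_mem_radOn g.2 hx⟩
  haveI hYLn : (Y0.subgroupOf (stab ρ (eig ρ Phi ζ))).Normal :=
    ⟨fun x hx g => (mem_normalizer_conj_iff (hY.inv g.2)).mpr hx⟩
  obtain ⟨hp2, hr2, m, hm, hidx⟩ := h.relIndex_fixMod_le hne hζ hno hw0y hw0R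
  subst hp2
  have hsV := h.stab_of_fixed hζ
  set L := stab ρ (eig ρ Phi ζ) with hL
  haveI : Group.IsSolvable (G0.subgroupOf L) :=
    solvable_of_solvable_injective (f := ((Subgroup.subtype L).comp (G0.subgroupOf L).subtype).codRestrict G0
      fun x => x.2) fun a b e => Subtype.ext (Subtype.ext (congrArg (fun u : G0 => (u : H)) e))
  let β : L → L → ZMod 2 := fun a b =>
    if hh : (a : H) ∈ T ∧ (b : H) ∈ T then (if h.pair ζ ⟨a, hh.1⟩ ⟨b, hh.2⟩ = 1 then 0 else 1) else 0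
  have hβval : ∀ (a b : L) (ha : (a : H) ∈ T) (hb : (b : H) ∈ T),
      β a b = if h.pair ζ ⟨a, ha⟩ ⟨b, hb⟩ = 1 then 0 else 1 := fun a b ha hb => dif_pos ⟨ha, hb⟩
  have hsq : ∀ a b : T, h.pair ζ a b * h.pair ζ a b = 1 := fun a b => by
    rw [← h.pair_mul_right hne]
    have h1 : ((b * b : T) : H) ∈ Phi := by
      have := hpow b b.2
      rwa [pow_two] at this
    rw [h.pair_swap hne (b * b) a, (h.mem_radOn_iff hne (x := b * b)).mp (h.phi_le_radOn hne h1) a, inv_one]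
  have hR : ∀ x ∈ radOn ρ T (eig ρ Phi ζ), x ∈ T := fun x hx => hx.1
  have hcore := twist_mem_of_minimal (AlgebraicClosure (ZMod 2)) (h.ctx.subgroupOf hsV) hr2
    (T := T.subgroupOf L) (R := (radOn ρ T (eig ρ Phi ζ)).subgroupOf L) (Y0 := Y0.subgroupOf L)
    (fun x hx => hR _ hx) (fun x hx => h.le hx)
    (h.pgroup.of_equiv (Subgroup.subgroupOfEquivOfLe hTV).symm) β
    (fun x hx a ha b hb => by
      rw [hβval x (a * b) hx (T.mul_mem ha hb), hβval x a hx ha, hβval x b hx hb]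
      have e := h.pair_mul_right hne ⟨x, hx⟩ ⟨a, ha⟩ ⟨b, hb⟩
      rw [show (⟨(a * b : L), T.mul_mem ha hb⟩ : T) = ⟨a, ha⟩ * ⟨b, hb⟩ from rfl, e]
      have h1 := hsq ⟨x, hx⟩ ⟨a, ha⟩
      have h2 := hsq ⟨x, hx⟩ ⟨b, hb⟩
      rcases mul_self_eq_one_iff.mp h1 with e1 | e1 <;> rcases mul_self_eq_one_iff.mp h2 with e2 | e2 <;>
        rw [e1, e2]
      · simp
      · rw [one_mul, if_pos rfl, zero_add]
      · rw [mul_one, if_pos rfl, add_zero]
      · rw [show (-1 : K) * -1 = 1 by ring]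
        by_cases hm1 : (-1 : K) = 1
        · rw [if_pos rfl, if_pos hm1, add_zero]
        · rw [if_pos rfl, if_neg hm1]; rfl)
    (fun a ha b hb => by
      rw [hβval a b ha hb, hβval b a hb ha, h.pair_swap hne ⟨a, ha⟩ ⟨b, hb⟩]
      simp [inv_eq_one])
    (fun x hx => by
      constructor
      · intro hxR t ht
        rw [hβval x t hx ht, if_pos ((h.mem_radOn_iff hne (x := ⟨x, hx⟩)).mp hxR ⟨t, ht⟩)]
      · intro hxt
        refine (h.mem_radOn_iff hne (x := ⟨x, hx⟩)).mpr fun t => ?_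
        have h1 := hxt ⟨t, hTV t.2⟩ t.2
        rw [hβval x _ hx t.2] at h1
        by_contra h2
        rw [if_neg h2] at h1
        exact one_ne_zero h1)
    (fun g a b ha hb => by
      rw [hβval a b ha hb, hβval _ _ ((inferInstance : T.Normal).conj_mem _ ha g)
        ((inferInstance : T.Normal).conj_mem _ hb g)]
      rw [h.pair_conj hne (g := (g : H)) g.2 (a := ⟨a, ha⟩) (b := ⟨b, hb⟩) (by simp) (by simp)])
    hm hidx (fun x hx => hY.ge hx) (fun x hx => hY.le hx)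
    (fun hle => hY.ne fun x hx => hle (x := ⟨x, hTV (hY.le hx)⟩) hx)
    (fun Y hYn hRY hYY => by
      rcases hY.min (Y.map L.subtype) (fun x hx => ⟨⟨x, hTV (hR x hx)⟩, hRY hx, rfl⟩)
        (by rintro _ ⟨x, hx, rfl⟩; exact hYY hx)
        (fun g hg => CfsgLib.Coprime.mem_normalizer_of_forall_conj (by
          rintro _ ⟨x, hx, rfl⟩
          exact ⟨⟨g, hg⟩ * x * (⟨g, hg⟩ : L)⁻¹, hYn.conj_mem x hx _, rfl⟩)) with h1 | h1
      · exact Or.inl fun x hx => h1 ⟨x, hx, rfl⟩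
      · refine Or.inr fun x hx => ?_
        obtain ⟨x', hx', he⟩ := h1 (show (x : H) ∈ Y0 from hx)
        obtain rfl : x' = x := Subtype.ext he
        exact hx')
  intro g hg x hx hxfix
  have hR' : ∀ {a : H}, a ∈ L → ∀ {u : H}, u ∈ radOn ρ T (eig ρ Phi ζ) →
      a * u * a⁻¹ ∈ radOn ρ T (eig ρ Phi ζ) := fun ha _ hu => conj_mem_radOn ha hu
  refine ⟨(mem_normalizer_conj_iff (hY.inv hg)).mpr hx, ?_⟩
  haveI := h.ctx.normal
  obtain ⟨e, he, g0, hg0, rfl⟩ := CfsgLib.Coprime.exists_mul_of_mem_sup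
    (H := Subgroup.zpowers s) (N := G0) (x := g) (by rw [Subgroup.normalizer_eq_top]; exact le_top)
    (by rw [sup_comm, hgen]; exact Subgroup.mem_top g)
  have heL : e ∈ L := Subgroup.zpowers_le.mpr hsV he
  have hg0L : g0 ∈ L := by
    have h1 := L.mul_mem (L.inv_mem heL) hg
    rwa [inv_mul_cancel_left] at h1
  obtain ⟨k, hk⟩ := Subgroup.mem_zpowers_iff.mp he
  have hse : s * e = e * s := by rw [← hk]; exact ((Commute.refl s).zpow_right k).eq
  set c : H := g0⁻¹ * (s * g0 * s⁻¹) with hc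
  have hcL : c ∈ L := L.mul_mem (L.inv_mem hg0L) (L.mul_mem (L.mul_mem hsV hg0L) (L.inv_mem hsV))
  have h1 : x⁻¹ * (c * x * c⁻¹) ∈ radOn ρ T (eig ρ Phi ζ) :=
    hcore ⟨g0, hg0L⟩ hg0 ⟨x, hTV (hY.le hx)⟩ hx
  have h2 := hR' hg0L ((radOn ρ T _).mul_mem h1 (hR' hcL hxfix))
  have h3 := hR' heL h2
  convert h3 using 1
  rw [hc]
  have e1 : s * (e * g0 * x * (e * g0)⁻¹) * s⁻¹ = e * (s * g0 * x * g0⁻¹ * s⁻¹) * e⁻¹ := by
    calc s * (e * g0 * x * (e * g0)⁻¹) * s⁻¹ = (s * e) * g0 * x * g0⁻¹ * (s * e)⁻¹ := by group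
      _ = (e * s) * g0 * x * g0⁻¹ * (e * s)⁻¹ := by rw [hse]
      _ = _ := by group
  rw [e1]
  group

/-- **Descent.** -/
theorem pair_eq_one_of_fixes (hpow : ∀ x ∈ T, x ^ p ∈ Phi) [Group.IsSolvable G0]
    (hgen : G0 ⊔ Subgroup.zpowers s = ⊤) {z : T} (hz : s * (z : H) = z * s) (hfix : Fixes ρ s r S (z : H))
    {ζ : Phi →* K} (hne : eig ρ Phi ζ ≠ ⊥) {Y0 : Subgroup H} (hY : MinSec ρ T (eig ρ Phi ζ) Y0) {y : T}
    (hyY : (y : H) ∈ Y0)
    (hmoved : ∃ x : T, h.pair ζ y x ≠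
      h.pair ζ ⟨s * y * s⁻¹, (inferInstance : T.Normal).conj_mem y y.2 s⟩ x) :
    h.pair ζ y z = 1 := by
  classical
  have hTV : T ≤ stab ρ (eig ρ Phi ζ) := fun t ht w hw => h.mem_eig_apply ht hw
  obtain ⟨v0, hv0, hv00⟩ := Submodule.exists_mem_ne_zero_of_ne_bot hne
  by_cases hζ : conjChar s ζ = ζ
  swap
  · -- a moved component is fixed pointwise
    have hzw : ∀ w ∈ eig ρ Phi ζ, ρ (z : H) w = w := fun w hw => rho_eq_of_moved_weight h.ctx
      (h.phi_le.trans h.le)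
      h.phi_card h.phi_comm S h.span (fun n _ u hu => h.stable n u hu) (h.le z.2) hz hfix hζ hw
    refine h.pair_eq_of_spec hv0 hv00 ?_
    rw [one_smul, hzw _ hv0, hzw _ (h.mem_eig_apply y.2 hv0)]
  by_contra hyz
  set sys : T := ⟨s * y * s⁻¹, (inferInstance : T.Normal).conj_mem y y.2 s⟩ with hsys
  set w0 : T := y⁻¹ * sys with hw0
  have hw0y : (w0 : H) = (y : H)⁻¹ * (s * y * s⁻¹) := rfl
  obtain ⟨x0, hx0⟩ := hmoved
  have hw0R : h.pair ζ w0 x0 ≠ 1 := by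
    intro e
    apply hx0
    have h1 := h.pair_mul_left hne y w0 x0
    rw [e, mul_one, hw0, mul_inv_cancel_left] at h1
    exact h1.symm
  have hsV := h.stab_of_fixed hζ
  have horth : ∀ {c : T}, s * (c : H) = c * s → ∀ {t : H} (ht : t ∈ T), h.pair ζ c ⟨t⁻¹ * (s * t * s⁻¹),
      T.mul_mem (T.inv_mem ht) ((inferInstance : T.Normal).conj_mem t ht s)⟩ = 1 := fun {c} hc {t} ht =>
    h.pair_fixed_twist hne hζ hc (t := ⟨t, ht⟩)
      (t' := ⟨s * t * s⁻¹, (inferInstance : T.Normal).conj_mem t ht s⟩) rfl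
  obtain ⟨cc, hcs, hcz⟩ : ∃ cc : T, s * (cc : H) = cc * s ∧ h.pair ζ z cc ≠ 1 := by
    by_contra hcon
    push Not at hcon
    apply hyz
    rw [h.pair_swap hne z y, h.pair_eq_one_of_twists hne le_rfl (fun t ht => horth hz ht)
      (fun x hx hxs => hcon ⟨x, hx⟩ hxs) y.2, inv_one]
  have hno := h.no_fixed_of_fixes hne hζ hfix hcs hcz hw0y
    (fun hx hxs => (horth (c := ⟨_, hx⟩) hxs y.2 :)) hw0R
  have hinv := h.section_fixed_invariant hpow hgen hne hζ hno hw0y hw0R hY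
  obtain ⟨Z, hZ⟩ : ∃ Z : Subgroup H, ∀ x, x ∈ Z ↔
      x ∈ Y0 ∧ x⁻¹ * (s * x * s⁻¹) ∈ radOn ρ T (eig ρ Phi ζ) := by
    refine ⟨{ carrier := {x | x ∈ Y0 ∧ x⁻¹ * (s * x * s⁻¹) ∈ radOn ρ T (eig ρ Phi ζ)}
              one_mem' := ⟨Y0.one_mem, by simp⟩
              mul_mem' := ?_
              inv_mem' := ?_ }, fun x => Iff.rfl⟩
    · rintro a b ⟨ha, ha'⟩ ⟨hb, hb'⟩
      refine ⟨Y0.mul_mem ha hb, ?_⟩
      have h1 := (radOn ρ T _).mul_mem (conj_mem_radOn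
        ((stab ρ (eig ρ Phi ζ)).inv_mem (hTV (hY.le hb))) ha') hb'
      convert h1 using 1
      group
    · rintro a ⟨ha, ha'⟩
      refine ⟨Y0.inv_mem ha, ?_⟩
      have h1 := conj_mem_radOn (hTV (hY.le ha)) ((radOn ρ T _).inv_mem ha')
      convert h1 using 1
      group
  have hRZ : radOn ρ T (eig ρ Phi ζ) ≤ Z := fun x hx => (hZ x).mpr
    ⟨hY.ge hx, (radOn ρ T _).mul_mem ((radOn ρ T _).inv_mem hx) (conj_mem_radOn hsV hx)⟩
  rcases hY.min Z hRZ (fun x hx => ((hZ x).mp hx).1) (fun g hg =>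
      CfsgLib.Coprime.mem_normalizer_of_forall_conj fun x hx =>
        (hZ _).mpr (hinv g hg x ((hZ x).mp hx).1 ((hZ x).mp hx).2)) with hle | hle
  · -- only the radical is fixed
    apply hyz
    obtain ⟨X, hX⟩ := h.exists_orth hne z
    haveI hn : (Y0.subgroupOf (stab ρ (eig ρ Phi ζ))).Normal :=
      ⟨fun x hx g => (mem_normalizer_conj_iff (hY.inv g.2)).mpr hx⟩
    have hle' := (h.ctx.subgroupOf hsV).le_of_twists (M := Y0.subgroupOf (stab ρ (eig ρ Phi ζ)))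
      (X := X.subgroupOf (stab ρ (eig ρ Phi ζ))) (fun x hx => h.le (hY.le hx))
      (fun x hx => (hX _).mpr ⟨_, horth hz (hY.le hx)⟩) (fun x hx hxs => by
        have hxs' : s * (x : H) = x * s := congrArg Subtype.val hxs
        have hxR : (x : H) ∈ radOn ρ T (eig ρ Phi ζ) := hle ((hZ x).mpr ⟨hx, by
          rw [hxs', mul_inv_cancel_right, inv_mul_cancel]; exact one_mem _⟩)
        have hzx : h.pair ζ z ⟨(x : H), hY.le hx⟩ = 1 := by
          rw [h.pair_swap hne ⟨x, hY.le hx⟩ z, (h.mem_radOn_iff hne (x := ⟨x, hY.le hx⟩)).mp hxR z, inv_one]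
        exact (hX _).mpr ⟨hY.le hx, hzx⟩)
    obtain ⟨_, hy⟩ := (hX _).mp (hle' (show (⟨y, hTV y.2⟩ : stab ρ (eig ρ Phi ζ)) ∈ _ from hyY))
    have hy' : h.pair ζ z y = 1 := hy
    rw [h.pair_swap hne z y, hy', inv_one]
  · apply hw0R
    exact (h.mem_radOn_iff hne (x := w0)).mp ((hZ _).mp (hle hyY)).2 x0

end Lev

end CfsgLib.Turull
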