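import Cfsg.Agent.Lib.Turull.Split

/-!
# The only exception for an element scalar on an eigenspace

An element of prime order `p ≠ r` acting nontrivially modulo the centre and scalar on one eigenspace of the
twisting operator forces `p = 2` and degree `2r - 1`. An operator without fixed vectors forces degree `r - 1`.
-/

set_option autoImplicit false
set_option linter.style.haveILetI false

namespace CfsgLib.Turull

open Module (End)
open CfsgLib.HallHigman
open scoped commutatorElement

theorem sum_of_distribution {r : ℕ} [NeZero r] (n : ZMod r → ℕ) {e : ZMod r} {l : ℕ}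
    (h : ∀ f, f ≠ e → n f = l) : (∑ f, n f) + l = r * l + n e := by
  classical
  rw [← Finset.add_sum_erase _ _ (Finset.mem_univ e),
    Finset.sum_congr rfl fun f hf => h f (Finset.mem_erase.mp hf).1, Finset.sum_const, smul_eq_mul,
    Finset.card_erase_of_mem (Finset.mem_univ e), Finset.card_univ, ZMod.card]
  obtain ⟨m, hm⟩ : ∃ m, r = m + 1 := ⟨r - 1, (Nat.succ_pred_eq_of_pos (NeZero.pos r)).symm⟩
  rw [hm, Nat.add_sub_cancel]
  ring

theorem eq_two_of_bound {r p d0 d1 : ℕ} [hr : Fact r.Prime] [hp : Fact p.Prime] (hrp : r ≠ p)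
    (n : ZMod r → ℕ) {e e0 : ZMod r} {l : ℕ} (hne : ∀ f, f ≠ e → n f = l)
    (he : n e = l + 1 ∨ n e + 1 = l) (hsum : ∑ f, n f = d0 * d1) (hd0 : 0 < d0) (hd1 : 1 < d1)
    (h0 : r ∣ d0 * d0 - 1) (h1 : p * r ∣ d1 * d1 - 1)
    (hb : r * (n e0 * n e0 + (Finset.univ.filter fun f : ZMod r => f ≠ e0 ∧ ¬ p ∣ n f).card) + 1 ≤
      r + d0 * d0) :
    p = 2 ∧ d0 = 1 ∧ d1 + 1 = 2 * r := by
  classical
  set F := Finset.univ.filter fun f : ZMod r => f ≠ e0 ∧ ¬ p ∣ n f with hF
  set N := n e0
  have hr2 := hr.out.two_le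
  have hp2 := hp.out.two_le
  have hd := sum_of_distribution n hne
  rw [hsum] at hd
  have hN : d0 * d1 + 1 ≤ r * (N + 1) := by
    rcases he with he | he
    · have hNl : l ≤ N := by
        rcases eq_or_ne e0 e with h | h
        · show l ≤ n e0
          rw [h, he]; omega
        · exact (hne e0 h).ge
      have h2 := Nat.mul_le_mul_left r hNl
      rw [mul_add, mul_one]
      omega
    · have hNl : l ≤ N + 1 := by
        rcases eq_or_ne e0 e with h | h
        · show l ≤ n e0 + 1
          rw [h, he]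
        · have h' : n e0 = l := hne e0 h
          show l ≤ n e0 + 1
          omega
      have h2 := Nat.mul_le_mul_left r hNl
      omega
  have hsqdvd : ∀ d : ℕ, 1 < d → r ∣ d * d - 1 → r + 1 ≤ d ∨ d + 1 = r := by
    intro d hd' hdiv
    obtain ⟨m, rfl⟩ : ∃ m, d = m + 1 := ⟨d - 1, by omega⟩
    have h2 : (m + 1) * (m + 1) - 1 = m * (m + 2) := by
      rw [show (m + 1) * (m + 1) = m * (m + 2) + 1 by ring, Nat.add_sub_cancel]
    rw [h2] at hdiv
    rcases hr.out.dvd_mul.mp hdiv with h3 | h3
    · exact Or.inl (Nat.succ_le_succ (Nat.le_of_dvd (by omega) h3))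
    · have h4 := Nat.le_of_dvd (by omega) h3
      rcases Nat.lt_or_ge r (m + 2) with h5 | h5
      · obtain ⟨k, hk⟩ := h3
        have hk2 : 2 ≤ k := by
          by_contra hcon
          interval_cases k <;> omega
        have := Nat.mul_le_mul_left r hk2
        exact Or.inl (by omega)
      · exact Or.inr (by omega)
  rcases Nat.lt_or_ge d0 2 with hd0' | hd0'
  · -- no fixed points: small degree
    obtain rfl : d0 = 1 := by omega
    rw [one_mul] at hN hd
    have hNF : N * N + F.card ≤ 1 := by
      by_contra hcon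
      have h5 := Nat.mul_le_mul_left r (show 2 ≤ N * N + F.card by omega)
      omega
    have hN1 : N ≤ 1 := by nlinarith
    have hd1r : d1 + 1 ≤ r * 2 := hN.trans (Nat.mul_le_mul_left r (by omega))
    have hFge : ∀ s : Finset (ZMod r), (∀ f ∈ s, f ≠ e0 ∧ ¬ p ∣ n f) → s.card ≤ F.card := fun s hs =>
      Finset.card_le_card fun f hf => Finset.mem_filter.mpr ⟨Finset.mem_univ f, hs f hf⟩
    have hp1 : ¬ p ∣ 1 := fun h => hp.out.not_dvd_one h
    rcases he with he | he
    · exfalso
      rcases Nat.lt_or_ge l 2 with hl | hl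
      · interval_cases l
        · omega
        · have hee : e0 ≠ e := fun h => by
            have : N = 2 := by show n e0 = 2; rw [h, he]
            omega
          have hN' : N = 1 := hne e0 hee
          rcases Nat.lt_or_ge r 3 with hr3 | hr3
          · have hF1 : 0 < F.card := Finset.card_pos.mpr ⟨e, Finset.mem_filter.mpr
              ⟨Finset.mem_univ e, hee.symm, by
                rw [he]
                intro h
                exact hrp (by
                  rw [(Nat.prime_dvd_prime_iff_eq hp.out Nat.prime_two).mp h]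
                  omega)⟩⟩
            rw [hN'] at hNF
            omega
          · have h6 := hFge ((Finset.univ.erase e).erase e0) fun f hf => by
              simp only [Finset.mem_erase, Finset.mem_univ, and_true] at hf
              exact ⟨hf.1, by rw [hne f hf.2]; exact hp1⟩
            rw [Finset.card_erase_of_mem (Finset.mem_erase.mpr ⟨hee, Finset.mem_univ e0⟩),
              Finset.card_erase_of_mem (Finset.mem_univ e), Finset.card_univ, ZMod.card] at h6
            rw [hN'] at hNF
            omega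
      · have h7 := Nat.mul_le_mul_left r hl
        omega
    · rcases Nat.lt_or_ge l 3 with hl | hl
      · interval_cases l
        · omega
        · exfalso
          have h6 := hFge ((Finset.univ.erase e).erase e0) fun f hf => by
            simp only [Finset.mem_erase, Finset.mem_univ, and_true] at hf
            exact ⟨hf.1, by rw [hne f hf.2]; exact hp1⟩
          rcases eq_or_ne e0 e with hee | hee
          · rw [hee, Finset.erase_eq_of_notMem (Finset.notMem_erase _ _),
              Finset.card_erase_of_mem (Finset.mem_univ e), Finset.card_univ, ZMod.card] at h6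
            omega
          · have hN' : N = 1 := hne e0 hee
            rw [Finset.card_erase_of_mem (Finset.mem_erase.mpr ⟨hee, Finset.mem_univ e0⟩),
              Finset.card_erase_of_mem (Finset.mem_univ e), Finset.card_univ, ZMod.card] at h6
            rw [hN'] at hNF
            omega
        · have hee : e0 = e := by
            by_contra h
            have : N = 2 := hne e0 h
            omega
          refine ⟨?_, rfl, by omega⟩
          by_contra hp'
          have hp2' : ¬ p ∣ 2 := fun h => hp' ((Nat.prime_dvd_prime_iff_eq hp.out Nat.prime_two).mp h)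
          have h6 := hFge (Finset.univ.erase e) fun f hf => by
            simp only [Finset.mem_erase, Finset.mem_univ, and_true] at hf
            exact ⟨hee ▸ hf, by rw [hne f hf]; exact hp2'⟩
          rw [Finset.card_erase_of_mem (Finset.mem_univ e), Finset.card_univ, ZMod.card] at h6
          have hN' : N = 1 := by
            show n e0 = 1
            rw [hee]; omega
          rw [hN'] at hNF
          omega
      · have h7 := Nat.mul_le_mul_left r hl
        omega
  · -- fixed points: the bound fails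
    exfalso
    have hb' : r * (N * N) + 1 ≤ r + d0 * d0 :=
      le_trans (Nat.add_le_add_right (Nat.mul_le_mul_left r (Nat.le_add_right _ _)) 1) hb
    have hd0r : r ≤ d0 + 1 := by rcases hsqdvd d0 (by omega) h0 with h | h <;> omega
    rcases hsqdvd d1 hd1 ((dvd_mul_left r p).trans h1) with h | h
    · have key : (d0 * d1 + 1 : ℤ) - r ≤ r * N := by
        have : ((d0 * d1 + 1 : ℕ) : ℤ) ≤ ((r * (N + 1) : ℕ) : ℤ) := by exact_mod_cast hN
        push_cast at this
        linarith
      have hbz : (r : ℤ) * (N * N) + 1 ≤ r + d0 * d0 := by exact_mod_cast hb'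
      obtain ⟨x, rfl⟩ : ∃ x, d0 = x + 2 := ⟨d0 - 2, by omega⟩
      obtain ⟨y, rfl⟩ : ∃ y, d1 = r + 1 + y := ⟨d1 - (r + 1), by omega⟩
      push_cast at key hbz
      have hxr : (r : ℤ) ≤ x + 3 := by exact_mod_cast (show r ≤ x + 3 by omega)
      have hr' : (2 : ℤ) ≤ r := by exact_mod_cast hr2
      have hL0 : (0 : ℤ) ≤ ((x : ℤ) + 1) * r + (x + 3) := by positivity
      have h5 : ((x : ℤ) + 1) * r + (x + 3) ≤ r * N := by
        have : (0 : ℤ) ≤ ((x : ℤ) + 2) * y := by positivity
        linarith
      have h6 := mul_self_le_mul_self hL0 h5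
      have h7 := mul_le_mul_of_nonneg_left hbz (show (0 : ℤ) ≤ r by positivity)
      have h8 : (0 : ℤ) ≤ ((x : ℤ) * x + 2 * x) * r * r := by positivity
      have h9 : (0 : ℤ) ≤ (((x : ℤ) + 1) * (x + 3)) * r := by positivity
      have h10 : (0 : ℤ) < ((x : ℤ) + 3) * (x + 3) := by positivity
      linarith
    · obtain ⟨y, rfl⟩ : ∃ y, r = y + 2 := ⟨r - 2, by omega⟩
      obtain rfl : d1 = y + 1 := by omega
      have hdiv : p * (y + 2) ∣ y * (y + 2) := by
        have : (y + 1) * (y + 1) - 1 = y * (y + 2) := by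
          rw [show (y + 1) * (y + 1) = y * (y + 2) + 1 by ring, Nat.add_sub_cancel]
        rwa [this] at h1
      have hpy : p ∣ y := Nat.dvd_of_mul_dvd_mul_right (by omega) hdiv
      have hy : 3 ≤ y := by
        rcases Nat.lt_or_ge y 3 with hy | hy
        · exfalso
          obtain h' | h' | h' : y = 0 ∨ y = 1 ∨ y = 2 := by omega
          · omega
          · exact hp.out.not_dvd_one (h' ▸ hpy)
          · exact absurd hr.out (by rw [h']; norm_num)
        · exact hy
      obtain ⟨x, rfl⟩ : ∃ x, d0 = x + (y + 1) := ⟨d0 - (y + 1), by omega⟩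
      obtain ⟨z, rfl⟩ : ∃ z, y = z + 3 := ⟨y - 3, by omega⟩
      have key : (((x + (z + 3 + 1)) * (z + 3 + 1) + 1 : ℕ) : ℤ) - (z + 3 + 2 : ℕ) ≤ ((z + 3 + 2 : ℕ) : ℤ) * N := by
        have : (((x + (z + 3 + 1)) * (z + 3 + 1) + 1 : ℕ) : ℤ) ≤ (((z + 3 + 2) * (N + 1) : ℕ) : ℤ) := by
          exact_mod_cast hN
        push_cast at this ⊢
        linarith
      have hbz : (((z + 3 + 2) * (N * N) + 1 : ℕ) : ℤ) ≤
          ((z + 3 + 2 + (x + (z + 3 + 1)) * (x + (z + 3 + 1)) : ℕ) : ℤ) := by exact_mod_cast hb'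
      push_cast at key hbz
      have hL0 : (0 : ℤ) ≤ ((z : ℤ) + 4) * (x + z + 3) := by positivity
      have h5 : ((z : ℤ) + 4) * (x + z + 3) ≤ ((z : ℤ) + 5) * N := by linarith
      have h6 := mul_self_le_mul_self hL0 h5
      have h7 := mul_le_mul_of_nonneg_left hbz (show (0 : ℤ) ≤ (z : ℤ) + 5 by positivity)
      nlinarith [mul_nonneg (Int.natCast_nonneg x) (Int.natCast_nonneg z),
        sq_nonneg (x : ℤ), sq_nonneg (z : ℤ),
        mul_nonneg (mul_nonneg (Int.natCast_nonneg x) (Int.natCast_nonneg x)) (Int.natCast_nonneg z),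
        mul_nonneg (mul_nonneg (Int.natCast_nonneg x) (Int.natCast_nonneg z)) (Int.natCast_nonneg z),
        mul_nonneg (mul_nonneg (Int.natCast_nonneg z) (Int.natCast_nonneg z)) (Int.natCast_nonneg z)]

variable {K U Q : Type*} [Field K] [AddCommGroup U] [Module K U] [Group Q]
  [IsAlgClosed K] [FiniteDimensional K U] [Nontrivial U] [Finite Q]

omit [Finite Q] in
/-- Twisting operators of commuting automorphisms of coprime orders commute. -/
theorem twist_commute {ρ : Q →* End K U} (hirr : IsIrred ρ) {σ β : MulAut Q}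
    (hcomm : ∀ g, σ (β g) = β (σ g)) {T B : End K U} {r p : ℕ} (hr : 0 < r) (hp : 0 < p)
    (hcop : r.Coprime p) (hT : T ^ r = 1) (hTρ : ∀ g, T * ρ g = ρ (σ g) * T) (hB : B ^ p = 1)
    (hBρ : ∀ g, B * ρ g = ρ (β g) * B) : B * T = T * B := by
  set T' := T ^ (r - 1)
  set B' := B ^ (p - 1)
  have t1 : T * T' = 1 := by rw [← pow_succ', Nat.sub_add_cancel hr, hT]
  have t2 : T' * T = 1 := by rw [← pow_succ, Nat.sub_add_cancel hr, hT]
  have b1 : B * B' = 1 := by rw [← pow_succ', Nat.sub_add_cancel hp, hB]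
  have b2 : B' * B = 1 := by rw [← pow_succ, Nat.sub_add_cancel hp, hB]
  have hT' : ∀ g, T' * ρ g = ρ (σ.symm g) * T' := fun g => by
    have h := hTρ (σ.symm g)
    rw [MulEquiv.apply_symm_apply] at h
    calc T' * ρ g = T' * (ρ g * T) * T' := by rw [mul_assoc, mul_assoc, t1, mul_one]
      _ = T' * (T * ρ (σ.symm g)) * T' := by rw [h]
      _ = ρ (σ.symm g) * T' := by rw [← mul_assoc T', t2, one_mul]
  have hB' : ∀ g, B' * ρ g = ρ (β.symm g) * B' := fun g => by
    have h := hBρ (β.symm g)
    rw [MulEquiv.apply_symm_apply] at h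
    calc B' * ρ g = B' * (ρ g * B) * B' := by rw [mul_assoc, mul_assoc, b1, mul_one]
      _ = B' * (B * ρ (β.symm g)) * B' := by rw [h]
      _ = ρ (β.symm g) * B' := by rw [← mul_assoc B', b2, one_mul]
  set X := B * T * B' * T'
  have hX : ∀ g, X * ρ g = ρ g * X := fun g => by
    calc X * ρ g = B * T * B' * (T' * ρ g) := by simp only [X, mul_assoc]
      _ = B * T * (B' * ρ (σ.symm g)) * T' := by rw [hT']; simp only [mul_assoc]
      _ = B * (T * ρ (β.symm (σ.symm g))) * B' * T' := by rw [hB']; simp only [mul_assoc]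
      _ = (B * ρ (σ (β.symm (σ.symm g)))) * T * B' * T' := by rw [hTρ]; simp only [mul_assoc]
      _ = ρ (β (σ (β.symm (σ.symm g)))) * X := by rw [hBρ]; simp only [X, mul_assoc]
      _ = ρ g * X := by rw [← hcomm, MulEquiv.apply_symm_apply, MulEquiv.apply_symm_apply]
  obtain ⟨c, hc⟩ := exists_eq_smul_one hirr X hX
  have hBT : B * T = c • (T * B) := by
    calc B * T = X * (T * B) := by
          simp only [X, mul_assoc]
          rw [← mul_assoc T', t2, one_mul, b2, mul_one]
      _ = c • (T * B) := by rw [hc, smul_mul_assoc, one_mul]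
  have hne : ∀ S S' : End K U, S * S' = 1 → S ≠ 0 := fun S S' h h0 => by
    rw [h0, zero_mul] at h
    exact zero_ne_one h
  have hk1 : ∀ k, B * T ^ k = c ^ k • (T ^ k * B) := by
    intro k
    induction k with
    | zero => simp
    | succ k ih =>
      rw [pow_succ T, ← mul_assoc, ih, smul_mul_assoc, mul_assoc, hBT, mul_smul_comm, smul_smul, ← mul_assoc,
        ← pow_succ c]
  have hk2 : ∀ k, B ^ k * T = c ^ k • (T * B ^ k) := by
    intro k
    induction k with
    | zero => simp
    | succ k ih =>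
      rw [pow_succ B, mul_assoc, hBT, mul_smul_comm, ← mul_assoc, ih, smul_mul_assoc, smul_smul, mul_assoc,
        mul_comm c, ← pow_succ c]
  have hcr : c ^ r = 1 := by
    have h := hk1 r
    rw [hT, mul_one, one_mul] at h
    exact (smul_left_injective K (hne B B' b1) ((one_smul K B).trans h)).symm
  have hcp : c ^ p = 1 := by
    have h := hk2 p
    rw [hB, mul_one, one_mul] at h
    exact (smul_left_injective K (hne T T' t1) ((one_smul K T).trans h)).symm
  have hc1 : c = 1 := by
    have h := pow_gcd_eq_one.mpr ⟨hcr, hcp⟩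
    rwa [hcop.gcd_eq_one, pow_one] at h
  rw [hBT, hc1, one_smul]

/-- **The exception.** -/
theorem scalar_exception {ρ : Q →* End K U} (hirr : IsIrred ρ) (hinj : Function.Injective ρ)
    (hcl : ∀ g h : Q, ⁅g, h⁆ ∈ Subgroup.center Q) (hram : IsFullyRamified ρ) (σ β : MulAut Q)
    {r p : ℕ} [hr : Fact r.Prime] [hp : Fact p.Prime] (hrp : r ≠ p) (hσ : σ ^ r = 1) (hβ : β ^ p = 1)
    (hcomm : ∀ g, σ (β g) = β (σ g))
    (hfix : ∀ g, g⁻¹ * σ g ∈ Subgroup.center Q → g ∈ Subgroup.center Q)
    (hβz : ∀ z ∈ Subgroup.center Q, β z = z)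
    (hpY : ¬ p ∣ Nat.card (Q ⧸ Subgroup.center Q))
    (hβne : ∃ g, g⁻¹ * β g ∉ Subgroup.center Q)
    {ω : K} (hω : IsPrimitiveRoot ω r) {T B : End K U} (hT : T ^ r = 1)
    (hTρ : ∀ g, T * ρ g = ρ (σ g) * T) (hB : B ^ p = 1) (hBρ : ∀ g, B * ρ g = ρ (β g) * B)
    (e0 : ZMod r) (cB : K) (hscal : ∀ x, T x = ω ^ e0.val • x → B x = cB • x) :
    p = 2 ∧ Nat.card (Q ⧸ Subgroup.center Q) = (2 * r - 1) ^ 2 := by
  classical
  have hTB := twist_commute hirr hcomm hr.out.pos hp.out.pos ((Nat.coprime_primes hr.out hp.out).mpr hrp)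
    hT hTρ hB hBρ
  obtain ⟨ι, _, v, φ, _, hv, -⟩ := exists_joint_eigenbasis hω (IsPrimitiveRoot.one (M := K))
    hω.neZero'.out (by simp) hT (one_pow 1) (by simp : (1 : End K U) * T = T * 1)
  obtain ⟨e, l, hne, he⟩ := multiplicity_distribution hirr hcl hram σ hσ hfix hω hT hTρ v φ hv
  obtain ⟨d0, d1, hc, hd, h0, h1, hd0, hd1⟩ := exists_split hirr hinj hcl hram σ β hrp hσ hβ hcomm hfix hβz hpY
  have hb := scalar_eigen_bound hirr hcl hram σ β hrp hσ hβ hcomm hfix hω hT hTρ hB hBρ hTB v φ hv e0 cB hscal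
  rw [hc] at hb
  have hsum : ∑ f, (Finset.univ.filter fun i => φ i = f).card = d0 * d1 := by
    rw [← Finset.card_eq_sum_card_fiberwise (fun _ _ => Finset.mem_univ _), Finset.card_univ,
      ← Module.finrank_eq_card_basis v, hd]
  have hsq := finrank_sq hirr hcl hram
  have hd1' : 1 < d1 := by
    by_contra hcon
    obtain rfl : d1 = 1 := by omega
    obtain ⟨g, hg⟩ := hβne
    apply hg
    rw [← QuotientGroup.eq]
    haveI := Fintype.ofFinite (Q ⧸ Subgroup.center Q)
    by_contra hne'
    have hlt : Nat.card {a : Q ⧸ Subgroup.center Q // cosetPerm β a = a} < Nat.card (Q ⧸ Subgroup.center Q) := by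
      rw [Nat.card_eq_fintype_card, Nat.card_eq_fintype_card]
      exact Fintype.card_subtype_lt (x := (g : Q ⧸ Subgroup.center Q)) fun h => hne' h.symm
    rw [hd, mul_one] at hsq
    rw [hc, ← hsq, pow_two] at hlt
    exact lt_irrefl _ hlt
  obtain ⟨hp2, hd01, hd11⟩ := eq_two_of_bound hrp (fun f => (Finset.univ.filter fun i => φ i = f).card)
    hne he hsum hd0 hd1' h0 h1 hb
  refine ⟨hp2, ?_⟩
  rw [← hsq, hd, hd01, one_mul]
  congr 1
  omega

/-- An operator without fixed vectors forces degree `r - 1`. -/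
theorem finrank_add_one_of_missing {ρ : Q →* End K U} (hirr : IsIrred ρ)
    (hcl : ∀ g h : Q, ⁅g, h⁆ ∈ Subgroup.center Q) (hram : IsFullyRamified ρ) (σ : MulAut Q) {r : ℕ}
    [hr : Fact r.Prime] (hσ : σ ^ r = 1)
    (hfix : ∀ g, g⁻¹ * σ g ∈ Subgroup.center Q → g ∈ Subgroup.center Q) (hne : ∃ g, g ∉ Subgroup.center Q)
    {ω : K} (hω : IsPrimitiveRoot ω r) {T : End K U} (hT : T ^ r = 1)
    (hTρ : ∀ g, T * ρ g = ρ (σ g) * T) (e0 : ZMod r) (hmiss : ∀ x, T x = ω ^ e0.val • x → x = 0) :
    Module.finrank K U + 1 = r ∧ Nat.card (Q ⧸ Subgroup.center Q) = (r - 1) ^ 2 := by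
  classical
  obtain ⟨ι, _, v, φ, _, hv, -⟩ := exists_joint_eigenbasis hω (IsPrimitiveRoot.one (M := K))
    hω.neZero'.out (by simp) hT (one_pow 1) (by simp : (1 : End K U) * T = T * 1)
  obtain ⟨e, l, hne', he⟩ := multiplicity_distribution hirr hcl hram σ hσ hfix hω hT hTρ v φ hv
  set n := fun f => (Finset.univ.filter fun i => φ i = f).card
  have h0 : n e0 = 0 := Finset.card_eq_zero.mpr (Finset.filter_eq_empty_iff.mpr fun i _ h =>
    v.ne_zero i (hmiss _ (h ▸ hv i)))
  have hsum : ∑ f, n f = Module.finrank K U := by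
    rw [Module.finrank_eq_card_basis v, ← Finset.card_univ,
      Finset.card_eq_sum_card_fiberwise (f := φ) (fun _ _ => Finset.mem_univ _)]
  have hd := sum_of_distribution n hne'
  rw [hsum] at hd
  have hsq := finrank_sq hirr hcl hram
  have h2 : 1 < Nat.card (Q ⧸ Subgroup.center Q) := by
    obtain ⟨g, hg⟩ := hne
    haveI : Nontrivial (Q ⧸ Subgroup.center Q) := ⟨g, 1, fun h => hg ((QuotientGroup.eq_one_iff g).mp h)⟩
    exact Finite.one_lt_card
  have hd2 : 1 < Module.finrank K U := by
    by_contra hcon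
    have hd1 : Module.finrank K U = 1 := by
      have := Module.finrank_pos (R := K) (M := U)
      omega
    rw [hd1, one_pow] at hsq
    omega
  have h3 : Module.finrank K U + 1 = r := by
    have he' : n e = l + 1 ∨ n e + 1 = l := he
    rcases eq_or_ne e0 e with h | h
    · rw [h] at h0
      rcases he' with he' | he'
      · omega
      · obtain rfl : l = 1 := by omega
        omega
    · have hl : l = 0 := (hne' e0 h).symm.trans h0
      subst hl
      rcases he' with he' | he' <;> omega
  refine ⟨h3, ?_⟩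
  rw [← hsq]
  congr 1
  omega

end CfsgLib.Turull
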