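import Cfsg.Agent.Lib.Turull.Weight

/-!
# Additive functionals on a section of a `p`-subgroup

The space of additive functions on `P` killing `Q`, the action on it, its rational members and its
separation properties.
-/

set_option autoImplicit false
set_option linter.style.haveILetI false

namespace CfsgLib.Turull

open Module (End)

variable (K : Type*) [Field K] {X : Type*} [Group X]

/-- Additive functions on `P` killing `Q`. -/
def funcs (P Q : Subgroup X) : Submodule K (P → K) where
  carrier := {f | (∀ a b : P, f (a * b) = f a + f b) ∧ ∀ a : P, (a : X) ∈ Q → f a = 0}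
  add_mem' := fun {f g} hf hg => ⟨fun a b => by simp [hf.1 a b, hg.1 a b]; abel,
    fun a ha => by simp [hf.2 a ha, hg.2 a ha]⟩
  zero_mem' := ⟨fun a b => by simp, fun a _ => rfl⟩
  smul_mem' := fun c f hf => ⟨fun a b => by simp [hf.1 a b]; ring, fun a ha => by simp [hf.2 a ha]⟩

variable {K} {P Q : Subgroup X}

theorem funcs_map_mul (f : funcs K P Q) (a b : P) : (f : P → K) (a * b) = (f : P → K) a + (f : P → K) b :=
  f.2.1 a b

theorem funcs_map_one (f : funcs K P Q) : (f : P → K) 1 = 0 := by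
  have h := funcs_map_mul f 1 1
  rw [one_mul] at h
  exact left_eq_add.mp h

theorem funcs_map_inv (f : funcs K P Q) (a : P) : (f : P → K) a⁻¹ = -(f : P → K) a := by
  refine eq_neg_of_add_eq_zero_left ?_
  rw [← funcs_map_mul, inv_mul_cancel, funcs_map_one]

theorem funcs_eq_zero (f : funcs K P Q) {a : P} (ha : (a : X) ∈ Q) : (f : P → K) a = 0 := f.2.2 a ha

theorem funcs_ext {f g : funcs K P Q} (h : ∀ a, (f : P → K) a = (g : P → K) a) : f = g :=
  Subtype.ext (funext h)

theorem funcs_map_pow (f : funcs K P Q) (a : P) (n : ℕ) : (f : P → K) (a ^ n) = n * (f : P → K) a := by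
  induction n with
  | zero => simp [funcs_map_one]
  | succ n ih => rw [pow_succ, funcs_map_mul, ih]; push_cast; ring

instance [Finite X] : FiniteDimensional K (funcs K P Q) := inferInstance

variable (K P Q) in
/-- The representation on the functionals of a group normalising the section. -/
def funcRep {L : Type*} [Group L] (φ : L →* X) (hP : ∀ g, φ g ∈ Subgroup.normalizer (P : Set X))
    (hQ : ∀ g, φ g ∈ Subgroup.normalizer (Q : Set X)) : L →* End K (funcs K P Q) where
  toFun g :=
    { toFun := fun f => ⟨fun x => (f : P → K) ⟨(φ g)⁻¹ * x * φ g, by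
          simpa using (Subgroup.mem_normalizer_iff.mp (Subgroup.inv_mem _ (hP g)) x).mp x.2⟩,
        fun a b => by
          refine Eq.trans ?_ (funcs_map_mul f _ _)
          exact congrArg (f : P → K) (Subtype.ext (by simp [mul_assoc])),
        fun a ha => funcs_eq_zero f (by
          simpa using (Subgroup.mem_normalizer_iff.mp (Subgroup.inv_mem _ (hQ g)) a).mp ha)⟩
      map_add' := fun f g => rfl
      map_smul' := fun c f => rfl }
  map_one' := LinearMap.ext fun f => funcs_ext fun a => congrArg (f : P → K) (Subtype.ext (by simp))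
  map_mul' a b := LinearMap.ext fun f => funcs_ext fun x => congrArg (f : P → K) (Subtype.ext (by simp [mul_assoc]))

theorem funcRep_apply {L : Type*} [Group L] (φ : L →* X) (hP : ∀ g, φ g ∈ Subgroup.normalizer (P : Set X))
    (hQ : ∀ g, φ g ∈ Subgroup.normalizer (Q : Set X)) (g : L) (f : funcs K P Q) (x y : P)
    (h : (y : X) = (φ g)⁻¹ * x * φ g) : (funcRep K P Q φ hP hQ g f : P → K) x = (f : P → K) y :=
  congrArg (f : P → K) (Subtype.ext h.symm)

variable (K P Q) in
/-- The common zeros of the functionals. -/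
def phiSub : Subgroup X where
  carrier := {x | ∃ h : x ∈ P, ∀ f : funcs K P Q, (f : P → K) ⟨x, h⟩ = 0}
  one_mem' := ⟨P.one_mem, fun f => funcs_map_one f⟩
  mul_mem' := by
    rintro a b ⟨ha, ha'⟩ ⟨hb, hb'⟩
    exact ⟨P.mul_mem ha hb, fun f => by
      rw [show (⟨a * b, P.mul_mem ha hb⟩ : P) = ⟨a, ha⟩ * ⟨b, hb⟩ from rfl, funcs_map_mul, ha' f, hb' f, add_zero]⟩
  inv_mem' := by
    rintro a ⟨ha, ha'⟩
    exact ⟨P.inv_mem ha, fun f => by
      rw [show (⟨a⁻¹, P.inv_mem ha⟩ : P) = (⟨a, ha⟩ : P)⁻¹ from rfl, funcs_map_inv, ha' f, neg_zero]⟩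

theorem phiSub_le : phiSub K P Q ≤ P := fun _ h => h.1

theorem mem_phiSub {x : X} (hx : x ∈ P) : x ∈ phiSub K P Q ↔ ∀ f : funcs K P Q, (f : P → K) ⟨x, hx⟩ = 0 :=
  ⟨fun h => h.2, fun h => ⟨hx, h⟩⟩

theorem le_phiSub : P ⊓ Q ≤ phiSub K P Q := fun _ hx => ⟨hx.1, fun f => funcs_eq_zero f hx.2⟩

theorem commutator_mem_phiSub {a b : X} (ha : a ∈ P) (hb : b ∈ P) : a * b * a⁻¹ * b⁻¹ ∈ phiSub K P Q :=
  ⟨P.mul_mem (P.mul_mem (P.mul_mem ha hb) (P.inv_mem ha)) (P.inv_mem hb), fun f => by
    rw [show (⟨a * b * a⁻¹ * b⁻¹, _⟩ : P) = ⟨a, ha⟩ * ⟨b, hb⟩ * (⟨a, ha⟩ : P)⁻¹ * (⟨b, hb⟩ : P)⁻¹ from rfl,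
      funcs_map_mul, funcs_map_mul, funcs_map_mul, funcs_map_inv, funcs_map_inv]
    ring⟩

theorem pow_mem_phiSub {p : ℕ} [CharP K p] {a : X} (ha : a ∈ P) : a ^ p ∈ phiSub K P Q :=
  ⟨P.pow_mem ha p, fun f => by
    rw [show (⟨a ^ p, _⟩ : P) = (⟨a, ha⟩ : P) ^ p from rfl, funcs_map_pow, CharP.cast_eq_zero, zero_mul]⟩

theorem phiSub_conj_mem {g : X} (hP : g ∈ Subgroup.normalizer (P : Set X))
    (hQ : g ∈ Subgroup.normalizer (Q : Set X)) {x : X} (hx : x ∈ phiSub K P Q) : g * x * g⁻¹ ∈ phiSub K P Q := by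
  obtain ⟨hxP, hx'⟩ := hx
  have hgx := (Subgroup.mem_normalizer_iff.mp hP x).mp hxP
  refine ⟨hgx, fun f => ?_⟩
  have hφ : ∀ (S : Subgroup X), g ∈ Subgroup.normalizer (S : Set X) →
      ∀ u : Subgroup.zpowers g, (Subgroup.zpowers g).subtype u ∈ Subgroup.normalizer (S : Set X) := fun S hS u =>
    (Subgroup.zpowers_le.mpr hS) u.2
  have h1 := hx' (funcRep K P Q (Subgroup.zpowers g).subtype (hφ P hP) (hφ Q hQ)
    ⟨g⁻¹, Subgroup.inv_mem _ (Subgroup.mem_zpowers g)⟩ f)
  rwa [funcRep_apply (y := ⟨g * x * g⁻¹, hgx⟩)] at h1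
  simp

section Prime

variable {p : ℕ} [hp : Fact p.Prime] [Algebra (ZMod p) K] [Finite X]

/-- A functional killing a proper subgroup of a `p`-group. -/
theorem exists_func_of_lt (hP : IsPGroup p P) {Y : Subgroup X} (hY : Y ≤ P) (hQ : P ⊓ Q ≤ Y) (hlt : ¬ P ≤ Y) :
    ∃ f : funcs K P Q, f ≠ 0 ∧ ∀ a : P, (a : X) ∈ Y → (f : P → K) a = 0 := by
  haveI := hP.isNilpotent
  obtain ⟨M, hM, hYM⟩ := (eq_top_or_exists_le_coatom (Y.subgroupOf P)).resolve_left fun e =>
    hlt (Subgroup.subgroupOf_eq_top.mp e)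
  haveI : M.Normal := Subgroup.NormalizerCondition.normal_of_coatom _ Group.normalizerCondition_of_isNilpotent hM
  haveI : Nontrivial (P ⧸ M) := QuotientGroup.nontrivial_iff.mpr hM.1
  obtain ⟨n, hn⟩ := IsPGroup.iff_card.mp (hP.to_quotient M)
  have hdvd : p ∣ Nat.card (P ⧸ M) := by
    rw [hn]
    refine dvd_pow_self p fun e => ?_
    rw [e, pow_zero] at hn
    have := Finite.one_lt_card (α := P ⧸ M)
    omega
  obtain ⟨z, hz⟩ := exists_prime_orderOf_dvd_card' p hdvd
  have htop : Subgroup.zpowers z = ⊤ := by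
    have h1 : (Subgroup.zpowers z).comap (QuotientGroup.mk' M) = ⊤ := by
      refine hM.2 _ (lt_of_le_of_ne (fun x hx => ?_) fun e => ?_)
      · rw [Subgroup.mem_comap, QuotientGroup.mk'_apply, (QuotientGroup.eq_one_iff x).mpr hx]
        exact one_mem _
      · obtain ⟨a, rfl⟩ := QuotientGroup.mk'_surjective M z
        have ha : a ∈ M := by rw [e]; exact Subgroup.mem_zpowers _
        rw [QuotientGroup.mk'_apply, (QuotientGroup.eq_one_iff a).mpr ha, orderOf_one] at hz
        exact hp.out.one_lt.ne hz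
    rw [← Subgroup.map_comap_eq_self_of_surjective (QuotientGroup.mk'_surjective M) (Subgroup.zpowers z), h1,
      Subgroup.map_top_of_surjective _ (QuotientGroup.mk'_surjective M)]
  have hcard : Nat.card (P ⧸ M) = p := by
    rw [← Subgroup.card_top, ← htop, Nat.card_zpowers, hz]
  haveI hcyc : IsCyclic (P ⧸ M) := isCyclic_of_prime_card hcard
  let e : Multiplicative (ZMod p) ≃* P ⧸ M := hcard ▸ zmodCyclicMulEquiv hcyc
  refine ⟨⟨fun a => algebraMap (ZMod p) K (e.symm (a : P ⧸ M)).toAdd, fun a b => by simp,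
    fun a ha => ?_⟩, ?_, fun a ha => ?_⟩
  · have haM : a ∈ M := hYM (Subgroup.mem_subgroupOf.mpr (hQ ⟨a.2, ha⟩))
    show algebraMap (ZMod p) K (e.symm (a : P ⧸ M)).toAdd = 0
    rw [(QuotientGroup.eq_one_iff a).mpr haM, map_one, toAdd_one, map_zero]
  · intro h
    obtain ⟨a, ha⟩ := QuotientGroup.mk'_surjective M (e (Multiplicative.ofAdd 1))
    have h1 : algebraMap (ZMod p) K (e.symm (a : P ⧸ M)).toAdd = 0 := congrFun (congrArg Subtype.val h) a
    rw [show (a : P ⧸ M) = e (Multiplicative.ofAdd 1) from ha, MulEquiv.symm_apply_apply, toAdd_ofAdd, map_one] at h1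
    exact one_ne_zero h1
  · have haM : a ∈ M := hYM (Subgroup.mem_subgroupOf.mpr ha)
    show algebraMap (ZMod p) K (e.symm (a : P ⧸ M)).toAdd = 0
    rw [(QuotientGroup.eq_one_iff a).mpr haM, map_one, toAdd_one, map_zero]

/-- A supplement of the common zeros containing `Q` is everything. -/
theorem le_of_le_sup_phiSub (hP : IsPGroup p P) {Y : Subgroup X} (hY : Y ≤ P) (hQ : P ⊓ Q ≤ Y)
    (h : P ≤ Y ⊔ phiSub K P Q) : P ≤ Y := by
  by_contra hlt
  obtain ⟨f, hf, hfY⟩ := exists_func_of_lt (K := K) hP hY hQ hlt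
  let Z : Subgroup X :=
    { carrier := {x | ∃ hx : x ∈ P, (f : P → K) ⟨x, hx⟩ = 0}
      one_mem' := ⟨P.one_mem, funcs_map_one f⟩
      mul_mem' := by
        rintro a b ⟨ha, ha'⟩ ⟨hb, hb'⟩
        exact ⟨P.mul_mem ha hb, by
          rw [show (⟨a * b, P.mul_mem ha hb⟩ : P) = ⟨a, ha⟩ * ⟨b, hb⟩ from rfl, funcs_map_mul, ha', hb', add_zero]⟩
      inv_mem' := by
        rintro a ⟨ha, ha'⟩
        exact ⟨P.inv_mem ha, by
          rw [show (⟨a⁻¹, P.inv_mem ha⟩ : P) = (⟨a, ha⟩ : P)⁻¹ from rfl, funcs_map_inv, ha', neg_zero]⟩ }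
  have hle : P ≤ Z := h.trans (sup_le (fun x hx => ⟨hY hx, hfY ⟨x, hY hx⟩ hx⟩) fun x hx => ⟨hx.1, hx.2 f⟩)
  exact hf (funcs_ext fun a => (hle a.2).2)

/-- Proper: a nontrivial section has a nonzero functional. -/
theorem exists_func_ne_zero (hP : IsPGroup p P) (h : ¬ P ≤ Q) : ∃ f : funcs K P Q, f ≠ 0 := by
  obtain ⟨f, hf, -⟩ := exists_func_of_lt (K := K) (Y := P ⊓ Q) hP inf_le_left le_rfl
    fun h' => h fun x hx => (h' hx).2
  exact ⟨f, hf⟩

variable (p) in
/-- Functionals with values in the prime field. -/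
def IsRat (f : funcs K P Q) : Prop := ∀ a, ∃ k : ZMod p, algebraMap (ZMod p) K k = (f : P → K) a

omit [Finite X] in
theorem IsRat.funcRep {f : funcs K P Q} (hf : IsRat p f) {L : Type*} [Group L] (φ : L →* X)
    (hP : ∀ g, φ g ∈ Subgroup.normalizer (P : Set X))
    (hQ : ∀ g, φ g ∈ Subgroup.normalizer (Q : Set X)) (g : L) : IsRat p (funcRep K P Q φ hP hQ g f) :=
  fun _ => hf _

/-- Rational functionals separating the section span all functionals. -/
theorem span_eq_top_of_separating (S : Set (funcs K P Q)) (hrat : ∀ f ∈ S, IsRat p f)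
    (hsep : ∀ a : P, (∀ f ∈ S, (f : P → K) a = 0) → (a : X) ∈ phiSub K P Q) :
    Submodule.span K S = ⊤ := by
  classical
  haveI : Finite S := by
    have : Finite {f : funcs K P Q // IsRat p f} := Finite.of_injective
      (fun f (a : P) => (f.2 a).choose) fun f g h => Subtype.ext (funcs_ext fun a => by
        rw [← (f.2 a).choose_spec, ← (g.2 a).choose_spec]
        exact congrArg _ (congrFun h a))
    exact Finite.of_injective (β := {f : funcs K P Q // IsRat p f}) (fun f => ⟨f.1, hrat f.1 f.2⟩)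
      fun f g h => Subtype.ext (congrArg Subtype.val h :)
  haveI := Fintype.ofFinite S
  choose val hval using fun (f : S) => hrat f.1 f.2
  -- the evaluation at the members
  let Λ : P → (S → ZMod p) := fun a f => val f a
  have hΛmul : ∀ a b, Λ (a * b) = Λ a + Λ b := fun a b => funext fun f => by
    apply (algebraMap (ZMod p) K).injective
    rw [Pi.add_apply, map_add, hval, hval, hval, funcs_map_mul]
  let E : Submodule (ZMod p) (S → ZMod p) := Submodule.span (ZMod p) (Set.range Λ)
  have hEeq : ∀ v ∈ E, ∃ a, Λ a = v := by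
    intro v hv
    have hΛ1 : Λ 1 = 0 := funext fun f => (algebraMap (ZMod p) K).injective (by
      rw [Pi.zero_apply, map_zero, hval, funcs_map_one])
    have hΛpow : ∀ (a : P) (n : ℕ), Λ (a ^ n) = (n : ZMod p) • Λ a := by
      intro a n
      induction n with
      | zero => rw [pow_zero, hΛ1, Nat.cast_zero, zero_smul]
      | succ n ih => rw [pow_succ, hΛmul, ih, Nat.cast_succ, add_smul, one_smul]
    induction hv using Submodule.span_induction with
    | mem x hx => exact hx
    | zero => exact ⟨1, hΛ1⟩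
    | add x y _ _ hx hy =>
      obtain ⟨a, rfl⟩ := hx
      obtain ⟨b, rfl⟩ := hy
      exact ⟨a * b, hΛmul a b⟩
    | smul k x _ hx =>
      obtain ⟨a, rfl⟩ := hx
      exact ⟨a ^ k.val, by rw [hΛpow, ZMod.natCast_zmod_val]⟩
  let b := Module.finBasis (ZMod p) E
  choose y hy using fun i => hEeq _ (b i).2
  -- coordinates extend to the ambient space
  obtain ⟨π, hπ⟩ := E.exists_isCompl
  let proj0 : (S → ZMod p) →ₗ[ZMod p] E := Submodule.projectionOnto E π hπ
  refine top_le_iff.mp fun g _ => ?_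
  -- the member attached to a coordinate
  have hcoord : ∀ i, ∀ a : P, ((b.coord i).comp proj0) (Λ a) = b.repr ⟨Λ a, Submodule.subset_span ⟨a, rfl⟩⟩ i :=
    fun i a => by
      rw [LinearMap.comp_apply, show proj0 (Λ a) = ⟨Λ a, Submodule.subset_span ⟨a, rfl⟩⟩ from
        Submodule.projectionOnto_apply_left hπ ⟨Λ a, Submodule.subset_span ⟨a, rfl⟩⟩]
      rfl
  have hg : g = ∑ i, (g : P → K) (y i) • ∑ f : S,
      algebraMap (ZMod p) K (((b.coord i).comp proj0) (Pi.single f 1)) • (f.1) := by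
    refine funcs_ext fun a => ?_
    have hsum : ∀ i, (∑ f : S, algebraMap (ZMod p) K (((b.coord i).comp proj0) (Pi.single f 1)) *
        (f.1 : P → K) a) = algebraMap (ZMod p) K (b.repr ⟨Λ a, Submodule.subset_span ⟨a, rfl⟩⟩ i) := by
      intro i
      rw [← hcoord]
      simp only [← hval, ← map_mul]
      rw [← map_sum]
      congr 1
      conv_rhs => rw [pi_eq_sum_univ' (Λ a), map_sum]
      refine Finset.sum_congr rfl fun f _ => ?_
      rw [map_smul, smul_eq_mul, mul_comm]
    simp only [Submodule.coe_sum, Finset.sum_apply, SetLike.val_smul, Pi.smul_apply, smul_eq_mul, hsum]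
    -- compare `a` with the product of the representatives
    set c := fun i => b.repr ⟨Λ a, Submodule.subset_span ⟨a, rfl⟩⟩ i
    have hlist : ∀ s : Finset (Fin (Module.finrank (ZMod p) E)), ∃ z : P, Λ z = ∑ i ∈ s, c i • (b i : S → ZMod p) ∧
        (g : P → K) z = ∑ i ∈ s, (g : P → K) (y i) * algebraMap (ZMod p) K (c i) := by
      intro s
      induction s using Finset.induction with
      | empty => exact ⟨1, funext fun f => (algebraMap (ZMod p) K).injective (by
          rw [Finset.sum_empty, hval, funcs_map_one, Pi.zero_apply, map_zero]), by simp [funcs_map_one]⟩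
      | @insert i s hi ih =>
        obtain ⟨z, hz1, hz2⟩ := ih
        refine ⟨y i ^ (c i).val * z, ?_, ?_⟩
        · have hp' : ∀ n : ℕ, Λ (y i ^ n) = (n : ZMod p) • Λ (y i) := fun n => funext fun f => by
            apply (algebraMap (ZMod p) K).injective
            rw [hval, Pi.smul_apply, smul_eq_mul, map_mul, map_natCast, hval, funcs_map_pow]
          rw [hΛmul, hp', ZMod.natCast_zmod_val, hy, hz1, Finset.sum_insert hi]
        · rw [funcs_map_mul, funcs_map_pow, hz2, Finset.sum_insert hi, mul_comm ((g : P → K) (y i))]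
          congr 2
          rw [← map_natCast (algebraMap (ZMod p) K), ZMod.natCast_zmod_val]
    obtain ⟨z, hz1, hz2⟩ := hlist Finset.univ
    rw [← hz2]
    have hza : Λ z = Λ a := by
      rw [hz1]
      have h0 := congrArg Subtype.val (b.sum_repr ⟨Λ a, Submodule.subset_span ⟨a, rfl⟩⟩)
      rw [Submodule.coe_sum] at h0
      exact h0
    have hker : ((a * z⁻¹ : P) : X) ∈ phiSub K P Q := hsep _ fun f hf => by
      have h1 := congrArg (fun v => algebraMap (ZMod p) K (v ⟨f, hf⟩)) hza
      simp only [Λ, hval] at h1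
      rw [funcs_map_mul, funcs_map_inv, h1, add_neg_cancel]
    have h2 := (mem_phiSub (a * z⁻¹).2).mp hker g
    rwa [Subtype.coe_eta, funcs_map_mul, funcs_map_inv, add_neg_eq_zero] at h2
  rw [hg]
  exact Submodule.sum_mem _ fun i _ => Submodule.smul_mem _ _ (Submodule.sum_mem _ fun f _ =>
    Submodule.smul_mem _ _ (Submodule.subset_span f.2))

/-- The functionals killing a subgroup of small index form a small space. -/
theorem finrank_funcs_le {a : ℕ} (hQP : Q ≤ P) (h : Q.relIndex P ≤ p ^ a) :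
    Module.finrank K (funcs K P Q) ≤ a := by
  suffices key : ∀ (n : ℕ) (Q : Subgroup X), Q.relIndex P = n → Q ≤ P → ∀ a, n ≤ p ^ a →
      Module.finrank K (funcs K P Q) ≤ a from key _ Q rfl hQP a h
  intro n
  induction n using Nat.strongRecOn with
  | _ n ih =>
    intro Q hn hQP a ha
    rcases Nat.eq_zero_or_pos (Module.finrank K (funcs K P Q)) with h0 | h0
    · omega
    obtain ⟨f0, hf0⟩ := Module.finrank_pos_iff_exists_ne_zero.mp h0
    obtain ⟨x, hx⟩ : ∃ x : P, (f0 : P → K) x ≠ 0 := by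
      by_contra hc
      push Not at hc
      exact hf0 (funcs_ext hc)
    set Q' := Q ⊔ Subgroup.zpowers (x : X) with hQ'
    have hxP : Subgroup.zpowers (x : X) ≤ P := Subgroup.zpowers_le.mpr x.2
    -- evaluation at `x`
    let ev : funcs K P Q →ₗ[K] K :=
      { toFun := fun f => (f : P → K) x, map_add' := fun _ _ => rfl, map_smul' := fun _ _ => rfl }
    let inc : funcs K P Q' →ₗ[K] funcs K P Q :=
      { toFun := fun f => ⟨f.1, f.2.1, fun b hb => f.2.2 b (Subgroup.mem_sup_left hb)⟩
        map_add' := fun _ _ => rfl, map_smul' := fun _ _ => rfl }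
    have hker : LinearMap.ker ev ≤ LinearMap.range inc := by
      intro f hf
      refine ⟨⟨f.1, f.2.1, fun b hb => ?_⟩, rfl⟩
      let Z : Subgroup X :=
        { carrier := {y | ∃ hy : y ∈ P, (f : P → K) ⟨y, hy⟩ = 0}
          one_mem' := ⟨P.one_mem, funcs_map_one f⟩
          mul_mem' := by
            rintro a b ⟨ha, ha'⟩ ⟨hb, hb'⟩
            exact ⟨P.mul_mem ha hb, by
              rw [show (⟨a * b, P.mul_mem ha hb⟩ : P) = ⟨a, ha⟩ * ⟨b, hb⟩ from rfl, funcs_map_mul, ha', hb',
                add_zero]⟩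
          inv_mem' := by
            rintro a ⟨ha, ha'⟩
            exact ⟨P.inv_mem ha, by
              rw [show (⟨a⁻¹, P.inv_mem ha⟩ : P) = (⟨a, ha⟩ : P)⁻¹ from rfl, funcs_map_inv, ha', neg_zero]⟩ }
      have hle : Q' ≤ Z := sup_le (fun y hy => ⟨hQP hy, funcs_eq_zero f hy⟩)
        (Subgroup.zpowers_le.mpr ⟨x.2, LinearMap.mem_ker.mp hf⟩)
      exact (hle hb).2
    have hrk := ev.finrank_range_add_finrank_ker
    have h1 : Module.finrank K (LinearMap.range ev) ≤ 1 := (Submodule.finrank_le _).trans (Module.finrank_self K).le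
    have h2 := (Submodule.finrank_mono hker).trans (LinearMap.finrank_range_le inc)
    have hmul := Subgroup.relIndex_mul_relIndex Q Q' P le_sup_left (sup_le hQP hxP)
    have hp2 : p ≤ Q.relIndex Q' := by
      let Z1 : Subgroup X := Q
      have hxQ : (x : X) ∉ Q := fun hxq => hx (funcs_eq_zero f0 hxq)
      have hpow : ∀ i, 0 < i → i < p → (x : X) ^ i ∉ Q := fun i hi hip hm => hx (by
        have h3 := funcs_eq_zero f0 (a := x ^ i) (by simpa using hm)
        rw [funcs_map_pow, mul_eq_zero] at h3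
        refine h3.resolve_left fun h4 => ?_
        rw [← map_natCast (algebraMap (ZMod p) K), map_eq_zero_iff _ (algebraMap (ZMod p) K).injective,
          ZMod.natCast_eq_zero_iff] at h4
        exact Nat.not_dvd_of_pos_of_lt hi hip h4)
      rw [Subgroup.relIndex, Subgroup.index]
      let F : Fin p → Q' ⧸ Q.subgroupOf Q' := fun i =>
        ((⟨(x : X) ^ (i : ℕ), Subgroup.mem_sup_right (Subgroup.pow_mem _ (Subgroup.mem_zpowers _) _)⟩ : Q') :
          Q' ⧸ Q.subgroupOf Q')
      refine le_trans (le_of_eq (by simp)) (Nat.card_le_card_of_injective F fun i j hij => ?_)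
      have key : ∀ i j : Fin p, (i : ℕ) < j → F i ≠ F j := fun i j hlt e => by
        rw [QuotientGroup.eq, Subgroup.mem_subgroupOf] at e
        refine hpow ((j : ℕ) - i) (by omega) (by omega) ?_
        simp only [Subgroup.coe_mul, Subgroup.coe_inv] at e
        rwa [inv_mul_eq_of_eq_mul (a := (x : X) ^ (i : ℕ)) (c := (x : X) ^ ((j : ℕ) - i))
          (by rw [← pow_add, Nat.add_sub_cancel' hlt.le])] at e
      rcases lt_trichotomy (i : ℕ) j with h | h | h
      · exact absurd hij (key i j h)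
      · exact Fin.ext h
      · exact absurd hij.symm (key j i h)
    have hQ'0 : 0 < Q'.relIndex P := Nat.pos_of_ne_zero Subgroup.index_ne_zero_of_finite
    obtain ⟨a', rfl⟩ : ∃ a', a = a' + 1 := by
      refine ⟨a - 1, ?_⟩
      rcases a with _ | a
      · exfalso
        have := Nat.mul_le_mul hp2 hQ'0
        rw [hmul, hn] at this
        have := hp.out.two_le
        simp at ha
        omega
      · omega
    have h3 : Q'.relIndex P ≤ p ^ a' := by
      have h4 := Nat.mul_le_mul_right (Q'.relIndex P) hp2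
      rw [hmul, hn] at h4
      rw [pow_succ, mul_comm (p ^ a') p] at ha
      exact Nat.le_of_mul_le_mul_left (h4.trans ha) hp.out.pos
    have h5 := ih (Q'.relIndex P) (by
      rw [← hn, ← hmul]
      calc Q'.relIndex P = 1 * Q'.relIndex P := (one_mul _).symm
        _ < Q.relIndex Q' * Q'.relIndex P := Nat.mul_lt_mul_of_pos_right (lt_of_lt_of_le hp.out.one_lt hp2) hQ'0)
      Q' rfl (sup_le hQP hxP) a' h3
    omega

end Prime

end CfsgLib.Turull
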