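import Cfsg.Agent.Lib.Turull.Descent

/-!
# Conjugates of minimal sections
-/

set_option autoImplicit false
set_option linter.style.haveILetI false

namespace CfsgLib.Turull

open Module (End)

variable {K W H : Type*} [Field K] [AddCommGroup W] [Module K W] [Group H] [Finite H]
  {ρ : H →* End K W} {T Phi : Subgroup H} [T.Normal] [Phi.Normal]

theorem conj_mem_stab_eig {ζ : Phi →* K} (g : H) {a : H} (ha : a ∈ stab ρ (eig ρ Phi ζ)) :
    g * a * g⁻¹ ∈ stab ρ (eig ρ Phi (conjChar g ζ)) := fun w hw => by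
  have h1 : ρ g⁻¹ w ∈ eig ρ Phi ζ := by
    have := apply_mem_eig (ρ := ρ) g⁻¹ hw
    rwa [← conjChar_mul, inv_mul_cancel, conjChar_one] at this
  rw [rho_mul_apply, rho_mul_apply]
  exact apply_mem_eig g (ha _ h1)

theorem conj_mem_radOn_eig {ζ : Phi →* K} (g : H) {x : H} (hx : x ∈ radOn ρ T (eig ρ Phi ζ)) :
    g * x * g⁻¹ ∈ radOn ρ T (eig ρ Phi (conjChar g ζ)) := by
  refine ⟨(inferInstance : T.Normal).conj_mem x hx.1 g, conj_mem_stab_eig g hx.2.1, fun t ht w hw => ?_⟩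
  have h1 : ρ g⁻¹ w ∈ eig ρ Phi ζ := by
    have := apply_mem_eig (ρ := ρ) g⁻¹ hw
    rwa [← conjChar_mul, inv_mul_cancel, conjChar_one] at this
  have h2 := hx.2.2 (g⁻¹ * t * g) ((inferInstance : T.Normal).conj_mem' t ht g) _ h1
  calc ρ (g * x * g⁻¹) (ρ t w) = ρ g (ρ x (ρ (g⁻¹ * t * g) (ρ g⁻¹ w))) := by
        simp only [← rho_mul_apply]; congr 2; group
    _ = ρ g (ρ (g⁻¹ * t * g) (ρ x (ρ g⁻¹ w))) := by rw [h2]
    _ = ρ t (ρ (g * x * g⁻¹) w) := by simp only [← rho_mul_apply]; congr 2; group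

theorem conjChar_inv_conjChar (g : H) (ζ : Phi →* K) : conjChar g⁻¹ (conjChar g ζ) = ζ := by
  rw [← conjChar_mul, inv_mul_cancel, conjChar_one]

/-- The conjugate of a minimal section. -/
theorem MinSec.conj {ζ : Phi →* K} {Y0 : Subgroup H} (h : MinSec ρ T (eig ρ Phi ζ) Y0) (g : H) :
    MinSec ρ T (eig ρ Phi (conjChar g ζ)) (Y0.map (MulAut.conj g).toMonoidHom) := by
  have hR : ∀ {x : H}, x ∈ radOn ρ T (eig ρ Phi (conjChar g ζ)) → g⁻¹ * x * g ∈ radOn ρ T (eig ρ Phi ζ) :=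
    fun {x} hx => by
      have := conj_mem_radOn_eig g⁻¹ hx
      rwa [conjChar_inv_conjChar, inv_inv] at this
  have hS : ∀ {x : H}, x ∈ stab ρ (eig ρ Phi (conjChar g ζ)) → g⁻¹ * x * g ∈ stab ρ (eig ρ Phi ζ) :=
    fun {x} hx => by
      have := conj_mem_stab_eig g⁻¹ hx
      rwa [conjChar_inv_conjChar, inv_inv] at this
  refine ⟨?_, fun x hx => ⟨g⁻¹ * x * g, h.ge (hR hx), by simp [mul_assoc]⟩, fun hle => h.ne fun y hy => ?_,
    fun a ha => CfsgLib.Coprime.mem_normalizer_of_forall_conj ?_, fun Y hRY hYY hinv => ?_⟩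
  · rintro _ ⟨y, hy, rfl⟩
    exact (inferInstance : T.Normal).conj_mem y (h.le hy) g
  · have := hR (hle ⟨y, hy, rfl⟩)
    simpa [mul_assoc] using this
  · rintro _ ⟨y, hy, rfl⟩
    refine ⟨g⁻¹ * a * g * y * (g⁻¹ * a * g)⁻¹, (mem_normalizer_conj_iff (h.inv (hS ha))).mpr hy, ?_⟩
    simp [mul_assoc]
  · rcases h.min (Y.map (MulAut.conj g⁻¹).toMonoidHom)
      (fun x hx => ⟨g * x * g⁻¹, hRY (conj_mem_radOn_eig g hx), by simp [mul_assoc]⟩)
      (by
        rintro _ ⟨y, hy, rfl⟩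
        obtain ⟨y0, hy0, he⟩ := hYY hy
        rw [← he]
        simpa [mul_assoc] using hy0)
      (fun a ha => CfsgLib.Coprime.mem_normalizer_of_forall_conj (by
        rintro _ ⟨y, hy, rfl⟩
        refine ⟨g * a * g⁻¹ * y * (g * a * g⁻¹)⁻¹, (mem_normalizer_conj_iff (hinv (conj_mem_stab_eig g ha))).mpr hy, ?_⟩
        simp [mul_assoc])) with h1 | h1
    · refine Or.inl fun y hy => ?_
      have := conj_mem_radOn_eig g (h1 ⟨y, hy, rfl⟩)
      simpa [mul_assoc] using this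
    · refine Or.inr ?_
      rintro _ ⟨y, hy, rfl⟩
      obtain ⟨y', hy', he⟩ := h1 hy
      rw [← he]
      simpa [mul_assoc] using hy'

end CfsgLib.Turull
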