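import Cfsg.Agent.Lib.Turull.Levels
import Cfsg.Agent.Lib.Turull.MinSecConj

/-!
# The spanning functionals of the levels of a minimal tower
-/

set_option autoImplicit false
set_option linter.style.haveILetI false

namespace CfsgLib.Turull

open Module (End)
open scoped commutatorElement

universe u

variable {X : Type u} [Group X] [Finite X] {s : X} {r : ℕ} {G : Subgroup X} {p : ℕ → ℕ}
  {P : ℕ → Subgroup X} {m : ℕ}
variable [∀ i, Fact (p i).Prime]
variable {K : ℕ → Type} [∀ i, Field (K i)] [∀ i, Algebra (ZMod (p i)) (K i)]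

namespace MinTower

variable (h : MinTower s G p P m)

variable (K) in
/-- The copy of a level inside its operators. -/
abbrev TS (_h : MinTower s G p P m) (i : ℕ) : Subgroup (upS s P (i + 1)) := (P i).subgroupOf (upS s P (i + 1))

variable (K) in
/-- The copy of the Frattini part inside the operators. -/
abbrev PS (_h : MinTower s G p P m) (i : ℕ) : Subgroup (upS s P (i + 1)) :=
  (phiT K P m i).subgroupOf (upS s P (i + 1))

/-- The pairing of a weight. -/
def zpair {i : ℕ} {L : Type*} [Field L] (ζ : (PS K h i) →* L) (a b : TS h i) : L :=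
  ζ ⟨⁅(a : upS s P (i + 1)), (b : upS s P (i + 1))⁆, h.comm_mem _ _ a.2 b.2⟩

/-- An element of a level as an element of the copy. -/
def inT {i : ℕ} (x : P i) : TS h i :=
  ⟨⟨x, le_upS s P (Nat.lt_succ_self i) x.2⟩, x.2⟩

/-- Functionals from weights of an abelian section. -/
def weightSet (i : ℕ) (hi : i < m) : Set (Wt K P m i) :=
  {f | ∃ χ : TS h i →* K (i + 1), eig (h.levRep (K := K) (i + 1) hi) (TS h i) χ ≠ ⊥ ∧
    ∀ x : P i, (f : P i → K i) x = dlog (K i) (p i) (χ (h.inT x))}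

/-- Functionals from the pairings of minimal sections. -/
def pairSet (i : ℕ) (hi : i < m) : Set (Wt K P m i) :=
  {f | ∃ ζ : PS K h i →* K (i + 1), eig (h.levRep (K := K) (i + 1) hi) (PS K h i) ζ ≠ ⊥ ∧
    ∃ Y0 : Subgroup (upS s P (i + 1)),
      MinSec (h.levRep (K := K) (i + 1) hi) (TS h i) (eig (h.levRep (K := K) (i + 1) hi) (PS K h i) ζ) Y0 ∧
      ∃ y : TS h i, (y : upS s P (i + 1)) ∈ Y0 ∧
        ∀ x : P i, (f : P i → K i) x = dlog (K i) (p i) (h.zpair ζ y (h.inT x))}

open Classical in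
/-- The spanning functionals of a level. -/
noncomputable def Gam (i : ℕ) : Set (Wt K P m i) :=
  if hi : i < m then (if ⁅P i, P i⁆ ≤ kerT P m i then h.weightSet i hi else h.pairSet i hi)
  else {f | IsRat (p i) f}

include h

theorem gam_rat (i : ℕ) : ∀ f ∈ h.Gam (K := K) i, IsRat (p i) f := by
  intro f hf
  by_cases hi : i < m
  · by_cases hab : ⁅P i, P i⁆ ≤ kerT P m i
    · rw [Gam, dif_pos hi, if_pos hab] at hf
      obtain ⟨χ, -, hχ⟩ := hf
      exact fun a => by rw [hχ a]; exact dlog_rat _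
    · rw [Gam, dif_pos hi, if_neg hab] at hf
      obtain ⟨ζ, -, Y0, -, y, -, hy⟩ := hf
      exact fun a => by rw [hy a]; exact dlog_rat _
  · rw [Gam, dif_neg hi] at hf
    exact hf

variable [∀ i, IsAlgClosed (K i)]

theorem gam_stable (i : ℕ) (hi : i ≤ m) : ∀ g, ∀ f ∈ h.Gam (K := K) i, h.levRep i hi g f ∈ h.Gam (K := K) i := by
  intro g f hf
  by_cases him : i < m
  · haveI := h.T_normal him
    haveI := h.Phi_normal (K := K) him
    set g' : upS s P (i + 1) := Subgroup.inclusion (upS_mono s P (Nat.le_succ i)) g with hg'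
    have hev : ∀ x : P i, ∃ y : P i, (y : X) = (g : X)⁻¹ * x * g ∧
        (h.levRep i hi g f : P i → K i) x = (f : P i → K i) y := fun x => by
      have hy : (g : X)⁻¹ * x * g ∈ P i := by
        simpa using (mem_normalizer_conj_iff (inv_mem (h.tower.upS_le_normalizer (Nat.le_succ i) hi g.2))).mpr x.2
      exact ⟨⟨_, hy⟩, rfl, h.levRep_apply i hi g f x ⟨_, hy⟩ rfl⟩
    by_cases hab : ⁅P i, P i⁆ ≤ kerT P m i
    · rw [Gam, dif_pos him, if_pos hab] at hf ⊢
      obtain ⟨χ, hne, hχ⟩ := hf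
      refine ⟨conjChar g' χ, ?_, fun x => ?_⟩
      · obtain ⟨w, hw, hw0⟩ := Submodule.exists_mem_ne_zero_of_ne_bot hne
        exact (Submodule.ne_bot_iff _).mpr ⟨_, apply_mem_eig g' hw, fun e => hw0 (rho_eq_zero g' e)⟩
      · obtain ⟨y, hy, e⟩ := hev x
        rw [e, hχ, conjChar_apply]
        exact congrArg (fun t => dlog (K i) (p i) (χ t)) (Subtype.ext (Subtype.ext (by simpa [inT, hg'] using hy)))
    · rw [Gam, dif_pos him, if_neg hab] at hf ⊢
      obtain ⟨ζ, hne, Y0, hY, y, hyY, hf⟩ := hf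
      refine ⟨conjChar g' ζ, ?_, _, hY.conj g', ⟨g' * y * g'⁻¹, (h.T_normal him).conj_mem _ y.2 g'⟩,
        ⟨y, hyY, rfl⟩, fun x => ?_⟩
      · obtain ⟨w, hw, hw0⟩ := Submodule.exists_mem_ne_zero_of_ne_bot hne
        exact (Submodule.ne_bot_iff _).mpr ⟨_, apply_mem_eig g' hw, fun e => hw0 (rho_eq_zero g' e)⟩
      · obtain ⟨z, hz, e⟩ := hev x
        rw [e, hf, zpair, zpair, conjChar_apply]
        refine congrArg (fun t => dlog (K i) (p i) (ζ t)) (Subtype.ext (Subtype.ext ?_))
        simp [inT, hg', commutatorElement_def, hz, mul_assoc]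
  · rw [Gam, dif_neg him] at hf ⊢
    exact fun _ => hf _

theorem zpair_eq (c : Ctx s r G) {i : ℕ} (hi : i < m) (S : Set (Wt K P m (i + 1)))
    (hstab : ∀ g, ∀ u ∈ S, h.levRep (i + 1) hi g u ∈ S) (hspan : Submodule.span (K (i + 1)) S = ⊤)
    (ζ : PS K h i →* K (i + 1)) (a b : TS h i) : (h.lev c hi S hstab hspan).pair ζ a b = h.zpair ζ a b := rfl

theorem pow_mem_PS {i : ℕ} {x : upS s P (i + 1)} (hx : x ∈ TS h i) : x ^ p i ∈ PS K h i := by
  haveI : CharP (K i) (p i) := charP_of_injective_algebraMap (algebraMap (ZMod (p i)) (K i)).injective (p i)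
  show ((x ^ p i : upS s P (i + 1)) : X) ∈ phiT K P m i
  rw [SubgroupClass.coe_pow]
  exact pow_mem_phiSub hx

/-- Every level has a nonzero spanning functional. -/
theorem exists_gam_ne_zero (c : Ctx s r G) (i : ℕ) (hi : i ≤ m) : ∃ f ∈ h.Gam (K := K) i, f ≠ 0 := by
  classical
  rcases hi.eq_or_lt with rfl | him
  · obtain ⟨f, hf⟩ := exists_func_ne_zero (K := ZMod (p i)) (h.tower.pgroup i le_rfl) (h.not_le_kerT le_rfl)
    refine ⟨⟨fun a => algebraMap (ZMod (p i)) (K i) ((f : P i → ZMod (p i)) a),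
      fun a b => by simp only [funcs_map_mul, map_add], fun a ha => by simp only [funcs_eq_zero f ha, map_zero]⟩, ?_, ?_⟩
    · rw [Gam, dif_neg (lt_irrefl i)]
      exact fun a => ⟨_, rfl⟩
    · exact fun e => hf (funcs_ext fun a => (algebraMap (ZMod (p i)) (K i)).injective (by
        simpa using congrFun (congrArg Subtype.val e) a))
  haveI := h.T_normal him
  haveI := h.Phi_normal (K := K) him
  set ρ := h.levRep (K := K) (i + 1) him with hρ
  have hl : Lev ρ _ r _ (TS h i) (PS K h i) (p i) Set.univ :=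
    h.lev c him Set.univ (fun _ _ _ => Set.mem_univ _) Submodule.span_univ
  have hq := h.prime_cast_ne_zero (K := K) him
  by_cases hab : ⁅P i, P i⁆ ≤ kerT P m i
  · have hcomm : ∀ a ∈ TS h i, ∀ b ∈ TS h i, ρ a * ρ b = ρ b * ρ a := fun a ha b hb => by
      have h1 : ρ ⁅a, b⁆ = 1 := (h.levRep_eq_one_iff him (x := ⁅a, b⁆)
        (phiT_le (K := K) (m := m) i (h.comm_mem (K := K) a b ha hb))).mpr
        (by simpa [commutatorElement_def] using hab (Subgroup.commutator_mem_commutator ha hb))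
      rw [← map_mul, ← map_mul, show a * b = ⁅a, b⁆ * (b * a) by simp only [commutatorElement_def]; group,
        map_mul, h1, one_mul]
    obtain ⟨χ, hne, hχ⟩ : ∃ χ : TS h i →* K (i + 1), eig ρ (TS h i) χ ≠ ⊥ ∧ χ ≠ 1 := by
      by_contra hcon
      push Not at hcon
      refine h.not_le_kerT him.le fun x hx => ?_
      refine (h.levRep_eq_one_iff (K := K) him (x := ⟨x, le_upS s P (Nat.lt_succ_self i) hx⟩) hx).mp ?_
      refine sub_eq_zero.mp (eq_zero_of_forall_eig (TS h i) hl.card hcomm fun χ w hw => ?_)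
      rw [LinearMap.sub_apply, Module.End.one_apply, sub_eq_zero]
      by_cases hχ : eig ρ (TS h i) χ = ⊥
      · rw [hχ, Submodule.mem_bot] at hw
        rw [hw, map_zero]
      · have e1 := hw ⟨⟨x, le_upS s P (Nat.lt_succ_self i) hx⟩, hx⟩
        rw [hcon χ hχ, MonoidHom.one_apply, one_smul] at e1
        exact e1
    obtain ⟨w, hw, hw0⟩ := Submodule.exists_mem_ne_zero_of_ne_bot hne
    have hroot : ∀ x : P i, χ (h.inT x) ^ p i = 1 := fun x => by
      have h1 : ρ ((h.inT x : upS s P (i + 1)) ^ p i) = 1 := (h.levRep_eq_one_iff him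
        (by rw [SubgroupClass.coe_pow]; exact (P i).pow_mem x.2 _)).mpr
        (h.phiT_le_kerT (K := K) him.le hab (h.pow_mem_PS (K := K) (h.inT x).2))
      have h2 := hw (h.inT x ^ p i)
      rw [map_pow, SubgroupClass.coe_pow] at h2
      rw [h1, Module.End.one_apply] at h2
      exact (smul_left_injective _ hw0 ((one_smul _ w).trans h2)).symm
    let f : Wt K P m i := ⟨fun x => dlog (K i) (p i) (χ (h.inT x)),
      fun a b => by
        beta_reduce
        rw [show h.inT (a * b) = h.inT a * h.inT b from rfl, map_mul, dlog_mul hq (hroot a) (hroot b)],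
      fun a ha => by
        beta_reduce
        have h2 := hw (h.inT a)
        rw [(h.levRep_eq_one_iff him (x := (h.inT a : upS s P (i + 1))) a.2).mpr ha, Module.End.one_apply] at h2
        rw [← smul_left_injective _ hw0 ((one_smul _ w).trans h2), dlog_one hq]⟩
    refine ⟨f, ?_, fun e => hχ (MonoidHom.ext fun t => ?_)⟩
    · rw [Gam, dif_pos him, if_pos hab]
      exact ⟨χ, hne, fun x => rfl⟩
    · have h1 := congrFun (congrArg Subtype.val e) ⟨(t : upS s P (i + 1)), t.2⟩
      exact eq_one_of_dlog hq (hroot ⟨_, t.2⟩) h1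
  · obtain ⟨ζ, hne, hrad⟩ : ∃ ζ : PS K h i →* K (i + 1), eig ρ (PS K h i) ζ ≠ ⊥ ∧
        ¬ TS h i ≤ radOn ρ (TS h i) (eig ρ (PS K h i) ζ) := by
      by_contra hcon
      push Not at hcon
      refine hab (Subgroup.commutator_le.mpr fun a ha b hb => ?_)
      set a' : upS s P (i + 1) := ⟨a, le_upS s P (Nat.lt_succ_self i) ha⟩
      set b' : upS s P (i + 1) := ⟨b, le_upS s P (Nat.lt_succ_self i) hb⟩
      have h1 : ρ a' * ρ b' = ρ b' * ρ a' := by
        refine sub_eq_zero.mp (eq_zero_of_forall_eig (PS K h i) hl.phi_card hl.phi_comm fun ζ w hw => ?_)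
        rw [LinearMap.sub_apply, Module.End.mul_apply, Module.End.mul_apply, sub_eq_zero]
        by_cases hζ : eig ρ (PS K h i) ζ = ⊥
        · rw [hζ, Submodule.mem_bot] at hw
          simp [hw]
        · exact (hcon ζ hζ (show a' ∈ TS h i from ha)).2.2 b' hb w hw
      have h2 : ρ ⁅a', b'⁆ = 1 := by
        rw [show ⁅a', b'⁆ = a' * b' * (b' * a')⁻¹ by simp only [commutatorElement_def]; group, map_mul, map_mul,
          h1, ← map_mul, ← map_mul, mul_inv_cancel, map_one]
      simpa [a', b', commutatorElement_def] using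
        (h.levRep_eq_one_iff him (x := ⁅a', b'⁆) (phiT_le (K := K) (m := m) i (h.comm_mem (K := K) a' b' ha hb))).mp h2
    set R := radOn ρ (TS h i) (eig ρ (PS K h i) ζ) with hR
    obtain ⟨Y0, -, hY0⟩ := (Set.toFinite {Y : Subgroup (upS s P (i + 1)) | R ≤ Y ∧ Y ≤ TS h i ∧
      stab ρ (eig ρ (PS K h i) ζ) ≤ Subgroup.normalizer (Y : Set (upS s P (i + 1))) ∧ ¬ Y ≤ R}).exists_le_minimal
        (a := TS h i) ⟨radOn_le, le_rfl, by rw [Subgroup.normalizer_eq_top]; exact le_top, hrad⟩
    obtain ⟨⟨hY1, hY2, hY3, hY4⟩, hYmin⟩ := hY0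
    have hY : MinSec ρ (TS h i) (eig ρ (PS K h i) ζ) Y0 := ⟨hY2, hY1, hY4, hY3, fun Y h1 h2 h3 =>
      or_iff_not_imp_left.mpr fun h4 => hYmin ⟨h1, h2.trans hY2, h3, h4⟩ h2⟩
    obtain ⟨y, hyY, hyR⟩ := SetLike.not_le_iff_exists.mp hY4
    set yT : TS h i := ⟨y, hY2 hyY⟩
    have hroot : ∀ x : P i, h.zpair ζ yT (h.inT x) ^ p i = 1 := fun x => by
      rw [← h.zpair_eq c him Set.univ (fun _ _ _ => Set.mem_univ _) Submodule.span_univ]
      have hpow : ∀ n : ℕ, hl.pair ζ yT (h.inT x ^ n) = hl.pair ζ yT (h.inT x) ^ n := fun n => by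
        induction n with
        | zero => rw [pow_zero, pow_zero, hl.pair_one_right hne]
        | succ n ih => rw [pow_succ, hl.pair_mul_right hne, ih, pow_succ]
      show hl.pair ζ yT (h.inT x) ^ p i = 1
      rw [← hpow, hl.pair_swap hne (h.inT x ^ p i) yT]
      rw [(hl.mem_radOn_iff hne (x := h.inT x ^ p i)).mp (hl.phi_le_radOn hne (by
        rw [SubgroupClass.coe_pow]; exact h.pow_mem_PS (h.inT x).2)) yT, inv_one]
    let f : Wt K P m i := ⟨fun x => dlog (K i) (p i) (h.zpair ζ yT (h.inT x)),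
      fun a b => by
        beta_reduce
        rw [show h.inT (a * b) = h.inT a * h.inT b from rfl]
        have e : h.zpair ζ yT (h.inT a * h.inT b) = h.zpair ζ yT (h.inT a) * h.zpair ζ yT (h.inT b) :=
          hl.pair_mul_right hne _ _ _
        rw [e, dlog_mul hq (hroot a) (hroot b)],
      fun a ha => by
        have e : h.zpair ζ yT (h.inT a) = 1 := by
          show hl.pair ζ yT (h.inT a) = 1
          rw [hl.pair_swap hne (h.inT a) yT, (hl.mem_radOn_iff hne (x := h.inT a)).mp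
            (hl.phi_le_radOn hne (show (a : X) ∈ phiT K P m i from kerT_le_phiT him.le ha)) yT, inv_one]
        beta_reduce
        rw [e, dlog_one hq]⟩
    refine ⟨f, ?_, fun e => hyR ((hl.mem_radOn_iff hne (x := yT)).mpr fun t => ?_)⟩
    · rw [Gam, dif_pos him, if_neg hab]
      exact ⟨ζ, hne, Y0, hY, yT, hyY, fun x => rfl⟩
    · exact eq_one_of_dlog hq (hroot ⟨_, t.2⟩) (congrFun (congrArg Subtype.val e) ⟨(t : upS s P (i + 1)), t.2⟩)

theorem gam_span (c : Ctx s r G) (i : ℕ) (hi : i ≤ m) : Submodule.span (K i) (h.Gam (K := K) i) = ⊤ := by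
  obtain ⟨f, hf, hf0⟩ := h.exists_gam_ne_zero (K := K) c i hi
  exact h.span_eq_top_of_rat hi _ (h.gam_rat i) (h.gam_stable i hi) hf hf0

/-- The level seen from the spanning functionals above it. -/
theorem levGam (c : Ctx s r G) {i : ℕ} (hi : i < m) :
    Lev (h.levRep (K := K) (i + 1) hi) (⟨s, mem_upS s P (i + 1)⟩ : upS s P (i + 1)) r
      (G.subgroupOf (upS s P (i + 1))) (TS h i) (PS K h i) (p i) (h.Gam (K := K) (i + 1)) :=
  h.lev c hi _ (h.gam_stable (i + 1) hi) (h.gam_span c (i + 1) hi)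

/-- A fixed element fixing the orbit sums above kills the moved functionals. -/
theorem gam_eq_zero_of_fixes (c : Ctx s r G) [Group.IsSolvable G] {i : ℕ} (hi : i < m) {z : X} (hz : z ∈ P i)
    (hsz : s * z = z * s)
    (hfix : Fixes (h.levRep (K := K) (i + 1) hi) (⟨s, mem_upS s P (i + 1)⟩ : upS s P (i + 1)) r
      (h.Gam (K := K) (i + 1)) (h.inT (i := i) ⟨z, hz⟩ : upS s P (i + 1)))
    {f : Wt K P m i} (hf : f ∈ h.Gam (K := K) i) (hmoved : h.levRep i hi.le ⟨s, mem_upS s P i⟩ f ≠ f) :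
    (f : P i → K i) ⟨z, hz⟩ = 0 := by
  classical
  haveI := h.T_normal hi
  haveI := h.Phi_normal (K := K) hi
  have hl := h.levGam (K := K) c hi
  set ρ := h.levRep (K := K) (i + 1) hi with hρ
  set s1 : upS s P (i + 1) := ⟨s, mem_upS s P (i + 1)⟩ with hs1
  set zT : TS h i := h.inT ⟨z, hz⟩ with hzT
  have hzc : s1 * (zT : upS s P (i + 1)) = zT * s1 := Subtype.ext hsz
  have hq := h.prime_cast_ne_zero (K := K) hi
  obtain ⟨x, hx⟩ : ∃ x : P i, (h.levRep i hi.le ⟨s, mem_upS s P i⟩ f : P i → K i) x ≠ (f : P i → K i) x := by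
    by_contra hcon
    push Not at hcon
    exact hmoved (funcs_ext hcon)
  have hy : s⁻¹ * (x : X) * s ∈ P i := by
    simpa using (mem_normalizer_conj_iff (inv_mem (h.tower.inv i hi.le))).mpr x.2
  rw [h.levRep_apply i hi.le ⟨s, mem_upS s P i⟩ f x ⟨_, hy⟩ rfl] at hx
  by_cases hab : ⁅P i, P i⁆ ≤ kerT P m i
  · rw [Gam, dif_pos hi, if_pos hab] at hf
    obtain ⟨χ, hne, hχ⟩ := hf
    have hmv : conjChar s1 χ ≠ χ := fun e => hx (by
      rw [hχ, hχ]
      conv_rhs => rw [← e, conjChar_apply]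
      exact congrArg (fun t => dlog (K i) (p i) (χ t)) (Subtype.ext (Subtype.ext (by simp [inT, hs1]))))
    have hcomm : ∀ a ∈ TS h i, ∀ b ∈ TS h i, ρ a * ρ b = ρ b * ρ a := fun a ha b hb => by
      have h1 : ρ ⁅a, b⁆ = 1 := (h.levRep_eq_one_iff hi (x := ⁅a, b⁆)
        (phiT_le (K := K) (m := m) i (h.comm_mem (K := K) a b ha hb))).mpr
        (by simpa [commutatorElement_def] using hab (Subgroup.commutator_mem_commutator ha hb))
      rw [← map_mul, ← map_mul, show a * b = ⁅a, b⁆ * (b * a) by simp only [commutatorElement_def]; group,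
        map_mul, h1, one_mul]
    obtain ⟨w, hw, hw0⟩ := Submodule.exists_mem_ne_zero_of_ne_bot hne
    have h1 := rho_eq_of_moved_weight hl.ctx hl.le hl.card hcomm _ hl.span (fun n _ u hu => hl.stable n u hu)
      (hl.le zT.2) hzc hfix hmv hw
    rw [hw zT] at h1
    rw [hχ, smul_left_injective _ hw0 (h1.trans (one_smul _ w).symm), dlog_one hq]
  · rw [Gam, dif_pos hi, if_neg hab] at hf
    obtain ⟨ζ, hne, Y0, hY, y, hyY, hfy⟩ := hf
    obtain ⟨w, hw, hw0⟩ := Submodule.exists_mem_ne_zero_of_ne_bot hne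
    suffices hone : hl.pair ζ y zT = 1 by
      rw [hfy, show h.zpair ζ y (h.inT ⟨z, hz⟩) = 1 from hone, dlog_one hq]
    by_cases hζ : conjChar s1 ζ = ζ
    · haveI : Group.IsSolvable (G.subgroupOf (upS s P (i + 1))) :=
        Group.isSolvable_of_isSolvable_injective
          (f := ((Subgroup.subtype _).comp (G.subgroupOf (upS s P (i + 1))).subtype).codRestrict G fun a => a.2)
          fun a b e => Subtype.ext (Subtype.ext (congrArg (fun t : G => (t : X)) e))
      have hgen : G.subgroupOf (upS s P (i + 1)) ⊔ Subgroup.zpowers s1 = ⊤ := by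
        rw [eq_top_iff]
        rintro ⟨g, hg⟩ -
        haveI := c.normal
        have hg' : g ∈ Subgroup.zpowers s ⊔ G :=
          upS_le (Subgroup.mem_sup_left (Subgroup.mem_zpowers s))
            (fun l hl => (h.tower.le l (by omega)).trans le_sup_right) hg
        obtain ⟨e, ⟨k, rfl⟩, g0, hg0, rfl⟩ := CfsgLib.Coprime.exists_mul_of_mem_sup
          (by rw [Subgroup.normalizer_eq_top]; exact le_top) hg'
        have h0 : g0 ∈ upS s P (i + 1) := by
          have := mul_mem (inv_mem (zpow_mem (mem_upS s P (i + 1)) k)) hg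
          rwa [inv_mul_cancel_left] at this
        rw [show (⟨s ^ k * g0, hg⟩ : upS s P (i + 1)) = s1 ^ k * ⟨g0, h0⟩ from Subtype.ext (by simp [hs1])]
        exact mul_mem (Subgroup.mem_sup_right (Subgroup.zpow_mem _ (Subgroup.mem_zpowers _) k))
          (Subgroup.mem_sup_left hg0)
      refine hl.pair_eq_one_of_fixes (fun a ha => h.pow_mem_PS ha) hgen hzc hfix hne hY hyY ⟨h.inT x, fun e => hx ?_⟩
      rw [hfy, hfy]
      refine congrArg (dlog (K i) (p i)) (Eq.trans ?_ e.symm)
      show hl.pair ζ y (h.inT ⟨_, hy⟩) = hl.pair ζ _ (h.inT x)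
      refine (hl.pair_conj hne (g := s1) (fun v hv => by
        have := apply_mem_eig (ρ := ρ) s1 hv
        rwa [hζ] at this) (a := y) (b := h.inT ⟨_, hy⟩) (b' := h.inT x) (by simp) ?_).symm
      exact Subtype.ext (by simp [inT, hs1, mul_assoc])
    · have hv : ∀ v ∈ eig ρ (PS K h i) ζ, ρ (zT : upS s P (i + 1)) v = v := fun v hv =>
        rho_eq_of_moved_weight hl.ctx (hl.phi_le.trans hl.le) hl.phi_card hl.phi_comm _ hl.span
          (fun n _ u hu => hl.stable n u hu) (hl.le zT.2) hzc hfix hζ hv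
      refine hl.pair_eq_of_spec hw hw0 ?_
      rw [one_smul, hv _ hw, hv _ (hl.mem_eig_apply y.2 hw)]

end MinTower

end CfsgLib.Turull
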