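import Cfsg.Agent.Lib.Turull.ComponentCount

/-!
# One level of a tower, as a representation

A normal `p`-subgroup `T` of class two modulo the kernel, with its Frattini part `Phi`, acting without fixed
vectors, and a stable spanning set of vectors.
-/

set_option autoImplicit false
set_option linter.style.haveILetI false

namespace CfsgLib.Turull

open Module (End)
open scoped commutatorElement

variable {K W H : Type*} [Field K] [AddCommGroup W] [Module K W] [Group H] [Finite H]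

/-- The representation of one level of a tower. -/
structure Lev (ρ : H →* End K W) (s : H) (r : ℕ) (G0 T Phi : Subgroup H) (p : ℕ) (S : Set W) : Prop where
  ctx : Ctx s r G0
  rK : (r : K) ≠ 0
  prime : p.Prime
  pgroup : IsPGroup p T
  card : (Nat.card T : K) ≠ 0
  le : T ≤ G0
  phi_le : Phi ≤ T
  comm : ∀ a ∈ T, ∀ b ∈ T, ⁅a, b⁆ ∈ Phi
  central : ∀ a ∈ Phi, ∀ b ∈ T, ρ a * ρ b = ρ b * ρ a
  frattini : ∀ X : Subgroup H, X ≤ T → (∀ x ∈ T, ρ x = 1 → x ∈ X) → T ≤ X ⊔ Phi → T ≤ X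
  stable : ∀ g, ∀ u ∈ S, ρ g u ∈ S
  span : Submodule.span K S = ⊤
  noFix : ∀ w, (∀ t ∈ T, ρ t w = w) → w = 0

variable {ρ : H →* End K W} {s : H} {r : ℕ} {G0 : Subgroup H}

theorem Ctx.subgroupOf (c : Ctx s r G0) {L : Subgroup H} (hs : s ∈ L) :
    Ctx (⟨s, hs⟩ : L) r (G0.subgroupOf L) where
  prime := c.prime
  pow_eq := Subtype.ext c.pow_eq
  normal := haveI := c.normal; inferInstance
  cop h := c.cop (h.trans (by
    rw [← Subgroup.card_map_of_injective L.subtype_injective]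
    exact Subgroup.card_dvd_of_le (Subgroup.map_comap_le _ _)))

/-- A subgroup containing the twists and the fixed elements is everything. -/
theorem Ctx.le_of_twists (c : Ctx s r G0) {M X : Subgroup H} [M.Normal] (hM : M ≤ G0)
    (htw : ∀ t ∈ M, t⁻¹ * (s * t * s⁻¹) ∈ X) (hC : ∀ x ∈ M, s * x = x * s → x ∈ X) : M ≤ X := by
  have hsM : Subgroup.zpowers s ≤ Subgroup.normalizer (M : Set H) := by
    rw [Subgroup.normalizer_eq_top]; exact le_top
  have hcard : Nat.card (Subgroup.zpowers s) ∣ r := by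
    rw [Nat.card_zpowers]; exact orderOf_dvd_of_pow_eq_one c.pow_eq
  have hpow : ∀ (k : ℕ), ∀ t ∈ M, t⁻¹ * (s ^ k * t * (s ^ k)⁻¹) ∈ X := by
    intro k
    induction k with
    | zero => intro t _; simp
    | succ k ih =>
      intro t ht
      have ht' : s * t * s⁻¹ ∈ M := (inferInstance : M.Normal).conj_mem t ht s
      have e : t⁻¹ * (s ^ (k + 1) * t * (s ^ (k + 1))⁻¹) =
          t⁻¹ * (s * t * s⁻¹) * ((s * t * s⁻¹)⁻¹ * (s ^ k * (s * t * s⁻¹) * (s ^ k)⁻¹)) := by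
        rw [pow_succ]; group
      rw [e]
      exact X.mul_mem (htw t ht) (ih _ ht')
  conv_lhs => rw [← CfsgLib.Coprime.commutator_sup_centralizer (Subgroup.zpowers s) M hsM
    ((c.prime.coprime_iff_not_dvd.mpr fun hd =>
      c.cop (hd.trans (Subgroup.card_dvd_of_le hM))).coprime_dvd_left hcard) (Or.inl inferInstance)]
  refine sup_le (Subgroup.commutator_le.mpr fun t ht a ha => ?_) fun x hx => hC x hx.1
    (Subgroup.mem_centralizer_iff.mp hx.2 s (Subgroup.mem_zpowers s))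
  obtain ⟨k, rfl⟩ := (mem_powers_iff_mem_zpowers (x := s)).mpr ha
  have h := hpow k t⁻¹ (M.inv_mem ht)
  have e : ⁅t, s ^ k⁆ = t⁻¹⁻¹ * (s ^ k * t⁻¹ * (s ^ k)⁻¹) := by
    simp only [commutatorElement_def]; group
  show ⁅t, s ^ k⁆ ∈ X
  rwa [e]

/-- A fixed weight is trivial on twists. -/
theorem char_twist_eq_one {N : Subgroup H} [N.Normal] {χ : N →* K} (h : conjChar s χ = χ) {n : H}
    (hn : n ∈ N) (hn' : n⁻¹ * (s * n * s⁻¹) ∈ N) : χ ⟨_, hn'⟩ = 1 := by
  let m : N := ⟨s * n * s⁻¹, (inferInstance : N.Normal).conj_mem n hn s⟩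
  have h1 : χ m = χ ⟨n, hn⟩ := by
    conv_lhs => rw [← h, conjChar_apply]
    exact congrArg χ (Subtype.ext (by simp [m, mul_assoc]))
  rw [show (⟨_, hn'⟩ : N) = (⟨n, hn⟩ : N)⁻¹ * m from rfl, map_mul, char_inv, h1,
    inv_mul_cancel₀ (char_ne_zero χ _)]

/-- Fixed weights agreeing on fixed elements are equal. -/
theorem fixed_char_ext (c : Ctx s r G0) {N : Subgroup H} [hN : N.Normal] (hNG : N ≤ G0) {χ η : N →* K}
    (hχ : conjChar s χ = χ) (hη : conjChar s η = η)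
    (h : ∀ x : N, s * (x : H) = (x : H) * s → χ x = η x) : χ = η := by
  have hle : N ≤ (χ.eqLocus η).map N.subtype := c.le_of_twists hNG
    (fun t ht => by
      refine ⟨⟨_, N.mul_mem (N.inv_mem ht) (hN.conj_mem t ht s)⟩, ?_, rfl⟩
      show χ _ = η _
      rw [char_twist_eq_one hχ ht _, char_twist_eq_one hη ht _])
    fun x hx hxs => ⟨⟨x, hx⟩, h ⟨x, hx⟩ hxs, rfl⟩
  refine MonoidHom.ext fun x => ?_
  obtain ⟨y, hy, he⟩ := hle x.2
  obtain rfl : y = x := Subtype.ext he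
  exact hy

theorem proj_rho_of_fixed {N : Subgroup H} [N.Normal] {χ : N →* K} {g : H} (h : conjChar g χ = χ) (w : W) :
    proj ρ N χ (ρ g w) = ρ g (proj ρ N χ w) := by
  rw [rho_proj, h]

/-- The elements mapping a vector to a multiple. -/
def lineStab (ρ : H →* End K W) (T : Subgroup H) (a : W) : Subgroup H where
  carrier := {x | x ∈ T ∧ ρ x a ∈ Submodule.span K {a}}
  one_mem' := ⟨T.one_mem, by rw [map_one, Module.End.one_apply]; exact Submodule.mem_span_singleton_self a⟩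
  mul_mem' := fun {x y} hx hy => ⟨T.mul_mem hx.1 hy.1, by
    obtain ⟨k, hk⟩ := Submodule.mem_span_singleton.mp hy.2
    rw [rho_mul_apply, ← hk, map_smul]
    exact Submodule.smul_mem _ _ hx.2⟩
  inv_mem' := fun {x} hx => ⟨T.inv_mem hx.1, by
    obtain ⟨k, hk⟩ := Submodule.mem_span_singleton.mp hx.2
    rcases eq_or_ne a 0 with rfl | ha
    · rw [map_zero]; exact zero_mem _
    have hk0 : k ≠ 0 := fun e => ha (rho_eq_zero x (by rw [← hk, e, zero_smul]))
    refine Submodule.mem_span_singleton.mpr ⟨k⁻¹, ?_⟩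
    have h1 := congrArg (ρ x⁻¹) hk
    rw [map_smul, rho_inv_apply] at h1
    calc k⁻¹ • a = k⁻¹ • k • ρ x⁻¹ a := by rw [h1]
      _ = ρ x⁻¹ a := by rw [smul_smul, inv_mul_cancel₀ hk0, one_smul]⟩

theorem mem_lineStab {T : Subgroup H} {a : W} {x : H} :
    x ∈ lineStab ρ T a ↔ x ∈ T ∧ ∃ k : K, k • a = ρ x a := by
  rw [← Submodule.mem_span_singleton]; rfl

theorem lineStab_mem_normalizer {T : Subgroup H} [T.Normal] {a : W} {g : H} (hg : ρ g a = a) :
    g ∈ Subgroup.normalizer (lineStab ρ T a : Set H) := by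
  refine CfsgLib.Coprime.mem_normalizer_of_forall_conj fun x hx => ?_
  obtain ⟨hxT, k, hk⟩ := mem_lineStab.mp hx
  refine mem_lineStab.mpr ⟨(inferInstance : T.Normal).conj_mem x hxT g, k, ?_⟩
  have hg' : ρ g⁻¹ a = a := by
    conv_lhs => rw [← hg]
    rw [rho_inv_apply]
  rw [rho_mul_apply, rho_mul_apply, hg', ← hk, map_smul, hg]

variable {T Phi : Subgroup H} [T.Normal] [Phi.Normal] {p : ℕ} {S : Set W}

namespace Lev

variable (h : Lev ρ s r G0 T Phi p S)
include h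

omit [Finite H] [T.Normal] [Phi.Normal] in
theorem phi_comm : ∀ a ∈ Phi, ∀ b ∈ Phi, ρ a * ρ b = ρ b * ρ a := fun a ha b hb =>
  h.central a ha b (h.phi_le hb)

theorem phi_card : (Nat.card Phi : K) ≠ 0 :=
  natCast_ne_zero_of_dvd (Subgroup.card_dvd_of_le h.phi_le) h.card

omit [Finite H] [T.Normal] in
theorem mem_eig_apply {ζ : Phi →* K} {t : H} (ht : t ∈ T) {w : W} (hw : w ∈ eig ρ Phi ζ) :
    ρ t w ∈ eig ρ Phi ζ := fun n => by
  rw [← Module.End.mul_apply, h.central n n.2 t ht, Module.End.mul_apply, hw n, map_smul]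

omit [T.Normal] in
theorem proj_apply_comm {ζ : Phi →* K} {t : H} (ht : t ∈ T) (w : W) :
    proj ρ Phi ζ (ρ t w) = ρ t (proj ρ Phi ζ w) := by
  rcases eq_or_ne (eig ρ Phi ζ) ⊥ with he | he
  · have h0 : ∀ v, proj ρ Phi ζ v = 0 := fun v => by
      have := proj_mem_eig (ρ := ρ) ζ v
      rwa [he, Submodule.mem_bot] at this
    rw [h0, h0, map_zero]
  · obtain ⟨v, hv, hv0⟩ := Submodule.exists_mem_ne_zero_of_ne_bot he
    exact proj_rho_of_fixed (char_eq_of_mem (apply_mem_eig t hv) (h.mem_eig_apply ht hv)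
      fun e => hv0 (rho_eq_zero t e)) w

omit [Phi.Normal] in
/-- A subgroup containing the kernel and the twists is everything. -/
theorem le_of_twists (hfpf : ∀ x ∈ T, s * x = x * s → x ∈ Phi) {X : Subgroup H} (hX : X ≤ T)
    (hker : ∀ x ∈ T, ρ x = 1 → x ∈ X) (htw : ∀ t ∈ T, t⁻¹ * (s * t * s⁻¹) ∈ X) : T ≤ X :=
  h.frattini X hX hker (h.ctx.le_of_twists h.le (fun t ht => Subgroup.mem_sup_left (htw t ht))
    fun x hx hxs => Subgroup.mem_sup_right (hfpf x hx hxs))

omit [Phi.Normal] in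
/-- A vector fixed by `s` whose line is stable under all twists is zero. -/
theorem eq_zero_of_twists_line (hfpf : ∀ x ∈ T, s * x = x * s → x ∈ Phi) {a : W} (ha : ρ s a = a)
    (htw : ∀ t ∈ T, t⁻¹ * (s * t * s⁻¹) ∈ lineStab ρ T a) : a = 0 := by
  by_contra ha0
  have hle : T ≤ lineStab ρ T a := h.le_of_twists hfpf (fun x hx => hx.1)
    (fun x hx he => mem_lineStab.mpr ⟨hx, 1, by rw [he, one_smul, Module.End.one_apply]⟩) htw
  let X : Subgroup H :=
    { carrier := {x | x ∈ T ∧ ρ x a = a}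
      one_mem' := ⟨T.one_mem, by simp⟩
      mul_mem' := fun {x y} hx hy => ⟨T.mul_mem hx.1 hy.1, by rw [rho_mul_apply, hy.2, hx.2]⟩
      inv_mem' := fun {x} hx => ⟨T.inv_mem hx.1, by
        conv_lhs => rw [← hx.2]
        rw [rho_inv_apply]⟩ }
  refine ha0 (h.noFix a fun t ht => ((h.le_of_twists hfpf (fun x hx => hx.1)
    (fun x hx he => ⟨hx, by rw [he, Module.End.one_apply]⟩) (fun t ht => ?_) : T ≤ X) ht).2)
  obtain ⟨-, k, hk⟩ := mem_lineStab.mp (hle ht)
  have hs' : ρ s⁻¹ a = a := by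
    conv_lhs => rw [← ha]
    rw [rho_inv_apply]
  refine ⟨T.mul_mem (T.inv_mem ht) ((inferInstance : T.Normal).conj_mem t ht s), ?_⟩
  rw [rho_mul_apply, rho_mul_apply, rho_mul_apply, hs', ← hk, map_smul, map_smul, ha, ← map_smul, hk,
    rho_inv_apply]

omit [T.Normal] in
/-- The line stabiliser of a component is normalised by `T` and contains `Phi`. -/
theorem normalizer_lineStab {ζ : Phi →* K} {a : W} (ha : a ∈ eig ρ Phi ζ) :
    Phi ≤ lineStab ρ T a ∧ T ≤ Subgroup.normalizer (lineStab ρ T a : Set H) := by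
  have hP : Phi ≤ lineStab ρ T a := fun n hn =>
    mem_lineStab.mpr ⟨h.phi_le hn, ζ ⟨n, hn⟩, (ha ⟨n, hn⟩).symm⟩
  refine ⟨hP, fun t ht => CfsgLib.Coprime.mem_normalizer_of_forall_conj fun x hx => ?_⟩
  rw [show t * x * t⁻¹ = ⁅t, x⁆ * x by simp [commutatorElement_def, mul_assoc]]
  exact (lineStab ρ T a).mul_mem (hP (h.comm t ht x hx.1)) hx

/-- Every component with a fixed vector meets the orbit sum of a moved member. -/
theorem exists_moved_component (hfpf : ∀ x ∈ T, s * x = x * s → x ∈ Phi) {ζ : Phi →* K}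
    (hζ : conjChar s ζ = ζ) {w : W} (hw : ρ s w = w) (hPw : proj ρ Phi ζ w ≠ 0) :
    ∃ v ∈ S, ρ s v ≠ v ∧ proj ρ Phi ζ (avg ρ s r v) ≠ 0 := by
  obtain ⟨u, huS, hu⟩ : ∃ u ∈ S, proj ρ Phi ζ (avg ρ s r u) ≠ 0 := by
    by_contra hcon
    push Not at hcon
    have h0 : proj ρ Phi ζ ∘ₗ avg ρ s r = 0 := LinearMap.ext_on h.span fun u hu => hcon u hu
    have h1 := LinearMap.congr_fun h0 w
    rw [LinearMap.comp_apply, avg_of_fixed hw, map_smul, LinearMap.zero_apply, smul_eq_zero] at h1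
    exact hPw (h1.resolve_left h.rK)
  by_cases hus : ρ s u = u
  · rw [avg_of_fixed hus, map_smul] at hu
    have hPu : proj ρ Phi ζ u ≠ 0 := right_ne_zero_of_smul hu
    have hsa : ρ s (proj ρ Phi ζ u) = proj ρ Phi ζ u := by rw [← proj_rho_of_fixed hζ, hus]
    rcases exists_moved_avg h.ctx h.rK h.le (by rw [Subgroup.normalizer_eq_top]; exact Subgroup.mem_top s) S
      (fun t _ => h.stable t) (proj ρ Phi ζ) (fun w => proj_rho_of_fixed hζ w)
      (fun t ht w => h.proj_apply_comm ht w) huS hus hPu (lineStab ρ T (proj ρ Phi ζ u)) (fun x hx => hx.1)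
      (lineStab_mem_normalizer hsa) (h.normalizer_lineStab (proj_mem_eig ζ u)).2
      (fun x hx he => mem_lineStab.mpr ⟨hx, 1, by rw [he, one_smul]⟩) with hv | hall
    · exact hv
    · exact absurd (h.eq_zero_of_twists_line hfpf hsa hall) hPu
  · exact ⟨u, huS, hus, hu⟩

variable [IsAlgClosed K] [FiniteDimensional K W]

/-- A fixed vector gives a moved member with nonzero orbit sum. -/
theorem exists_moved_avg_ne_zero (hfpf : ∀ x ∈ T, s * x = x * s → x ∈ Phi) {w : W} (hw : ρ s w = w)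
    (hw0 : w ≠ 0) : ∃ v ∈ S, ρ s v ≠ v ∧ avg ρ s r v ≠ 0 := by
  obtain ⟨u, huS, hu⟩ : ∃ u ∈ S, avg ρ s r u ≠ 0 := by
    by_contra hcon
    push Not at hcon
    have h0 : avg ρ s r = 0 := LinearMap.ext_on h.span fun u hu => hcon u hu
    have h1 := LinearMap.congr_fun h0 w
    rw [avg_of_fixed hw, LinearMap.zero_apply, smul_eq_zero] at h1
    exact hw0 (h1.resolve_left h.rK)
  by_cases hus : ρ s u = u
  · rw [avg_of_fixed hus] at hu
    let Hst : Subgroup H :=
      { carrier := {x | x ∈ Phi ∧ ρ x u = u}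
        one_mem' := ⟨Phi.one_mem, by simp⟩
        mul_mem' := fun {x y} hx hy => ⟨Phi.mul_mem hx.1 hy.1, by rw [rho_mul_apply, hy.2, hx.2]⟩
        inv_mem' := fun {x} hx => ⟨Phi.inv_mem hx.1, by
          conv_lhs => rw [← hx.2]
          rw [rho_inv_apply]⟩ }
    have hnorm : ∀ g, ρ g u = u → g ∈ Subgroup.normalizer (Hst : Set H) := fun g hg =>
      CfsgLib.Coprime.mem_normalizer_of_forall_conj fun x hx => by
        refine ⟨(inferInstance : Phi.Normal).conj_mem x hx.1 g, ?_⟩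
        rw [rho_mul_apply, rho_mul_apply, show ρ g⁻¹ u = u by
          conv_lhs => rw [← hg]
          rw [rho_inv_apply], hx.2, hg]
    rcases exists_moved_avg h.ctx h.rK (h.phi_le.trans h.le)
      (by rw [Subgroup.normalizer_eq_top]; exact Subgroup.mem_top s) S
      (fun t _ => h.stable t) 1 (fun _ => rfl) (fun _ _ _ => rfl) huS hus (right_ne_zero_of_smul hu) Hst
      (fun x hx => hx.1) (hnorm s hus)
      (fun t ht => CfsgLib.Coprime.mem_normalizer_of_forall_conj fun x hx => by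
        refine ⟨(inferInstance : Phi.Normal).conj_mem x hx.1 t, ?_⟩
        rw [map_mul, map_mul, h.phi_comm t ht x hx.1, mul_assoc, CfsgLib.HallHigman.map_mul_map_inv, mul_one,
          hx.2])
      (fun x hx he => ⟨hx, he⟩) with hv | hall
    · exact hv
    · obtain ⟨ζ, hζu⟩ : ∃ ζ : Phi →* K, proj ρ Phi ζ u ≠ 0 := by
        by_contra hcon
        push Not at hcon
        exact right_ne_zero_of_smul hu (eq_zero_of_forall_proj Phi h.phi_card h.phi_comm hcon)
      have hζ : conjChar s ζ = ζ := by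
        refine MonoidHom.ext fun n => ?_
        let n' : Phi := ⟨s⁻¹ * n * s, (inferInstance : Phi.Normal).conj_mem' _ n.2 s⟩
        have hm := hall n' n'.2
        have e : (⟨_, hm.1⟩ : Phi) = n'⁻¹ * n := Subtype.ext (by simp [n', mul_assoc])
        have h1 := congrArg (proj ρ Phi ζ) hm.2
        rw [proj_rho_of_comm h.phi_comm ζ hm.1, proj_mem_eig ζ u ⟨_, hm.1⟩, e, map_mul, char_inv] at h1
        have h2 := smul_left_injective K hζu (h1.trans (one_smul K _).symm)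
        rw [inv_mul_eq_one₀ (char_ne_zero ζ _)] at h2
        rw [conjChar_apply]
        exact h2
      obtain ⟨v, hv, hvs, hv0⟩ := h.exists_moved_component hfpf hζ hus hζu
      exact ⟨v, hv, hvs, fun e => hv0 (by rw [e, map_zero])⟩
  · exact ⟨u, huS, hus, hu⟩

/-- A fixed component without fixed vectors is exceptional. -/
theorem eq_two_of_no_fixed (hfpf : ∀ x ∈ T, s * x = x * s → x ∈ Phi) {ζ : Phi →* K}
    (hζ : conjChar s ζ = ζ) (hne : eig ρ Phi ζ ≠ ⊥) (hno : ∀ w ∈ eig ρ Phi ζ, ρ s w = w → w = 0) :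
    p = 2 ∧ ¬ ∀ a ∈ T, ∀ b ∈ T, ρ a * ρ b = ρ b * ρ a := by
  set V := eig ρ Phi ζ with hV
  haveI : Nontrivial V := Submodule.nontrivial_iff_ne_bot.mpr hne
  have hsV : s ∈ stab ρ V := fun w hw => by
    have := apply_mem_eig (ρ := ρ) s hw
    rwa [hζ] at this
  have hTV : T ≤ stab ρ V := fun t ht w hw => h.mem_eig_apply ht hw
  set ρV := restr ρ V
  set T' := T.subgroupOf (stab ρ V)
  have hno' : ∀ w : V, ρV ⟨s, hsV⟩ w = w → w = 0 := fun w hw =>
    Subtype.ext (hno w w.2 (congrArg Subtype.val hw))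
  have e := Subgroup.subgroupOfEquivOfLe hTV
  have hp' : IsPGroup p T' := h.pgroup.of_equiv e.symm
  have hcard' : (Nat.card T' : K) ≠ 0 := by rw [Nat.card_congr e.toEquiv]; exact h.card
  have hscal : ∀ x : stab ρ V, (x : H) ∈ Phi → ∃ k : K, ρV x = k • 1 := fun x hx =>
    ⟨ζ ⟨x, hx⟩, LinearMap.ext fun w => Subtype.ext (w.2 ⟨x, hx⟩)⟩
  have hphi : ∀ x : stab ρ V, (x : H) ∈ Phi → x ∈ rad ρV T' := fun x hx => by
    refine ⟨h.phi_le hx, fun t _ => ?_⟩
    obtain ⟨k, hk⟩ := hscal x hx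
    rw [hk, smul_mul_assoc, one_mul, mul_smul_comm, mul_one]
  have hne' : ¬ T' ≤ rad ρV T' := by
    intro hle
    have hrad : ∀ a ∈ T', ∀ b ∈ T', ρV a * ρV b = ρV b * ρV a := fun a ha b hb => (hle ha).2 b hb
    obtain ⟨χ, hχ⟩ : ∃ χ : T' →* K, eig ρV T' χ ≠ ⊥ := by
      by_contra hcon
      push Not at hcon
      have h1 := iSup_eig (ρ := ρV) T' hcard' hrad
      simp only [hcon, iSup_bot] at h1
      exact bot_ne_top h1
    have hfix := weight_fixed_of_no_fixed (h.ctx.subgroupOf hsV) hcard' hno' hχ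
    obtain ⟨w, hw, hw0⟩ := Submodule.exists_mem_ne_zero_of_ne_bot hχ
    refine hw0 (Subtype.ext (h.noFix w fun t ht => ?_))
    let X : Subgroup H :=
      { carrier := {x | x ∈ T ∧ ρ x (w : W) = w}
        one_mem' := ⟨T.one_mem, by simp⟩
        mul_mem' := fun {x y} hx hy => ⟨T.mul_mem hx.1 hy.1, by rw [rho_mul_apply, hy.2, hx.2]⟩
        inv_mem' := fun {x} hx => ⟨T.inv_mem hx.1, by
          conv_lhs => rw [← hx.2]
          rw [rho_inv_apply]⟩ }
    refine ((h.le_of_twists hfpf (fun x hx => hx.1)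
      (fun x hx he => ⟨hx, by rw [he, Module.End.one_apply]⟩) (fun t ht => ?_) : T ≤ X) ht).2
    have htw : t⁻¹ * (s * t * s⁻¹) ∈ T := T.mul_mem (T.inv_mem ht) ((inferInstance : T.Normal).conj_mem t ht s)
    refine ⟨htw, ?_⟩
    have hm : (⟨t, hTV ht⟩ : stab ρ V)⁻¹ * (⟨s, hsV⟩ * ⟨t, hTV ht⟩ * (⟨s, hsV⟩ : stab ρ V)⁻¹) ∈ T' := htw
    have h1 := congrArg Subtype.val (hw ⟨_, hm⟩)
    rw [char_twist_eq_one hfix (show (⟨t, hTV ht⟩ : stab ρ V) ∈ T' from ht) hm, one_smul] at h1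
    exact h1
  obtain ⟨hp2, -⟩ := no_fixed_exception (h.ctx.subgroupOf hsV) h.rK (fun x hx => h.le hx) h.prime hp' hcard'
    (fun a ha b hb => hscal _ (h.comm _ ha _ hb))
    (fun x hx hxs => hphi x (hfpf _ hx (congrArg Subtype.val hxs))) hne' hno'
  refine ⟨hp2, fun hab => hne' fun x hx => ⟨hx, fun t ht => LinearMap.ext fun w => Subtype.ext ?_⟩⟩
  exact LinearMap.congr_fun (hab _ hx _ ht) (w : W)

/-- A fixed vector exists away from the exception. -/
theorem exists_fixed_ne_zero [Nontrivial W] (hfpf : ∀ x ∈ T, s * x = x * s → x ∈ Phi)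
    (hp : p ≠ 2 ∨ ∀ a ∈ T, ∀ b ∈ T, ρ a * ρ b = ρ b * ρ a) : ∃ w, ρ s w = w ∧ w ≠ 0 := by
  by_contra hcon
  push Not at hcon
  obtain ⟨ζ, hζ⟩ : ∃ ζ : Phi →* K, eig ρ Phi ζ ≠ ⊥ := by
    by_contra hc
    push Not at hc
    have h1 := iSup_eig (ρ := ρ) Phi h.phi_card h.phi_comm
    simp only [hc, iSup_bot] at h1
    exact bot_ne_top h1
  obtain ⟨h1, h2⟩ := h.eq_two_of_no_fixed hfpf (weight_fixed_of_no_fixed h.ctx h.phi_card hcon hζ) hζ
    fun w _ => hcon w
  rcases hp with hp | hp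
  · exact hp h1
  · exact h2 hp

/-- For `p` odd every fixed component has a fixed vector. -/
theorem exists_fixed_component (hfpf : ∀ x ∈ T, s * x = x * s → x ∈ Phi) (hp : p ≠ 2) {ζ : Phi →* K}
    (hζ : conjChar s ζ = ζ) (hne : eig ρ Phi ζ ≠ ⊥) : ∃ w, ρ s w = w ∧ proj ρ Phi ζ w ≠ 0 := by
  by_contra hcon
  push Not at hcon
  exact hp (h.eq_two_of_no_fixed hfpf hζ hne fun w hw hws => by
    rw [← proj_eq_self h.phi_card hw, hcon w hws]).1

omit [IsAlgClosed K] [FiniteDimensional K W] in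
/-- If one fixed vector exists and generates, every fixed component has one. -/
theorem exists_fixed_component_of_generated (hgen : ∀ g : H, ∃ t ∈ T, ∃ e : H, s * e = e * s ∧ g = t * e)
    {w0 : W} (hw0 : ρ s w0 = w0) (hspan : Submodule.span K (Set.range fun g => ρ g w0) = ⊤) {ζ : Phi →* K}
    (hne : eig ρ Phi ζ ≠ ⊥) : ∃ w, ρ s w = w ∧ proj ρ Phi ζ w ≠ 0 := by
  by_contra hcon
  push Not at hcon
  obtain ⟨v, hv, hv0⟩ := Submodule.exists_mem_ne_zero_of_ne_bot hne
  have h0 : proj ρ Phi ζ = 0 := by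
    refine LinearMap.ext_on hspan ?_
    rintro _ ⟨g, rfl⟩
    obtain ⟨t, ht, e, he, rfl⟩ := hgen g
    simp only [LinearMap.zero_apply]
    rw [rho_mul_apply, h.proj_apply_comm ht, hcon _ (by rw [← rho_mul_apply, he, rho_mul_apply, hw0]), map_zero]
  rw [← proj_eq_self h.phi_card hv, h0] at hv0
  exact hv0 rfl

/-- **Central elements.** A central element fixing the orbit sums of moved members is trivial. -/
theorem rho_eq_one_of_mem_phi (hfpf : ∀ x ∈ T, s * x = x * s → x ∈ Phi)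
    (hall : ∀ ζ : Phi →* K, conjChar s ζ = ζ → eig ρ Phi ζ ≠ ⊥ → ∃ w, ρ s w = w ∧ proj ρ Phi ζ w ≠ 0)
    {z : H} (hz : z ∈ Phi) (hsz : s * z = z * s) (hfix : Fixes ρ s r S z) : ρ z = 1 := by
  refine sub_eq_zero.mp (eq_zero_of_forall_eig Phi h.phi_card h.phi_comm fun ζ w hw => ?_)
  rw [LinearMap.sub_apply, Module.End.one_apply, sub_eq_zero]
  rcases eq_or_ne w 0 with rfl | hw0
  · rw [map_zero]
  by_cases hζ : conjChar s ζ = ζ
  · obtain ⟨w1, hw1, hP1⟩ := hall ζ hζ fun e => hw0 (by rwa [e, Submodule.mem_bot] at hw)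
    obtain ⟨v, hv, hvs, hv0⟩ := h.exists_moved_component hfpf hζ hw1 hP1
    have h1 := congrArg (proj ρ Phi ζ) (hfix v hv hvs)
    rw [proj_rho_of_comm h.phi_comm ζ hz, proj_mem_eig ζ _ ⟨z, hz⟩] at h1
    have h2 : ζ ⟨z, hz⟩ = 1 := smul_left_injective K hv0 (h1.trans (one_smul K _).symm)
    rw [show ρ z w = ζ ⟨z, hz⟩ • w from hw ⟨z, hz⟩, h2, one_smul]
  · exact rho_eq_of_moved_weight h.ctx (h.phi_le.trans h.le) h.phi_card h.phi_comm S h.span
      (fun n _ u hu => h.stable n u hu) (h.le (h.phi_le hz)) hsz hfix hζ hw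

end Lev

end CfsgLib.Turull
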