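import Cfsg.Agent.Lib.Turull.Sections
import Cfsg.Agent.Lib.Turull.Lev
import Mathlib.RingTheory.RootsOfUnity.AlgebraicallyClosed

/-!
# The representation of a level of a minimal tower
-/

set_option autoImplicit false
set_option linter.style.haveILetI false

namespace CfsgLib.Turull

open Module (End)
open scoped commutatorElement

section Dlog

variable (L : Type*) [Field L] {M : Type*} [Field M]

open Classical in
/-- A primitive root of unity, if there is one. -/
noncomputable def rootOne (M : Type*) [Field M] (q : ℕ) : M :=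
  if h : ∃ w : M, IsPrimitiveRoot w q then h.choose else 1

open Classical in
/-- The logarithm of a root of unity. -/
noncomputable def dlog (q : ℕ) (c : M) : L :=
  if h : ∃ k : ℕ, rootOne M q ^ k = c then (h.choose : L) else 0

variable {L} {q : ℕ} [Fact q.Prime] [IsAlgClosed M] (hq : (q : M) ≠ 0)
include hq

theorem rootOne_spec : IsPrimitiveRoot (rootOne M q) q := by
  haveI : NeZero (q : M) := ⟨hq⟩
  have h : ∃ w : M, IsPrimitiveRoot w q := HasEnoughRootsOfUnity.exists_primitiveRoot M q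
  rw [rootOne, dif_pos h]
  exact h.choose_spec

variable [Algebra (ZMod q) L]

theorem dlog_pow (k : ℕ) : dlog L q (rootOne M q ^ k) = (k : L) := by
  have h : ∃ j : ℕ, rootOne M q ^ j = rootOne M q ^ k := ⟨k, rfl⟩
  rw [dlog, dif_pos h]
  have hw := rootOne_spec hq
  have hpos : 0 < q := (Fact.out : q.Prime).pos
  have h1 : h.choose ≡ k [MOD q] := hw.pow_inj (Nat.mod_lt _ hpos) (Nat.mod_lt _ hpos) (by
    rw [← pow_eq_pow_mod _ hw.pow_eq_one, ← pow_eq_pow_mod _ hw.pow_eq_one, h.choose_spec])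
  rw [← map_natCast (algebraMap (ZMod q) L), ← map_natCast (algebraMap (ZMod q) L),
    (ZMod.natCast_eq_natCast_iff _ _ _).mpr h1]

theorem dlog_mul {a b : M} (ha : a ^ q = 1) (hb : b ^ q = 1) : dlog L q (a * b) = dlog L q a + dlog L q b := by
  obtain ⟨i, -, rfl⟩ := (rootOne_spec hq).eq_pow_of_pow_eq_one ha
  obtain ⟨j, -, rfl⟩ := (rootOne_spec hq).eq_pow_of_pow_eq_one hb
  rw [← pow_add, dlog_pow hq, dlog_pow hq, dlog_pow hq, Nat.cast_add]

theorem dlog_one : dlog L q (1 : M) = 0 := by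
  have := dlog_pow (L := L) hq 0
  rwa [pow_zero, Nat.cast_zero] at this

theorem eq_one_of_dlog {a : M} (ha : a ^ q = 1) (h : dlog L q a = 0) : a = 1 := by
  obtain ⟨i, hi, rfl⟩ := (rootOne_spec hq).eq_pow_of_pow_eq_one ha
  rw [dlog_pow hq, ← map_natCast (algebraMap (ZMod q) L), map_eq_zero, ZMod.natCast_eq_zero_iff] at h
  rw [Nat.eq_zero_of_dvd_of_lt h hi, pow_zero]

omit [IsAlgClosed M] hq in
theorem dlog_rat (c : M) : ∃ k : ZMod q, algebraMap (ZMod q) L k = dlog L q c := by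
  classical
  by_cases h : ∃ k : ℕ, rootOne M q ^ k = c
  · exact ⟨(h.choose : ZMod q), by rw [dlog, dif_pos h, map_natCast]⟩
  · exact ⟨0, by rw [dlog, dif_neg h, map_zero]⟩

end Dlog

universe u

variable {X : Type u} [Group X] [Finite X] {s : X} {r : ℕ} {G : Subgroup X} {p : ℕ → ℕ}
  {P : ℕ → Subgroup X} {m : ℕ}
variable [∀ i, Fact (p i).Prime]
variable (K : ℕ → Type) [∀ i, Field (K i)] [∀ i, Algebra (ZMod (p i)) (K i)]

/-- The functionals of a level. -/
abbrev Wt (P : ℕ → Subgroup X) (m i : ℕ) : Submodule (K i) (P i → K i) := funcs (K i) (P i) (kerT P m i)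

variable {K}

namespace MinTower

variable (h : MinTower s G p P m)

/-- The operators on the functionals of a level. -/
def levRep (i : ℕ) (hi : i ≤ m) : upS s P i →* End (K i) (Wt K P m i) :=
  funcRep (K i) (P i) (kerT P m i) (upS s P i).subtype
    (fun g => h.tower.upS_le_normalizer (Nat.le_succ i) hi g.2)
    (fun g => h.tower.upS_le_normalizer_ker (Nat.le_succ i) hi g.2)

theorem levRep_apply (i : ℕ) (hi : i ≤ m) (g : upS s P i) (f : Wt K P m i) (x y : P i)
    (hy : (y : X) = (g : X)⁻¹ * x * g) : (h.levRep i hi g f : P i → K i) x = (f : P i → K i) y :=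
  funcRep_apply _ _ _ g f x y hy

include h

theorem rK (c : Ctx s r G) {i : ℕ} (hi : i ≤ m) : (r : K i) ≠ 0 := by
  rw [← map_natCast (algebraMap (ZMod (p i)) (K i)), Ne, map_eq_zero, ZMod.natCast_eq_zero_iff]
  intro hd
  have hpr : p i = r := (Nat.prime_dvd_prime_iff_eq Fact.out c.prime).mp hd
  apply h.not_le_kerT hi
  intro x hx
  rcases eq_or_ne x 1 with rfl | hx1
  · exact one_mem _
  obtain ⟨k, hk⟩ := IsPGroup.iff_card.mp (h.tower.pgroup i hi)
  have hk0 : k ≠ 0 := by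
    rintro rfl
    rw [pow_zero, Subgroup.card_eq_one] at hk
    rw [hk, Subgroup.mem_bot] at hx
    exact hx1 hx
  exact absurd (hpr ▸ ((hk ▸ dvd_pow_self (p i) hk0).trans (Subgroup.card_dvd_of_le (h.tower.le i hi)))) c.cop

theorem prime_cast_ne_zero {i : ℕ} (hi : i < m) : ((p i : ℕ) : K (i + 1)) ≠ 0 := by
  rw [← map_natCast (algebraMap (ZMod (p (i + 1))) (K (i + 1))), Ne, map_eq_zero, ZMod.natCast_eq_zero_iff]
  exact fun hd => h.tower.ne i hi ((Nat.prime_dvd_prime_iff_eq Fact.out Fact.out).mp hd).symm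

theorem T_normal {i : ℕ} (hi : i < m) : ((P i).subgroupOf (upS s P (i + 1))).Normal :=
  Subgroup.normal_subgroupOf_of_le_normalizer (h.tower.upS_le_normalizer le_rfl hi.le)

theorem Phi_normal {i : ℕ} (hi : i < m) : ((phiT K P m i).subgroupOf (upS s P (i + 1))).Normal :=
  Subgroup.normal_subgroupOf_of_le_normalizer (h.upS_le_normalizer_phi le_rfl hi.le)

theorem levRep_eq_one_iff {i : ℕ} (hi : i < m) {x : upS s P (i + 1)} (hx : (x : X) ∈ P i) :
    h.levRep (K := K) (i + 1) hi x = 1 ↔ (x : X) ∈ kerT P m i := by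
  have hnorm : ∀ a ∈ P (i + 1), (x : X)⁻¹ * a * x ∈ P (i + 1) ∧ (x : X) * a⁻¹ * (x : X)⁻¹ ∈ P (i + 1) := fun a ha => by
    have h1 := h.tower.upS_le_normalizer (Nat.le_succ (i + 1)) hi x.2
    exact ⟨by simpa using (mem_normalizer_conj_iff (inv_mem h1)).mpr ha,
      (mem_normalizer_conj_iff h1).mpr (inv_mem ha)⟩
  constructor
  · intro hone
    refine h.mem_kerT_of_trivial (K := K) hi hx fun a ha => ?_
    have hc : ⁅a, (x : X)⁆ ∈ P (i + 1) := by
      have := (P (i + 1)).mul_mem ha (hnorm a ha).2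
      simpa [commutatorElement_def, mul_assoc] using this
    refine (mem_phiSub hc).mpr fun f => ?_
    rw [show (⟨⁅a, (x : X)⁆, hc⟩ : P (i + 1)) = ⟨a, ha⟩ * ⟨_, (hnorm a ha).2⟩ from
      Subtype.ext (by simp [commutatorElement_def, mul_assoc]), funcs_map_mul]
    have h2 : (h.levRep (i + 1) hi x f : P (i + 1) → K (i + 1)) ⟨_, (hnorm a ha).2⟩ =
        (f : P (i + 1) → K (i + 1)) (⟨a, ha⟩ : P (i + 1))⁻¹ :=
      h.levRep_apply _ _ _ _ _ _ (by simp [mul_assoc])
    rw [hone, Module.End.one_apply] at h2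
    rw [h2, funcs_map_inv, add_neg_cancel]
  · intro hk
    rw [kerT_eq P hi] at hk
    refine LinearMap.ext fun f => funcs_ext fun a => ?_
    rw [Module.End.one_apply, h.levRep_apply _ _ x f a ⟨_, (hnorm a a.2).1⟩ rfl]
    have hc : ⁅(x : X)⁻¹ * a * x, (x : X)⁆ ∈ kerT P m (i + 1) := hk.2.2.2 _ (hnorm a a.2).1
    have e : (⟨_, (hnorm a a.2).1⟩ : P (i + 1)) =
        ⟨_, kerT_le P hi hc⟩ * a := Subtype.ext (by simp [commutatorElement_def, mul_assoc])
    rw [e, funcs_map_mul, funcs_eq_zero f hc, zero_add]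

theorem comm_mem {i : ℕ} (a b : upS s P (i + 1)) (ha : (a : X) ∈ P i) (hb : (b : X) ∈ P i) :
    (⁅a, b⁆ : upS s P (i + 1)) ∈ (phiT K P m i).subgroupOf (upS s P (i + 1)) := by
  show ((⁅a, b⁆ : upS s P (i + 1)) : X) ∈ phiT K P m i
  simpa [commutatorElement_def, phiT] using commutator_mem_phiSub (K := K i) (Q := kerT P m i) ha hb

/-- The level as a representation. -/
theorem lev (c : Ctx s r G) {i : ℕ} (hi : i < m) (S : Set (Wt K P m (i + 1)))
    (hstab : ∀ g, ∀ u ∈ S, h.levRep (i + 1) hi g u ∈ S) (hspan : Submodule.span (K (i + 1)) S = ⊤) :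
    Lev (h.levRep (K := K) (i + 1) hi) (⟨s, mem_upS s P (i + 1)⟩ : upS s P (i + 1)) r
      (G.subgroupOf (upS s P (i + 1))) ((P i).subgroupOf (upS s P (i + 1)))
      ((phiT K P m i).subgroupOf (upS s P (i + 1))) (p i) S where
  ctx := c.subgroupOf _
  rK := h.rK c hi
  prime := Fact.out
  pgroup := (h.tower.pgroup i hi.le).of_equiv (Subgroup.subgroupOfEquivOfLe (le_upS s P (Nat.lt_succ_self i))).symm
  card := by
    rw [Nat.card_congr (Subgroup.subgroupOfEquivOfLe (le_upS s P (Nat.lt_succ_self i))).toEquiv]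
    exact h.card_ne_zero hi.le (h.tower.ne i hi)
  le := fun x hx => h.tower.le i hi.le hx
  phi_le := fun x hx => phiT_le (K := K) i hx
  comm := fun a ha b hb => h.comm_mem a b ha hb
  central := fun a ha b hb => by
    have h1 : h.levRep (K := K) (i + 1) hi ⁅a, b⁆ = 1 := by
      refine (h.levRep_eq_one_iff hi ?_).mpr ?_
      · exact phiT_le (K := K) i (h.comm_mem a b (phiT_le (K := K) i ha) hb)
      · simpa [commutatorElement_def] using
          h.commutator_phiT_le hi.le (Subgroup.commutator_mem_commutator ha hb)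
    rw [← map_mul, ← map_mul, show a * b = ⁅a, b⁆ * (b * a) by simp only [commutatorElement_def]; group,
      map_mul, h1, one_mul]
  frattini := fun Y hY hker hle => by
    have hT : P i ≤ upS s P (i + 1) := le_upS s P (Nat.lt_succ_self i)
    have h1 : P i ≤ Y.map (upS s P (i + 1)).subtype := by
      refine le_of_le_sup_phiSub (K := K i) (Q := kerT P m i) (h.tower.pgroup i hi.le)
        (by rintro _ ⟨y, hy, rfl⟩; exact hY hy)
        (fun x hx => ⟨⟨x, hT hx.1⟩, hker ⟨x, hT hx.1⟩ hx.1 ((h.levRep_eq_one_iff hi hx.1).mpr hx.2), rfl⟩) ?_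
      have h2 := Subgroup.map_mono (f := (upS s P (i + 1)).subtype) hle
      rw [Subgroup.map_sup, Subgroup.map_subgroupOf_eq_of_le hT] at h2
      exact h2.trans (sup_le_sup le_rfl (Subgroup.map_comap_le _ _))
    intro x hx
    obtain ⟨y, hy, he⟩ := h1 hx
    obtain rfl : y = x := Subtype.ext he
    exact hy
  stable := hstab
  span := hspan
  noFix := fun w hw => funcs_ext fun a => by
    let Z : Subgroup X :=
      { carrier := {y | ∃ hy : y ∈ P (i + 1), (w : P (i + 1) → K (i + 1)) ⟨y, hy⟩ = 0}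
        one_mem' := ⟨one_mem _, funcs_map_one w⟩
        mul_mem' := by
          rintro a b ⟨ha, ha'⟩ ⟨hb, hb'⟩
          exact ⟨mul_mem ha hb, by
            rw [show (⟨a * b, mul_mem ha hb⟩ : P (i + 1)) = ⟨a, ha⟩ * ⟨b, hb⟩ from rfl, funcs_map_mul, ha', hb',
              add_zero]⟩
        inv_mem' := by
          rintro a ⟨ha, ha'⟩
          exact ⟨inv_mem ha, by
            rw [show (⟨a⁻¹, inv_mem ha⟩ : P (i + 1)) = (⟨a, ha⟩ : P (i + 1))⁻¹ from rfl, funcs_map_inv, ha',
              neg_zero]⟩ }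
    suffices hle : ⁅P (i + 1), P i⁆ ≤ Z from (hle ((h.gen i hi).le a.2)).2
    refine Subgroup.commutator_le.mpr fun y hy t ht => ?_
    have htu : t ∈ upS s P (i + 1) := le_upS s P (Nat.lt_succ_self i) ht
    have hmem : t * y⁻¹ * t⁻¹ ∈ P (i + 1) :=
      (mem_normalizer_conj_iff (h.tower.upS_le_normalizer (Nat.le_succ (i + 1)) hi htu)).mpr (inv_mem hy)
    refine ⟨by simpa [commutatorElement_def, mul_assoc] using mul_mem hy hmem, ?_⟩
    have h2 : (h.levRep (i + 1) hi ⟨t, htu⟩ w : P (i + 1) → K (i + 1)) ⟨_, hmem⟩ =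
        (w : P (i + 1) → K (i + 1)) (⟨y, hy⟩ : P (i + 1))⁻¹ :=
      h.levRep_apply _ _ _ _ _ _ (by simp [mul_assoc])
    rw [hw ⟨t, htu⟩ ht] at h2
    refine (congrArg (w : P (i + 1) → K (i + 1)) (Subtype.ext (by simp [commutatorElement_def, mul_assoc]) :
      _ = (⟨y, hy⟩ : P (i + 1)) * ⟨_, hmem⟩)).trans ?_
    rw [funcs_map_mul, h2, funcs_map_inv, add_neg_cancel]

/-- An invariant set of rational functionals with a nonzero member spans. -/
theorem span_eq_top_of_rat {i : ℕ} (hi : i ≤ m) (S : Set (Wt K P m i)) (hrat : ∀ f ∈ S, IsRat (p i) f)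
    (hstab : ∀ g, ∀ u ∈ S, h.levRep i hi g u ∈ S) {f0 : Wt K P m i} (hf0 : f0 ∈ S) (hne : f0 ≠ 0) :
    Submodule.span (K i) S = ⊤ := by
  refine span_eq_top_of_separating S hrat fun a ha => ?_
  let Z : Subgroup X :=
    { carrier := {y | ∃ hy : y ∈ P i, ∀ f ∈ S, (f : P i → K i) ⟨y, hy⟩ = 0}
      one_mem' := ⟨one_mem _, fun f _ => funcs_map_one f⟩
      mul_mem' := by
        rintro a b ⟨ha, ha'⟩ ⟨hb, hb'⟩
        exact ⟨mul_mem ha hb, fun f hf => by
          rw [show (⟨a * b, mul_mem ha hb⟩ : P i) = ⟨a, ha⟩ * ⟨b, hb⟩ from rfl, funcs_map_mul, ha' f hf, hb' f hf,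
            add_zero]⟩
      inv_mem' := by
        rintro a ⟨ha, ha'⟩
        exact ⟨inv_mem ha, fun f hf => by
          rw [show (⟨a⁻¹, inv_mem ha⟩ : P i) = (⟨a, ha⟩ : P i)⁻¹ from rfl, funcs_map_inv, ha' f hf, neg_zero]⟩ }
  have hn : upS s P i ≤ Subgroup.normalizer (Z : Set X) := fun g hg =>
    CfsgLib.Coprime.mem_normalizer_of_forall_conj fun y hy => by
      obtain ⟨hy1, hy2⟩ := hy
      have hg' := h.tower.upS_le_normalizer (Nat.le_succ i) hi hg
      refine ⟨(mem_normalizer_conj_iff hg').mpr hy1, fun f hf => ?_⟩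
      rw [← hy2 _ (hstab ⟨g⁻¹, inv_mem hg⟩ f hf)]
      exact (h.levRep_apply i hi _ f _ _ (by simp)).symm
  rcases h.le_phiT_or_eq (K := K) hi (Y := Z) (fun y hy => hy.1) hn with h1 | h1
  · exact h1 (show (a : X) ∈ Z from ⟨a.2, fun f hf => ha f hf⟩)
  · exact absurd (funcs_ext fun y => (h1 y.2).2 f0 hf0) hne

end MinTower

end CfsgLib.Turull
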