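import Cfsg.Agent.Lib.Turull.Climb

/-!
# The fixed points inherit all but two steps of a minimal tower
-/

set_option autoImplicit false
set_option linter.style.haveILetI false

namespace CfsgLib.Turull

open Module (End)
open scoped commutatorElement
open CfsgLib.FittingLength

universe u

variable {X : Type u} [Group X] [Finite X] {s : X} {r : ℕ} {G : Subgroup X} {p : ℕ → ℕ}
  {P : ℕ → Subgroup X} {m : ℕ}
variable [∀ i, Fact (p i).Prime]
variable {K : ℕ → Type} [∀ i, Field (K i)] [∀ i, Algebra (ZMod (p i)) (K i)] [∀ i, IsAlgClosed (K i)]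

theorem orderOf_coprime_of_isPGroup {q q' : ℕ} [Fact q.Prime] [Fact q'.Prime] {A : Subgroup X}
    (hA : IsPGroup q A) (hne : q ≠ q') {a : X} (ha : a ∈ A) : (orderOf a).Coprime q' := by
  obtain ⟨k, hk⟩ := IsPGroup.iff_card.mp hA
  refine (((Nat.coprime_primes Fact.out Fact.out).mpr hne).pow_left k).coprime_dvd_left ?_
  rw [← hk, ← Subgroup.orderOf_mk a ha]
  exact orderOf_dvd_natCard _

theorem subgroupOf_le_commutator {A B B' L : Subgroup X} (hB' : B' ≤ L) (hA : A ≤ L) (h : B ≤ ⁅B', A⁆) :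
    B.subgroupOf L ≤ ⁅B'.subgroupOf L, A.subgroupOf L⁆ := by
  intro x hx
  have h1 : (⁅B'.subgroupOf L, A.subgroupOf L⁆).map L.subtype = ⁅B', A⁆ := by
    rw [Subgroup.map_commutator, Subgroup.map_subgroupOf_eq_of_le hB', Subgroup.map_subgroupOf_eq_of_le hA]
  obtain ⟨y, hy, hye⟩ := h1.ge (h hx)
  obtain rfl : y = x := Subtype.ext hye
  exact hy

namespace MinTower

variable (h : MinTower s G p P m)
include h

theorem nontrivial_W {i : ℕ} (hi : i ≤ m) : Nontrivial (Wt K P m i) := by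
  obtain ⟨f, hf⟩ := exists_func_ne_zero (K := K i) (h.tower.pgroup i hi) (h.not_le_kerT hi)
  exact ⟨⟨f, 0, hf⟩⟩

theorem isRat_avg {i : ℕ} (hi : i ≤ m) {u : Wt K P m i} (hu : u ∈ h.Gam (K := K) i) :
    IsRat (p i) (avg (h.levRep i hi) (⟨s, mem_upS s P i⟩ : upS s P i) r u) := by
  intro a
  rw [avg_apply, Submodule.coe_sum, Finset.sum_apply]
  choose val hval using fun k : ℕ =>
    h.gam_rat (K := K) i _ (h.gam_stable i hi ((⟨s, mem_upS s P i⟩ : upS s P i) ^ k) u hu) a
  exact ⟨∑ k ∈ Finset.range r, val k, by rw [map_sum]; exact Finset.sum_congr rfl fun k _ => hval k⟩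

/-- A fixed vector above a level without fixed points gives a good element. -/
theorem exists_good_of_fixed (c : Ctx s r G) {i : ℕ} (hi : i < m)
    (hfpf : ∀ x ∈ P i, s * x = x * s → x ∈ phiT K P m i) {w : Wt K P m (i + 1)}
    (hw : h.levRep (i + 1) hi ⟨s, mem_upS s P (i + 1)⟩ w = w) (hw0 : w ≠ 0) :
    ∃ z, h.Good K (i + 1) hi z ∧ z ∈ fixC s G := by
  haveI := h.T_normal hi
  haveI := h.Phi_normal (K := K) hi
  obtain ⟨v, hv, hvs, hv0⟩ := (h.levGam c hi).exists_moved_avg_ne_zero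
    (fun x hx hxs => hfpf x hx (congrArg Subtype.val hxs)) hw hw0
  exact h.exists_good_of_avg c hi hv hvs hv0

/-- Fixed weights are fixed by elements centralising the fixed part of the Frattini part. -/
theorem conjChar_eq_of_centralises (c : Ctx s r G) {i : ℕ} (hi : i < m)
    [((phiT K P m i).subgroupOf (upS s P (i + 1))).Normal]
    {x : upS s P (i + 1)} (hsx : s * (x : X) = x * s)
    (hcen : ∀ n ∈ phiT K P m i, s * n = n * s → ⁅n, (x : X)⁻¹⁆ ∈ kerT P m i) {ζ : PS K h i →* K (i + 1)}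
    (hζ : conjChar (⟨s, mem_upS s P (i + 1)⟩ : upS s P (i + 1)) ζ = ζ)
    (hne : eig (h.levRep (K := K) (i + 1) hi) (PS K h i) ζ ≠ ⊥) : conjChar x ζ = ζ := by
  set s1 : upS s P (i + 1) := ⟨s, mem_upS s P (i + 1)⟩
  have hsx' : s1 * x = x * s1 := Subtype.ext hsx
  refine fixed_char_ext (c.subgroupOf (mem_upS s P (i + 1)))
    (fun a ha => h.tower.le i hi.le (phiT_le (K := K) i ha))
    (by rw [← conjChar_mul, hsx', conjChar_mul, hζ]) hζ fun n hns => ?_
  obtain ⟨w, hw, hw0⟩ := Submodule.exists_mem_ne_zero_of_ne_bot hne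
  set n' : PS K h i := ⟨x⁻¹ * n * x, Subgroup.Normal.conj_mem' ‹_› _ n.2 x⟩
  have hk : ((n : upS s P (i + 1))⁻¹ * n' : upS s P (i + 1)).1 ∈ kerT P m i := by
    have h1 := hcen ((n : upS s P (i + 1)) : X)⁻¹ (inv_mem n.2) (commute_inv (congrArg Subtype.val hns))
    simpa [n', commutatorElement_def, mul_assoc] using h1
  have h2 := hw (n⁻¹ * n')
  rw [show ((n⁻¹ * n' : PS K h i) : upS s P (i + 1)) = (n : upS s P (i + 1))⁻¹ * n' from rfl,
    (h.levRep_eq_one_iff hi (kerT_le P hi.le hk)).mpr hk, Module.End.one_apply, map_mul, char_inv] at h2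
  have h3 := smul_left_injective _ hw0 ((one_smul _ w).trans h2)
  rw [conjChar_apply]
  exact ((inv_mul_eq_one₀ (char_ne_zero ζ _)).mp h3.symm).symm

/-- A central fixed element outside the kernel moves some orbit sum. -/
theorem not_fixes_of_central (c : Ctx s r G) {i : ℕ} (hi : i < m)
    (hfpf : ∀ x ∈ P i, s * x = x * s → x ∈ phiT K P m i) (hp : p i ≠ 2) {z : upS s P (i + 1)}
    (hz : (z : X) ∈ phiT K P m i) (hsz : s * (z : X) = z * s) (hker : (z : X) ∉ kerT P m i) :
    ¬ Fixes (h.levRep (K := K) (i + 1) hi) ⟨s, mem_upS s P (i + 1)⟩ r (h.Gam (K := K) (i + 1)) z := by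
  intro hfix
  haveI := h.T_normal hi
  haveI := h.Phi_normal (K := K) hi
  have hl := h.levGam (K := K) c hi
  have hfpf' : ∀ x ∈ TS h i, (⟨s, mem_upS s P (i + 1)⟩ : upS s P (i + 1)) * x =
      x * ⟨s, mem_upS s P (i + 1)⟩ → x ∈ PS K h i := fun x hx hxs => hfpf x hx (congrArg Subtype.val hxs)
  exact hker ((h.levRep_eq_one_iff hi (phiT_le (K := K) i hz)).mp (hl.rho_eq_one_of_mem_phi hfpf'
    (fun ζ hζ hne => hl.exists_fixed_component hfpf' hp hζ hne) hz (Subtype.ext hsz) hfix))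

/-- The fixed elements of a lower level are seen. -/
theorem exists_not_fixes (c : Ctx s r G) {i : ℕ} (hi : i < m)
    (hfpf : ∀ x ∈ P i, s * x = x * s → x ∈ phiT K P m i) {B : Subgroup X} (hBu : B ≤ upS s P (i + 1))
    (hBG : B ≤ G) (hBs : ∀ b ∈ B, s * b = b * s) (hBp : ∀ b ∈ B, (orderOf b).Coprime (p i))
    (hTB : ∀ Y : Subgroup X, Y ≤ P i → phiT K P m i ≤ Y → (∀ b ∈ B, ∀ t ∈ P i, ⁅t, b⁆ ∈ Y) → P i ≤ Y)
    (hone : (∀ ζ : PS K h i →* K (i + 1),
        @conjChar (K (i + 1)) (upS s P (i + 1)) _ _ (PS K h i) (h.Phi_normal hi)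
          ⟨s, mem_upS s P (i + 1)⟩ ζ = ζ →
        eig (h.levRep (K := K) (i + 1) hi) (PS K h i) ζ ≠ ⊥ → ∃ w,
          h.levRep (i + 1) hi ⟨s, mem_upS s P (i + 1)⟩ w = w ∧
            proj (h.levRep (K := K) (i + 1) hi) (PS K h i) ζ w ≠ 0) ∨
      ∀ b ∈ B, ∀ n ∈ phiT K P m i, s * n = n * s → ⁅n, b⁆ ∈ kerT P m i)
    (hexc : (∀ b ∈ B, Odd (orderOf b)) ∨
      ∃ A : Subgroup X, A ≤ upS s P (i + 1) ∧ (∀ a ∈ A, s * a = a * s) ∧ B ≤ ⁅B, A⁆ ∧
        ∀ a ∈ A, ∀ n ∈ phiT K P m i, s * n = n * s → ⁅n, a⁆ ∈ kerT P m i) :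
    ∃ b : upS s P (i + 1), (b : X) ∈ B ∧
      ¬ Fixes (h.levRep (K := K) (i + 1) hi) ⟨s, mem_upS s P (i + 1)⟩ r (h.Gam (K := K) (i + 1)) b := by
  by_contra hcon
  push Not at hcon
  haveI := h.T_normal hi
  haveI := h.Phi_normal (K := K) hi
  haveI := h.nontrivial_W (K := K) (show i + 1 ≤ m from hi)
  have hl := h.levGam (K := K) c hi
  refine hl.false_of_fixes (fun x hx hxs => hfpf x hx (congrArg Subtype.val hxs)) (B.subgroupOf (upS s P (i + 1)))
    (fun b hb => hBG hb) (fun b hb => Subtype.ext (hBs _ hb))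
    (fun b hb => by rw [← Subgroup.orderOf_coe]; exact hBp _ hb) (fun Y hYT hPY htw => ?_) (fun b hb => hcon b hb)
    (fun ζ hζ hne => ?_) ?_
  · have h1 : P i ≤ Y.map (upS s P (i + 1)).subtype := by
      refine hTB _ (by rintro _ ⟨y, hy, rfl⟩; exact hYT hy)
        (fun x hx => ⟨⟨x, le_upS s P (Nat.lt_succ_self i) (phiT_le (K := K) i hx)⟩, hPY hx, rfl⟩)
        fun b hb t ht => ⟨_, htw ⟨b, hBu hb⟩ hb (⟨t, le_upS s P (Nat.lt_succ_self i) ht⟩ : upS s P (i + 1))⁻¹
          (inv_mem (show (⟨t, le_upS s P (Nat.lt_succ_self i) ht⟩ : upS s P (i + 1)) ∈ TS h i from ht)), ?_⟩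
      simp [commutatorElement_def, mul_assoc]
    intro x hx
    obtain ⟨y, hy, he⟩ := h1 hx
    obtain rfl : y = x := Subtype.ext he
    exact hy
  · rcases hone with h1 | h1
    · exact Or.inl (h1 ζ hζ hne)
    · exact Or.inr fun b hb => h.conjChar_eq_of_centralises c hi (hBs _ hb)
        (fun n hn hns => h1 _ (inv_mem hb) n hn hns) hζ hne
  · rcases hexc with h1 | ⟨A, hAu, hA1, hA2, hA3⟩
    · exact Or.inl fun b hb => by rw [← Subgroup.orderOf_coe]; exact h1 _ hb
    · exact Or.inr ⟨A.subgroupOf _, fun a ha => Subtype.ext (hA1 _ ha), subgroupOf_le_commutator hBu hAu hA2,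
        fun ζ hζ hne a ha => h.conjChar_eq_of_centralises c hi (hA1 _ ha)
          (fun n hn hns => hA3 _ (inv_mem ha) n hn hns) hζ hne⟩

/-- Fixed levels below lie deep in the residuals of the fixed points. -/
theorem le_resIter_of_fixed {j : ℕ} (hj : j ≤ m + 1) (hlow : ∀ l < j, P l ≤ fixC s G) :
    ∀ l, l < j → P l ≤ resIter l (fixC s G) := by
  intro l
  induction l with
  | zero => exact fun hl => hlow 0 hl
  | succ l ih =>
    intro hl
    have hlm : l < m := by omega
    rw [h.gen l hlm]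
    exact commutator_le_resIter_succ (hlow (l + 1) hl) (ih (by omega))
      (h.tower.norm l (l + 1) (Nat.lt_succ_self l) hlm) (h.tower.coprime hlm le_rfl le_rfl)
      (Or.inl (isSolvable_of_isPGroup (h.tower.pgroup l hlm.le)))

variable (K) in
include K in
/-- **The fixed points keep all but two levels.** -/
theorem resIter_ne_bot (c : Ctx s r G) [Group.IsSolvable G] (hm : 2 ≤ m) :
    resIter (m - 2) (fixC s G) ≠ ⊥ := by
  classical
  set C := fixC s G with hCdef
  have hfin : ∀ i (hi : i ≤ m) (z : X) (k : ℕ), h.Good K i hi z → z ∈ resIter k C → m - 2 ≤ k + (m - i) →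
      resIter (m - 2) C ≠ ⊥ := fun i hi z k hg hz hle e =>
    h.resIter_ne_bot_of_good c (m - i) i hi (by omega) z k hg hz
      (le_bot_iff.mp ((resIter_antitone hle _).trans e.le))
  by_cases hall : ∀ l ≤ m - 2, P l ≤ C
  · intro e
    have h1 := h.le_resIter_of_fixed (j := m - 2 + 1) (by omega) (fun l hl => hall l (by omega)) (m - 2)
      (Nat.lt_succ_self _)
    refine h.not_le_kerT (i := m - 2) (by omega) (h1.trans (e.le.trans bot_le))
  push Not at hall
  obtain ⟨hjm, hjC⟩ := Nat.find_spec hall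
  set j := Nat.find hall
  have hlow : ∀ l < j, P l ≤ C := fun l hl => by
    by_contra hc
    exact Nat.find_min hall hl ⟨by omega, hc⟩
  have hj : j < m := by omega
  have hres := h.le_resIter_of_fixed (j := j) (by omega) hlow
  have hcent : ∀ a ∈ upS s P j, s * a = a * s := fun a ha => by
    have h1 : upS s P j ≤ Subgroup.centralizer ({s} : Set X) :=
      upS_le (Subgroup.mem_centralizer_singleton_iff.mpr rfl) fun l hl => (hlow l hl).trans inf_le_right
    exact (Subgroup.mem_centralizer_singleton_iff.mp (h1 ha)).symm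
  -- no fixed points on the section
  have hfpf : ∀ x ∈ P j, s * x = x * s → x ∈ phiT K P m j := by
    intro x hx hxs
    have hn : upS s P j ≤ Subgroup.normalizer ((fixC s G ⊓ P j ⊔ phiT K P m j : Subgroup X) : Set X) :=
      le_normalizer_join (le_normalizer_inter (h.mem_normalizer_C c hcent)
        (h.tower.upS_le_normalizer (Nat.le_succ j) hj.le)) (h.upS_le_normalizer_phi (Nat.le_succ j) hj.le)
    rcases h.le_phiT_or_eq (K := K) hj.le (sup_le inf_le_right (phiT_le (K := K) j)) hn with h1 | h1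
    · exact h1 (Subgroup.mem_sup_left ⟨mem_fixC.mpr ⟨h.tower.le j hj.le hx, hxs⟩, hx⟩)
    exfalso
    have hPker : P j ≤ Subgroup.normalizer (kerT P m j : Set X) :=
      (le_upS s P (Nat.lt_succ_self j)).trans (h.tower.upS_le_normalizer_ker le_rfl hj.le)
    have h2 : P j ≤ (fixC s G ⊓ P j) ⊔ kerT P m j := by
      refine le_of_le_sup_phiSub (K := K j) (h.tower.pgroup j hj.le) (sup_le inf_le_right (kerT_le P hj.le))
        (inf_le_right.trans le_sup_right) (h1.trans (sup_le_sup le_sup_left le_rfl))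
    refine hjC fun y hy => ?_
    have hn' : upS s P j ≤ Subgroup.normalizer ((fixC s G ⊓ P j : Subgroup X) : Set X) :=
      le_normalizer_inter (h.mem_normalizer_C c hcent) (h.tower.upS_le_normalizer (Nat.le_succ j) hj.le)
    suffices hle : P j ≤ fixC s G ⊓ P j from (hle hy).1
    rcases j with _ | i
    · exact h.min_zero _ inf_le_right hn' fun hk => h.not_le_kerT (Nat.zero_le m)
        (h2.trans (sup_le hk le_rfl))
    · refine h.min_succ i hj.le _ inf_le_right hn' fun hk => h.not_le_kerT hj.le ?_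
      refine (h.gen i hj.le).le.trans (Subgroup.commutator_le.mpr fun t ht a ha => ?_)
      obtain ⟨d, hd, k, hk', rfl⟩ := CfsgLib.Coprime.exists_mul_of_mem_sup (inf_le_right.trans hPker) (h2 ht)
      have haker : a ∈ Subgroup.normalizer (kerT P m (i + 1) : Set X) :=
        h.tower.upS_le_normalizer_ker (by omega) hj.le (le_upS s P (Nat.lt_succ_self i) ha)
      rw [show ⁅d * k, a⁆ = (d * (k * (a * k⁻¹ * a⁻¹)) * d⁻¹) * ⁅d, a⁆ by
        simp only [commutatorElement_def]; group]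
      exact mul_mem ((mem_normalizer_conj_iff (hPker hd.2)).mpr
        (mul_mem hk' ((mem_normalizer_conj_iff haker).mpr (inv_mem hk'))))
        (hk (Subgroup.commutator_mem_commutator hd ha))
  haveI := h.T_normal hj
  haveI := h.Phi_normal (K := K) hj
  haveI := h.nontrivial_W (K := K) (show j + 1 ≤ m from hj)
  have hl := h.levGam (K := K) c hj
  have hfpf' : ∀ x ∈ TS h j, (⟨s, mem_upS s P (j + 1)⟩ : upS s P (j + 1)) * x =
      x * ⟨s, mem_upS s P (j + 1)⟩ → x ∈ PS K h j := fun x hx hxs => hfpf x hx (congrArg Subtype.val hxs)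
  rcases Nat.eq_zero_or_pos j with hj0 | hjpos
  · -- the bottom section is abelian
    have hab : ⁅P j, P j⁆ ≤ kerT P m j := by
      have hphi : phiT K P m j ≤ kerT P m j := by
        by_contra hk
        have hphin := h.upS_le_normalizer_phi (K := K) (Nat.le_succ j) hj.le
        rw [hj0] at hk hphin
        exact h.phiT_proper (Nat.zero_le m) (h.min_zero _ (phiT_le (K := K) 0) hphin hk)
      refine Subgroup.commutator_le.mpr fun a ha b hb => hphi ?_
      simpa [commutatorElement_def, phiT] using commutator_mem_phiSub (K := K j) (Q := kerT P m j) ha hb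
    obtain ⟨w, hw, hw0⟩ := hl.exists_fixed_ne_zero hfpf' (Or.inr fun a ha b hb => by
      have h1 : h.levRep (K := K) (j + 1) hj ⁅a, b⁆ = 1 := (h.levRep_eq_one_iff hj (x := ⁅a, b⁆)
        (phiT_le (K := K) (m := m) j (h.comm_mem (K := K) a b ha hb))).mpr
        (by simpa [commutatorElement_def] using hab (Subgroup.commutator_mem_commutator ha hb))
      rw [← map_mul, ← map_mul, show a * b = ⁅a, b⁆ * (b * a) by simp only [commutatorElement_def]; group,
        map_mul, h1, one_mul])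
    obtain ⟨z, hz, hzC⟩ := h.exists_good_of_fixed c hj hfpf hw hw0
    exact hfin _ _ z 0 hz hzC (by omega)
  obtain ⟨i, hji⟩ : ∃ i, j = i + 1 := ⟨j - 1, by omega⟩
  have hi : i < m := by omega
  have hA_u : P i ≤ upS s P (j + 1) := le_upS s P (by omega)
  have hA_s : ∀ a ∈ P i, s * a = a * s := fun a ha => (mem_fixC.mp (hlow i (by omega) ha)).2
  have hAp : ∀ a ∈ P i, (orderOf a).Coprime (p j) := fun a ha =>
    orderOf_coprime_of_isPGroup (h.tower.pgroup i hi.le) (hji ▸ h.tower.ne i hi) ha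
  have hTA : ∀ Y : Subgroup X, Y ≤ P j → phiT K P m j ≤ Y → (∀ b ∈ P i, ∀ t ∈ P j, ⁅t, b⁆ ∈ Y) → P j ≤ Y := by
    intro Y _ _ htw
    rw [hji, h.gen i hi]
    refine Subgroup.commutator_le.mpr fun t ht a ha => htw a ha t (hji ▸ ht)
  have hdone : ∀ b : upS s P (j + 1), (b : X) ∈ P i →
      ¬ Fixes (h.levRep (K := K) (j + 1) hj) ⟨s, mem_upS s P (j + 1)⟩ r (h.Gam (K := K) (j + 1)) b →
      resIter (m - 2) C ≠ ⊥ := fun b hb hnf => by
    obtain ⟨z, hz, hzr⟩ := h.exists_good_mem_resIter c hj (hA_s _ hb) (hres i (by omega) hb) hnf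
    exact hfin _ _ z i hz hzr (by omega)
  by_cases hp : p j = 2
  · -- the exceptional prime
    have hodd : ∀ a ∈ P i, Odd (orderOf a) := fun a ha => by
      have h1 := hAp a ha
      rw [hp] at h1
      exact Nat.coprime_two_right.mp h1
    by_cases hW : ∃ w : Wt K P m (j + 1), h.levRep (j + 1) hj ⟨s, mem_upS s P (j + 1)⟩ w = w ∧ w ≠ 0
    · obtain ⟨w, hw, hw0⟩ := hW
      obtain ⟨v, hv, -, hv0⟩ := hl.exists_moved_avg_ne_zero hfpf' hw hw0
      set ρ := h.levRep (K := K) (j + 1) hj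
      set w0 := avg ρ (⟨s, mem_upS s P (j + 1)⟩ : upS s P (j + 1)) r v
      have hspan : Submodule.span (K (j + 1)) (Set.range fun g => ρ g w0) = ⊤ :=
        h.span_eq_top_of_rat hj _ (by rintro _ ⟨g, rfl⟩; exact fun _ => h.isRat_avg hj hv _)
          (by rintro g _ ⟨g', rfl⟩; exact ⟨g * g', by rw [← rho_mul_apply]⟩)
          ⟨1, by simp only [map_one, Module.End.one_apply]⟩ hv0
      have hgen : ∀ g : upS s P (j + 1), ∃ t ∈ TS h j, ∃ e, (⟨s, mem_upS s P (j + 1)⟩ : upS s P (j + 1)) * e =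
          e * ⟨s, mem_upS s P (j + 1)⟩ ∧ g = t * e := by
        rintro ⟨g, hg⟩
        have hn := h.tower.upS_le_normalizer (s := s) (i := j) (l := j) (Nat.le_succ j) hj.le
        obtain ⟨e, he, t, ht, rfl⟩ := CfsgLib.Coprime.exists_mul_of_mem_sup hn hg
        refine ⟨⟨e * t * e⁻¹, le_upS s P (Nat.lt_succ_self j) ((mem_normalizer_conj_iff (hn he)).mpr ht)⟩,
          (mem_normalizer_conj_iff (hn he)).mpr ht, ⟨e, upS_mono s P (Nat.le_succ j) he⟩,
          Subtype.ext (hcent e he), Subtype.ext (by simp [mul_assoc])⟩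
      obtain ⟨b, hb, hnf⟩ := h.exists_not_fixes c hj hfpf hA_u (h.tower.le i hi.le) hA_s hAp hTA
        (Or.inl fun ζ _ hne => hl.exists_fixed_component_of_generated hgen
          (rho_avg (c.subgroupOf (mem_upS s P (j + 1))) v) hspan hne) (Or.inl hodd)
      exact hdone b hb hnf
    push Not at hW
    by_cases hcA : ∀ b ∈ P i, ∀ n ∈ phiT K P m j, s * n = n * s → ⁅n, b⁆ ∈ kerT P m j
    · obtain ⟨b, -, hnf⟩ := h.exists_not_fixes c hj hfpf hA_u (h.tower.le i hi.le) hA_s hAp hTA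
        (Or.inr hcA) (Or.inl hodd)
      exact absurd (fun u _ _ => by
        rw [hW _ (rho_avg (c.subgroupOf (mem_upS s P (j + 1))) u), map_zero]) hnf
    push Not at hcA
    obtain ⟨b0, hb0, n0, hn0, hns0, hk0⟩ := hcA
    set B := ⁅fixC s G ⊓ phiT K P m j, P i⁆ with hBdef
    have hAu' : P i ≤ upS s P j := le_upS s P (by omega)
    have hphin : upS s P j ≤ Subgroup.normalizer (phiT K P m j : Set X) := h.upS_le_normalizer_phi (Nat.le_succ j) hj.le
    have hQn : upS s P j ≤ Subgroup.normalizer ((fixC s G ⊓ phiT K P m j : Subgroup X) : Set X) :=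
      le_normalizer_inter (h.mem_normalizer_C c hcent) hphin
    have hBQ : B ≤ fixC s G ⊓ phiT K P m j := CfsgLib.Coprime.commutator_le_of_normalizes (hAu'.trans hQn)
    have hBP : B ≤ P j := (hBQ.trans inf_le_right).trans (phiT_le (K := K) j)
    have hcop : (Nat.card (P i)).Coprime (Nat.card (fixC s G ⊓ phiT K P m j : Subgroup X)) :=
      h.tower.coprime hi le_rfl (hji ▸ (inf_le_right.trans (phiT_le (K := K) j)))
    have hBB : B ≤ ⁅B, P i⁆ := (CfsgLib.Coprime.commutator_commutator_eq _ _ (hAu'.trans hQn) hcop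
      (Or.inl (isSolvable_of_isPGroup (h.tower.pgroup i hi.le)))).ge
    have hBr : B ≤ resIter j C := by
      rw [hji]
      exact commutator_le_resIter_succ inf_le_left (hres i (by omega)) (hAu'.trans hQn) hcop
        (Or.inl (isSolvable_of_isPGroup (h.tower.pgroup i hi.le)))
    have hBs : ∀ b ∈ B, s * b = b * s := fun b hb => (mem_fixC.mp (hBQ hb).1).2
    have hj1 : j + 1 < m := by omega
    have hp1 : p (j + 1) ≠ 2 := fun e => h.tower.ne j hj (hp.trans e.symm)
    -- no fixed points one level up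
    have hfpf1 : ∀ x ∈ P (j + 1), s * x = x * s → x ∈ phiT K P m (j + 1) := fun x hx hxs =>
      (mem_phiSub hx).mpr fun f => by
        have h1 := congrArg (fun F : Wt K P m (j + 1) => (F : P (j + 1) → K (j + 1)) ⟨x, hx⟩)
          (hW _ (rho_avg (c.subgroupOf (mem_upS s P (j + 1))) f))
        simp only [h.avg_eval hj f (z := ⟨x, hx⟩) hxs] at h1
        exact (mul_eq_zero.mp h1).resolve_left (h.rK c hj)
    haveI := h.Phi_normal (K := K) hj1
    haveI := h.T_normal hj1
    have hl1 := h.levGam (K := K) c hj1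
    have hfpf1' : ∀ x ∈ TS h (j + 1), (⟨s, mem_upS s P (j + 1 + 1)⟩ : upS s P (j + 1 + 1)) * x =
        x * ⟨s, mem_upS s P (j + 1 + 1)⟩ → x ∈ PS K h (j + 1) := fun x hx hxs =>
      hfpf1 x hx (congrArg Subtype.val hxs)
    by_cases hcA1 : ∀ a ∈ P i, ∀ n ∈ phiT K P m (j + 1), s * n = n * s → ⁅n, a⁆ ∈ kerT P m (j + 1)
    swap
    · push Not at hcA1
      obtain ⟨a, ha, n, hn, hns, hk⟩ := hcA1
      have hau : a ∈ Subgroup.normalizer (phiT K P m (j + 1) : Set X) :=
        h.upS_le_normalizer_phi (Nat.le_succ (j + 1)) hj1.le (upS_mono s P (Nat.le_succ j) (hAu' ha))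
      have hz : ⁅n, a⁆ ∈ phiT K P m (j + 1) := by
        rw [show ⁅n, a⁆ = n * (a * n⁻¹ * a⁻¹) by simp only [commutatorElement_def]; group]
        exact mul_mem hn ((mem_normalizer_conj_iff hau).mpr (inv_mem hn))
      have hnC : n ∈ C := mem_fixC.mpr ⟨h.tower.le _ hj1.le (phiT_le (K := K) _ hn), hns⟩
      have hzr : ⁅n, a⁆ ∈ resIter i C :=
        commutator_le_resIter (Q := C) le_rfl (hres i (by omega)) (Subgroup.commutator_mem_commutator hnC ha)
      have hzs : s * ⁅n, a⁆ = ⁅n, a⁆ * s := (mem_fixC.mp (resIter_le i C hzr)).2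
      obtain ⟨z', hz', hzr'⟩ := h.exists_good_mem_resIter_succ c hj1
        (b := ⟨⁅n, a⁆, le_upS s P (Nat.lt_succ_self (j + 1)) (phiT_le (K := K) _ hz)⟩) (phiT_le (K := K) _ hz) hzs hzr
        (h.not_fixes_of_central c hj1 hfpf1 hp1 hz hzs hk)
      exact hfin _ _ z' (i + 1) hz' hzr' (by omega)
    have hBp : ∀ b ∈ B, (orderOf b).Coprime (p (j + 1)) := fun b hb =>
      orderOf_coprime_of_isPGroup (h.tower.pgroup j hj.le) (h.tower.ne j hj) (hBP hb)
    have hTB : ∀ Y : Subgroup X, Y ≤ P (j + 1) → phiT K P m (j + 1) ≤ Y →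
        (∀ b ∈ B, ∀ t ∈ P (j + 1), ⁅t, b⁆ ∈ Y) → P (j + 1) ≤ Y := by
      intro Y _ hPY htw
      set B' := B ⊔ kerT P m j with hB'
      have hB'n : upS s P (j + 1) ≤ Subgroup.normalizer (B' : Set X) := by
        refine sup_le (le_normalizer_join (le_normalizer_commutator hQn (h.tower.upS_le_normalizer (by omega) hi.le))
          (h.tower.upS_le_normalizer_ker (Nat.le_succ j) hj.le)) fun t ht =>
            CfsgLib.Coprime.mem_normalizer_of_forall_conj fun x hx => ?_
        have hkn : ∀ g ∈ P j, g ∈ Subgroup.normalizer (kerT P m j : Set X) := fun g hg =>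
          h.tower.upS_le_normalizer_ker le_rfl hj.le (le_upS s P (Nat.lt_succ_self j) hg)
        obtain ⟨b, hb, k, hk, rfl⟩ := CfsgLib.Coprime.exists_mul_of_mem_sup (fun g hg => hkn g (hBP hg)) hx
        have h1 : ⁅b⁻¹, t⁆ ∈ kerT P m j :=
          h.commutator_phiT_le (K := K) hj.le (Subgroup.commutator_mem_commutator (inv_mem (hBQ hb).2) ht)
        rw [show t * (b * k) * t⁻¹ = b * (⁅b⁻¹, t⁆ * (t * k * t⁻¹)) by simp only [commutatorElement_def]; group]
        exact mul_mem (Subgroup.mem_sup_left hb)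
          (Subgroup.mem_sup_right (mul_mem h1 ((mem_normalizer_conj_iff (hkn t ht)).mpr hk)))
      have hB'u : B' ≤ upS s P (j + 1) := (sup_le hBP (kerT_le P hj.le)).trans (le_upS s P (Nat.lt_succ_self j))
      have hPn := h.tower.upS_le_normalizer (s := s) (i := j + 1) (l := j + 1) (Nat.le_succ _) hj1.le
      have hPhin := h.upS_le_normalizer_phi (K := K) (i := j + 1) (l := j + 1) (Nat.le_succ _) hj1.le
      have hMle : ⁅P (j + 1), B'⁆ ⊔ phiT K P m (j + 1) ≤ P (j + 1) :=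
        sup_le (CfsgLib.Coprime.commutator_le_of_normalizes (hB'u.trans hPn)) (phiT_le (K := K) _)
      rcases h.le_phiT_or_eq (K := K) hj1.le hMle
        (le_normalizer_join (le_normalizer_commutator hPn hB'n) hPhin) with h1 | h1
      · refine absurd ?_ hk0
        refine h.mem_kerT_of_trivial (K := K) hj ?_ fun a ha =>
          h1 (Subgroup.mem_sup_left (Subgroup.commutator_mem_commutator ha (Subgroup.mem_sup_left
            (Subgroup.commutator_mem_commutator ⟨mem_fixC.mpr ⟨h.tower.le j hj.le (phiT_le (K := K) j hn0), hns0⟩,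
              hn0⟩ hb0))))
        exact hBP (Subgroup.commutator_mem_commutator
          ⟨mem_fixC.mpr ⟨h.tower.le j hj.le (phiT_le (K := K) j hn0), hns0⟩, hn0⟩ hb0)
      · refine h1.trans (sup_le (Subgroup.commutator_le.mpr fun t ht g hg => ?_) hPY)
        obtain ⟨b, hb, k, hk, rfl⟩ := CfsgLib.Coprime.exists_mul_of_mem_sup (fun g hg =>
          h.tower.upS_le_normalizer_ker le_rfl hj.le (le_upS s P (Nat.lt_succ_self j) (hBP hg))) hg
        have hbn : b ∈ Subgroup.normalizer (P (j + 1) : Set X) := hPn (hB'u (Subgroup.mem_sup_left hb))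
        have hk' : ⁅t, k⁆ ∈ phiT K P m (j + 1) := by
          rw [kerT_eq P hj] at hk
          exact kerT_le_phiT hj1.le (hk.2.2.2 t ht)
        have hbphi : b ∈ Subgroup.normalizer (phiT K P m (j + 1) : Set X) := hPhin (hB'u (Subgroup.mem_sup_left hb))
        rw [show ⁅t, b * k⁆ = ⁅t, b⁆ * (b * ⁅t, k⁆ * b⁻¹) by simp only [commutatorElement_def]; group]
        exact mul_mem (htw b hb t ht) (hPY ((mem_normalizer_conj_iff hbphi).mpr hk'))
    obtain ⟨b, hb, hnf⟩ := h.exists_not_fixes c hj1 hfpf1 (hBP.trans (le_upS s P (by omega)))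
      (hBP.trans (h.tower.le j hj.le)) hBs hBp hTB
      (Or.inl fun ζ hζ hne => hl1.exists_fixed_component hfpf1' hp1 hζ hne)
      (Or.inr ⟨P i, le_upS s P (by omega), hA_s, hBB, hcA1⟩)
    obtain ⟨z, hz, hzr⟩ := h.exists_good_mem_resIter c hj1 (hBs _ hb) (hBr hb) hnf
    exact hfin _ _ z j hz hzr (by omega)
  -- odd primes
  obtain ⟨w, hw, hw0⟩ := hl.exists_fixed_ne_zero hfpf' (Or.inl hp)
  rcases Nat.eq_zero_or_pos i with hi0 | hipos
  · obtain ⟨z, hz, hzC⟩ := h.exists_good_of_fixed c hj hfpf hw hw0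
    exact hfin _ _ z 0 hz hzC (by omega)
  obtain ⟨l, hil⟩ : ∃ l, i = l + 1 := ⟨i - 1, by omega⟩
  have hP_u : P l ≤ upS s P (j + 1) := le_upS s P (by omega)
  have hP_s : ∀ a ∈ P l, s * a = a * s := fun a ha => (mem_fixC.mp (hlow l (by omega) ha)).2
  by_cases hcP : ∀ a ∈ P l, ∀ n ∈ phiT K P m j, s * n = n * s → ⁅n, a⁆ ∈ kerT P m j
  · obtain ⟨b, hb, hnf⟩ := h.exists_not_fixes c hj hfpf hA_u (h.tower.le i hi.le) hA_s hAp hTA
      (Or.inl fun ζ hζ hne => hl.exists_fixed_component hfpf' hp hζ hne)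
      (Or.inr ⟨P l, hP_u, hP_s, by rw [hil]; exact (h.gen l (by omega)).le, hcP⟩)
    exact hdone b hb hnf
  push Not at hcP
  obtain ⟨a, ha, n, hn, hns, hk⟩ := hcP
  have hz : ⁅n, a⁆ ∈ phiT K P m j := by
    rw [show ⁅n, a⁆ = n * (a * n⁻¹ * a⁻¹) by simp only [commutatorElement_def]; group]
    exact mul_mem hn ((mem_normalizer_conj_iff (h.upS_le_normalizer_phi le_rfl hj.le (hP_u ha))).mpr (inv_mem hn))
  have hnC : n ∈ C := mem_fixC.mpr ⟨h.tower.le _ hj.le (phiT_le (K := K) _ hn), hns⟩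
  have hzr : ⁅n, a⁆ ∈ resIter l C :=
    commutator_le_resIter (Q := C) le_rfl (hres l (by omega)) (Subgroup.commutator_mem_commutator hnC ha)
  have hzs : s * ⁅n, a⁆ = ⁅n, a⁆ * s := (mem_fixC.mp (resIter_le l C hzr)).2
  obtain ⟨z', hz', hzr'⟩ := h.exists_good_mem_resIter_succ c hj
    (b := ⟨⁅n, a⁆, le_upS s P (Nat.lt_succ_self j) (phiT_le (K := K) _ hz)⟩) (phiT_le (K := K) _ hz) hzs hzr
    (h.not_fixes_of_central c hj hfpf hp hz hzs hk)
  exact hfin _ _ z' (l + 1) hz' hzr' (by omega)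

end MinTower

end CfsgLib.Turull
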