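import Cfsg.Agent.Lib.Turull.TowerExists
import Cfsg.Agent.Lib.Turull.Func

/-!
# Minimal towers

In a tower of least order every section is irreducible, and its Frattini part is central.
-/

set_option autoImplicit false
set_option linter.style.haveILetI false

namespace CfsgLib.Turull

open Module (End)
open scoped commutatorElement

universe u

variable {X : Type u} [Group X]

/-- The operators at the level `i`. -/
def upS (s : X) (P : ℕ → Subgroup X) : ℕ → Subgroup X
  | 0 => Subgroup.zpowers s
  | i + 1 => upS s P i ⊔ P i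

/-- The kernels, by the distance from the top. -/
def kerD (P : ℕ → Subgroup X) (m : ℕ) : ℕ → Subgroup X
  | 0 => ⊥
  | k + 1 => P (m - (k + 1)) ⊓ stabMod (P (m - k)) (kerD P m k)

/-- The kernel of the level `i` on the level above it. -/
def kerT (P : ℕ → Subgroup X) (m i : ℕ) : Subgroup X := kerD P m (m - i)

theorem kerT_top (P : ℕ → Subgroup X) (m : ℕ) : kerT P m m = ⊥ := by rw [kerT, Nat.sub_self]; rfl

theorem kerT_eq (P : ℕ → Subgroup X) {m i : ℕ} (h : i < m) :
    kerT P m i = P i ⊓ stabMod (P (i + 1)) (kerT P m (i + 1)) := by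
  rw [kerT, kerT, show m - i = m - (i + 1) + 1 by omega, kerD, show m - (m - (i + 1) + 1) = i by omega,
    show m - (m - (i + 1)) = i + 1 by omega]

theorem kerT_le (P : ℕ → Subgroup X) {m i : ℕ} (h : i ≤ m) : kerT P m i ≤ P i := by
  rcases h.eq_or_lt with rfl | h
  · rw [kerT_top]; exact bot_le
  · rw [kerT_eq P h]; exact inf_le_left

theorem upS_mono (s : X) (P : ℕ → Subgroup X) {i l : ℕ} (h : i ≤ l) : upS s P i ≤ upS s P l := by
  induction h with
  | refl => exact le_rfl
  | step _ ih => exact ih.trans le_sup_left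

theorem le_upS (s : X) (P : ℕ → Subgroup X) {l i : ℕ} (h : l < i) : P l ≤ upS s P i :=
  (le_sup_right : P l ≤ upS s P (l + 1)).trans (upS_mono s P h)

theorem mem_upS (s : X) (P : ℕ → Subgroup X) (i : ℕ) : s ∈ upS s P i :=
  upS_mono s P (Nat.zero_le i) (Subgroup.mem_zpowers s)

theorem upS_le {s : X} {P : ℕ → Subgroup X} {i : ℕ} {B : Subgroup X} (hs : s ∈ B) (h : ∀ l < i, P l ≤ B) :
    upS s P i ≤ B := by
  induction i with
  | zero => exact Subgroup.zpowers_le.mpr hs
  | succ i ih => exact sup_le (ih fun l hl => h l (Nat.lt_succ_of_lt hl)) (h i (Nat.lt_succ_self i))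

variable {s : X} {G : Subgroup X} {p : ℕ → ℕ} {P : ℕ → Subgroup X} {m : ℕ}

theorem IsTower.upS_le_normalizer_aux [Finite X] (t : IsTower s G p P m) :
    ∀ k i l, m = l + k → i ≤ l + 1 →
      upS s P i ≤ Subgroup.normalizer (P l : Set X) ∧ upS s P i ≤ Subgroup.normalizer (kerT P m l : Set X) := by
  intro k
  induction k with
  | zero =>
    intro i l hl hi
    obtain rfl : l = m := by omega
    refine ⟨upS_le (t.inv l le_rfl) fun j hj => ?_, by rw [kerT_top, Subgroup.normalizer_eq_top]; exact le_top⟩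
    rcases (show j ≤ l by omega).eq_or_lt with rfl | hjl
    exacts [Subgroup.le_normalizer, t.norm j l hjl le_rfl]
  | succ k ih =>
    intro i l hl hi
    have h1 : upS s P i ≤ Subgroup.normalizer (P l : Set X) := upS_le (t.inv l (by omega)) fun j hj => by
      rcases (show j ≤ l by omega).eq_or_lt with rfl | hjl
      exacts [Subgroup.le_normalizer, t.norm j l hjl (by omega)]
    obtain ⟨h2, h3⟩ := ih i (l + 1) (by omega) (by omega)
    refine ⟨h1, ?_⟩
    rw [kerT_eq P (by omega)]
    exact le_normalizer_inter h1 (le_normalizer_stabMod h2 h3)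

theorem IsTower.upS_le_normalizer [Finite X] (t : IsTower s G p P m) {i l : ℕ} (hi : i ≤ l + 1) (hl : l ≤ m) :
    upS s P i ≤ Subgroup.normalizer (P l : Set X) :=
  (t.upS_le_normalizer_aux (m - l) i l (by omega) hi).1

theorem IsTower.upS_le_normalizer_ker [Finite X] (t : IsTower s G p P m) {i l : ℕ} (hi : i ≤ l + 1) (hl : l ≤ m) :
    upS s P i ≤ Subgroup.normalizer (kerT P m l : Set X) :=
  (t.upS_le_normalizer_aux (m - l) i l (by omega) hi).2

/-- A tower of least order. -/
structure MinTower (s : X) (G : Subgroup X) (p : ℕ → ℕ) (P : ℕ → Subgroup X) (m : ℕ) : Prop where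
  tower : IsTower s G p P m
  gen : ∀ i < m, P (i + 1) = ⁅P (i + 1), P i⁆
  top : P m ≠ ⊥
  min_zero : ∀ Q ≤ P 0, upS s P 0 ≤ Subgroup.normalizer (Q : Set X) → ¬ Q ≤ kerT P m 0 → P 0 ≤ Q
  min_succ : ∀ i < m, ∀ Q ≤ P (i + 1), upS s P (i + 1) ≤ Subgroup.normalizer (Q : Set X) →
    ¬ ⁅Q, P i⁆ ≤ kerT P m (i + 1) → P (i + 1) ≤ Q

variable [Finite X]

/-- Nontriviality propagates upwards. -/
theorem IsTower.chainE_top_ne_bot (t : IsTower s G p P m) {P' : ℕ → Subgroup X} (t' : IsTower s G p P' m)
    {i : ℕ} (hi : i ≤ m) (hP : ∀ l, i < l → P' l = P l) (hle : ∀ l ≤ m, P' l ≤ P l)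
    (h : ¬ chainE P' i ≤ kerT P m i) : chainE P' m ≠ ⊥ := by
  have key : ∀ d l, l = i + d → l ≤ m → ¬ chainE P' l ≤ kerT P m l := by
    intro d
    induction d with
    | zero => intro l hl _; rwa [hl, Nat.add_zero]
    | succ d ih =>
      intro l hl hlm hle'
      obtain rfl : l = i + d + 1 := by omega
      refine ih (i + d) rfl (by omega) ?_
      rw [chainE, hP _ (by omega)] at hle'
      have h1 : chainE P' (i + d) ≤ P (i + d) := (t'.chainE_le _ (by omega)).trans (hle _ (by omega))
      have h2 : P (i + d) ≤ upS s P (i + d + 1) := le_upS s P (Nat.lt_succ_self _)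
      rw [kerT_eq P (by omega)]
      exact le_inf h1 ((commutator_le_iff_le_stabMod ((h1.trans h2).trans (t.upS_le_normalizer (by omega) hlm))
        ((h1.trans h2).trans (t.upS_le_normalizer_ker (by omega) hlm))).mp hle')
  intro e
  refine key (m - i) m (by omega) le_rfl ?_
  rw [e]; exact bot_le

theorem isSolvable_of_isPGroup {q : ℕ} [Fact q.Prime] {A : Subgroup X} (h : IsPGroup q A) : Group.IsSolvable A := by
  haveI := h.isNilpotent
  infer_instance

variable [∀ i, Fact (p i).Prime]

theorem IsTower.coprime (t : IsTower s G p P m) {i : ℕ} (hi : i < m) {A B : Subgroup X} (hA : A ≤ P i)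
    (hB : B ≤ P (i + 1)) : (Nat.card A).Coprime (Nat.card B) :=
  IsPGroup.coprime_card_of_ne (p i) (p (i + 1)) (t.ne i hi) _ _ ((t.pgroup i (le_of_lt hi)).to_le hA)
    ((t.pgroup (i + 1) hi).to_le hB)

/-- A tower of least order exists. -/
theorem exists_minTower (t : IsTower s G p P m) (hE : chainE P m ≠ ⊥) :
    ∃ P' : ℕ → Subgroup X, MinTower s G p P' m := by
  classical
  let cost : (ℕ → Subgroup X) → ℕ := fun Q => ∑ i ∈ Finset.range (m + 1), Nat.card (Q i)
  have hex : ∃ n, ∃ Q : ℕ → Subgroup X, IsTower s G p Q m ∧ chainE Q m ≠ ⊥ ∧ cost Q = n := ⟨_, P, t, hE, rfl⟩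
  obtain ⟨P, ht, hP, hn⟩ := Nat.find_spec hex
  have hmin : ∀ Q : ℕ → Subgroup X, IsTower s G p Q m → chainE Q m ≠ ⊥ → (∀ l ≤ m, Q l ≤ P l) →
      ∀ l ≤ m, P l ≤ Q l := by
    intro Q hQ hQ' hle l hl
    have h1 : cost P ≤ cost Q := hn.le.trans (Nat.find_le ⟨Q, hQ, hQ', rfl⟩)
    have h2 : ∀ j ∈ Finset.range (m + 1), Nat.card (Q j) ≤ Nat.card (P j) := fun j hj =>
      Nat.le_of_dvd Nat.card_pos (Subgroup.card_dvd_of_le (hle j (Nat.lt_succ_iff.mp (Finset.mem_range.mp hj))))
    have h3 := (Finset.sum_eq_sum_iff_of_le h2).mp (le_antisymm (Finset.sum_le_sum h2) h1) l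
      (Finset.mem_range.mpr (Nat.lt_succ_of_le hl))
    exact (Subgroup.eq_of_le_of_card_ge (hle l hl) h3.ge).ge
  -- every member is its commutator
  have tE : IsTower s G p (fun i => chainE P i) m := by
    have hn' : ∀ l ≤ m, ∀ g, (g = s ∨ ∃ i < l, g ∈ chainE P i) →
        g ∈ Subgroup.normalizer (chainE P l : Set X) := by
      intro l
      induction l with
      | zero =>
        rintro hl g (rfl | ⟨i, hi, -⟩)
        exacts [ht.inv 0 hl, absurd hi (Nat.not_lt_zero i)]
      | succ l ih =>
        intro hl g hg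
        have h1 : g ∈ Subgroup.normalizer (P (l + 1) : Set X) := by
          rcases hg with rfl | ⟨i, hi, hg⟩
          exacts [ht.inv _ hl, ht.norm i (l + 1) hi hl (ht.chainE_le i (by omega) hg)]
        have h2 : g ∈ Subgroup.normalizer (chainE P l : Set X) := by
          rcases hg with rfl | ⟨i, hi, hg⟩
          · exact ih (by omega) g (Or.inl rfl)
          · rcases (show i ≤ l by omega).eq_or_lt with rfl | hil
            exacts [Subgroup.le_normalizer hg, ih (by omega) g (Or.inr ⟨i, hil, hg⟩)]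
        exact le_normalizer_commutator (Subgroup.zpowers_le.mpr h1) (Subgroup.zpowers_le.mpr h2)
          (Subgroup.mem_zpowers g)
    exact ⟨fun i hi => (ht.pgroup i hi).to_le (ht.chainE_le i hi), fun i hi => (ht.chainE_le i hi).trans (ht.le i hi),
      fun i hi => hn' i hi s (Or.inl rfl), fun i l hil hl g hg => hn' l hl g (Or.inr ⟨i, hil, hg⟩), ht.ne⟩
  have hgen : ∀ i ≤ m, chainE P i = P i := by
    have hne : chainE (fun i => chainE P i) m ≠ ⊥ := by
      have h : ∀ l ≤ m, chainE (fun i => chainE P i) l = chainE P l := by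
        intro l hl
        induction l with
        | zero => rfl
        | succ l ih =>
          rw [chainE, ih (by omega)]
          show ⁅chainE P (l + 1), chainE P l⁆ = chainE P (l + 1)
          rw [chainE]
          refine CfsgLib.Coprime.commutator_commutator_eq _ _
            ((ht.chainE_le l (by omega)).trans (ht.norm l (l + 1) (Nat.lt_succ_self l) hl)) ?_ ?_
          · exact ht.coprime hl ((ht.chainE_le l (by omega))) le_rfl
          · exact Or.inl (isSolvable_of_isPGroup ((ht.pgroup l (by omega)).to_le (ht.chainE_le l (by omega))))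
      rw [h m le_rfl]
      exact hP
    intro i hi
    exact le_antisymm (ht.chainE_le i hi) (hmin _ tE hne ht.chainE_le i hi)
  have hupd : ∀ i ≤ m, ∀ Q ≤ P i, upS s P i ≤ Subgroup.normalizer (Q : Set X) →
      ¬ chainE (Function.update P i Q) i ≤ kerT P m i → P i ≤ Q := by
    intro i hi Q hQ hQn hseen
    set P' := Function.update P i Q with hP'def
    have hPi : P' i = Q := Function.update_self ..
    have hPl : ∀ l, l ≠ i → P' l = P l := fun l hl => Function.update_of_ne hl ..
    have hle : ∀ l, P' l ≤ P l := fun l => by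
      rcases eq_or_ne l i with rfl | hl
      exacts [hPi.symm ▸ hQ, (hPl l hl).le]
    have t' : IsTower s G p P' m := by
      refine ⟨fun l hl => (ht.pgroup l hl).to_le (hle l), fun l hl => (hle l).trans (ht.le l hl), fun l hl => ?_,
        fun a b hab hb => ?_, ht.ne⟩
      · rcases eq_or_ne l i with rfl | hli
        · rw [hPi]; exact hQn (mem_upS s P _)
        · rw [hPl l hli]; exact ht.inv l hl
      · rcases eq_or_ne b i with rfl | hbi
        · rw [hPi, hPl a hab.ne]; exact (le_upS s P hab).trans hQn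
        · rw [hPl b hbi]; exact (hle a).trans (ht.norm a b hab hb)
    have hne := ht.chainE_top_ne_bot t' hi (fun l hl => hPl l hl.ne') (fun l _ => hle l) hseen
    exact hPi ▸ hmin P' t' hne (fun l _ => hle l) i hi
  refine ⟨P, ht, fun i hi => ?_, fun e => hP (le_bot_iff.mp (e ▸ ht.chainE_le m le_rfl)), fun Q hQ hQn hQk => ?_,
    fun i hi Q hQ hQn hQk => ?_⟩
  · conv_lhs => rw [← hgen (i + 1) hi]
    rw [chainE, hgen i (le_of_lt hi)]
  · refine hupd 0 (Nat.zero_le m) Q hQ hQn ?_
    rwa [chainE, Function.update_self]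
  · refine hupd (i + 1) hi Q hQ hQn ?_
    rwa [chainE, Function.update_self, chainE_congr (P' := P) (fun l hl => Function.update_of_ne (by omega) ..),
      hgen i (le_of_lt hi)]

end CfsgLib.Turull
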