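import Mathlib

/-!
# Monomial operators: phases, eigenspaces and traces

An operator permuting the lines of a basis commutes with diagonal operators constant on orbits; a phase
along free orbits turns fixed vectors into eigenvectors.
-/

set_option autoImplicit false

namespace CfsgLib.Turull

open Module (End)

/-- A phase along the orbits in a set where a permutation of period `P` is free. -/
theorem exists_phase {α : Type*} [Finite α] (π : Equiv.Perm α) {P : ℕ} (hP : 0 < P) (hπ : π ^ P = 1)
    (S : Set α) (hfree : ∀ a ∈ S, ∀ i, 0 < i → i < P → (π ^ i) a ≠ a) :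
    ∃ h : α → ℕ, ∀ a ∈ S, ∀ k, h ((π ^ k) a) % P = (h a + k) % P := by
  classical
  let q : α → Quotient (Equiv.Perm.SameCycle.setoid π) := fun a => Quotient.mk _ a
  have hex : ∀ a, ∃ i : ℕ, (π ^ i) (q a).out = a := fun a =>
    (Quotient.exact (Quotient.out_eq (q a)) : π.SameCycle (q a).out a).exists_nat_pow_eq
  choose h hh using hex
  refine ⟨h, fun a ha k => ?_⟩
  have hq : q ((π ^ k) a) = q a :=
    (Quotient.sound (show π.SameCycle a ((π ^ k) a) from ⟨(k : ℤ), by rw [zpow_natCast]⟩)).symm
  have h1 := hh ((π ^ k) a)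
  rw [hq] at h1
  have h2 : (π ^ (h a + k)) (q a).out = (π ^ k) a := by
    rw [add_comm, pow_add, Equiv.Perm.mul_apply, hh]
  have hmod : ∀ i, (π ^ (i % P)) (q a).out = (π ^ i) (q a).out := fun i => by rw [← pow_eq_pow_mod i hπ]
  have key : ∀ i j : ℕ, i < P → j < P → i < j → (π ^ i) (q a).out ≠ (π ^ j) (q a).out := by
    intro i j _ hj hij e
    refine hfree a ha (j - i) (by omega) (by omega) ?_
    have e' : (π ^ (j - i)) (q a).out = (q a).out := by
      apply (π ^ i).injective
      rw [← Equiv.Perm.mul_apply, ← pow_add, Nat.add_sub_cancel' hij.le]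
      exact e.symm
    conv_lhs => rw [← hh a]
    rw [← Equiv.Perm.mul_apply, ← pow_add, add_comm, pow_add, Equiv.Perm.mul_apply, e', hh]
  rcases lt_trichotomy (h ((π ^ k) a) % P) ((h a + k) % P) with hlt | heq | hgt
  · exact absurd (by rw [hmod, hmod, h1, h2]) (key _ _ (Nat.mod_lt _ hP) (Nat.mod_lt _ hP) hlt)
  · exact heq
  · exact absurd (by rw [hmod, hmod, h1, h2]) (key _ _ (Nat.mod_lt _ hP) (Nat.mod_lt _ hP) hgt)

variable {K V ι : Type*} [Field K] [AddCommGroup V] [Module K V] (e : Module.Basis ι K V)

/-- The operator scaling the basis vectors by `f`. -/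
noncomputable def diag (f : ι → K) : End K V := e.constr K fun i => f i • e i

variable {e}

theorem diag_apply_basis (f : ι → K) (i : ι) : diag e f (e i) = f i • e i :=
  e.constr_basis K _ i

theorem diag_mul (f g : ι → K) (x : V) : diag e f (diag e g x) = diag e (f * g) x := by
  refine LinearMap.congr_fun (e.ext (f₁ := diag e f ∘ₗ diag e g) (f₂ := diag e (f * g)) fun i => ?_) x
  rw [LinearMap.comp_apply, diag_apply_basis, map_smul, diag_apply_basis, diag_apply_basis, smul_smul,
    Pi.mul_apply, mul_comm]

theorem diag_one (x : V) : diag e 1 x = x := by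
  refine LinearMap.congr_fun (e.ext (f₁ := diag e 1) (f₂ := 1) fun i => ?_) x
  rw [diag_apply_basis, Pi.one_apply, one_smul, Module.End.one_apply]

theorem diag_zero (x : V) : diag e 0 x = 0 := by
  refine LinearMap.congr_fun (e.ext (f₁ := diag e 0) (f₂ := 0) fun i => ?_) x
  rw [diag_apply_basis, Pi.zero_apply, zero_smul, LinearMap.zero_apply]

theorem diag_add (f g : ι → K) (x : V) : diag e (f + g) x = diag e f x + diag e g x := by
  refine LinearMap.congr_fun (e.ext (f₁ := diag e (f + g)) (f₂ := diag e f + diag e g) fun i => ?_) x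
  rw [diag_apply_basis, LinearMap.add_apply, diag_apply_basis, diag_apply_basis, Pi.add_apply, add_smul]

theorem diag_smul (c : K) (f : ι → K) (x : V) : diag e (c • f) x = c • diag e f x := by
  refine LinearMap.congr_fun (e.ext (f₁ := diag e (c • f)) (f₂ := c • diag e f) fun i => ?_) x
  rw [diag_apply_basis, LinearMap.smul_apply, diag_apply_basis, Pi.smul_apply, smul_smul, smul_eq_mul]

theorem diag_sum {κ : Type*} (s : Finset κ) (f : κ → ι → K) (x : V) :
    diag e (∑ k ∈ s, f k) x = ∑ k ∈ s, diag e (f k) x := by
  classical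
  induction s using Finset.induction with
  | empty => rw [Finset.sum_empty, Finset.sum_empty, diag_zero]
  | @insert a s ha ih => rw [Finset.sum_insert ha, Finset.sum_insert ha, diag_add, ih]

/-- `L` permutes the lines of the basis along `π`. -/
def IsMono (e : Module.Basis ι K V) (L : End K V) (π : ι → ι) : Prop :=
  ∀ i, ∃ θ : K, L (e i) = θ • e (π i)

/-- A monomial operator moves diagonal operators along its permutation. -/
theorem IsMono.diag_comm {L : End K V} {π : ι → ι} (hL : IsMono e L π) {f f' : ι → K}
    (h : ∀ i, f' (π i) = f i) (x : V) : L (diag e f x) = diag e f' (L x) := by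
  refine LinearMap.congr_fun (e.ext (f₁ := L ∘ₗ diag e f) (f₂ := diag e f' ∘ₗ L) fun i => ?_) x
  obtain ⟨θ, hθ⟩ := hL i
  rw [LinearMap.comp_apply, LinearMap.comp_apply, diag_apply_basis, map_smul, hθ, map_smul,
    diag_apply_basis, smul_smul, smul_smul, h i, mul_comm]

/-- The vectors supported on `S`. -/
noncomputable def suppSpace (e : Module.Basis ι K V) (S : Set ι) : Submodule K V :=
  Submodule.span K (e '' S)

theorem diag_mem_suppSpace {S : Set ι} {f : ι → K} (hf : ∀ i, i ∉ S → f i = 0) (x : V) :
    diag e f x ∈ suppSpace e S := by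
  have hle : LinearMap.range (diag e f) ≤ suppSpace e S := by
    rw [LinearMap.range_eq_map, ← e.span_eq, Submodule.map_span, Submodule.span_le]
    rintro _ ⟨_, ⟨i, rfl⟩, rfl⟩
    rw [diag_apply_basis]
    by_cases hi : i ∈ S
    · exact Submodule.smul_mem _ _ (Submodule.subset_span ⟨i, hi, rfl⟩)
    · rw [hf i hi, zero_smul]; exact zero_mem _
  exact hle ⟨x, rfl⟩

theorem diag_eq_of_mem_suppSpace {S : Set ι} {f g : ι → K} (hf : ∀ i ∈ S, f i = g i) {x : V}
    (hx : x ∈ suppSpace e S) : diag e f x = diag e g x := by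
  induction hx using Submodule.span_induction with
  | mem x hx =>
    obtain ⟨i, hi, rfl⟩ := hx
    rw [diag_apply_basis, diag_apply_basis, hf i hi]
  | zero => rw [map_zero, map_zero]
  | add x y _ _ hx hy => rw [map_add, map_add, hx, hy]
  | smul c x _ hx => rw [map_smul, map_smul, hx]

theorem finrank_suppSpace_le (S : Finset ι) : Module.finrank K (suppSpace e (S : Set ι)) ≤ S.card := by
  classical
  unfold suppSpace
  rw [← Finset.coe_image]
  exact (finrank_span_finset_le_card _).trans Finset.card_image_le

end CfsgLib.Turull
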