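import Cfsg.Agent.Lib.Turull.Monomial

/-!
# Counting tools for an operator of prime order on an endomorphism algebra

Eigenspace dimensions on free orbits, simultaneous eigenbases, eigenspaces of conjugation, and the
distribution of multiplicities forced by a nearly regular autocorrelation.
-/

set_option autoImplicit false

namespace CfsgLib.Turull

open Module (End)

variable {K : Type*} [Field K]

theorem root_pow_val_add {ω : K} {r : ℕ} [NeZero r] (hω : ω ^ r = 1) (a b : ZMod r) :
    ω ^ (a + b).val = ω ^ a.val * ω ^ b.val := by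
  rw [ZMod.val_add, ← pow_eq_pow_mod _ hω, pow_add]

theorem root_pow_val_injective {ω : K} {r : ℕ} [NeZero r] (hω : IsPrimitiveRoot ω r) :
    Function.Injective fun a : ZMod r => ω ^ a.val := fun a b h =>
  ZMod.val_injective r (hω.pow_inj (ZMod.val_lt a) (ZMod.val_lt b) h)

theorem sum_root_pow {ω : K} {r : ℕ} (hω : IsPrimitiveRoot ω r) (hr : 0 < r) (d : ℕ) :
    ∑ k ∈ Finset.range r, (ω ^ d) ^ k = if r ∣ d then (r : K) else 0 := by
  split_ifs with h
  · rw [(hω.pow_eq_one_iff_dvd d).mpr h]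
    simp
  · rw [geom_sum_eq (fun e => h ((hω.pow_eq_one_iff_dvd d).mp e)), ← pow_mul, mul_comm d r, pow_mul,
      hω.pow_eq_one, one_pow, sub_self, zero_div]

variable {U : Type*} [AddCommGroup U] [Module K U]

/-- A vector is the sum of its eigen-components. -/
theorem exists_eigen_decomp {T : End K U} {r : ℕ} {ω : K} (hω : IsPrimitiveRoot ω r) (hr : (r : K) ≠ 0)
    (hT : T ^ r = 1) (x : U) :
    ∃ y : ℕ → U, x = ∑ g ∈ Finset.range r, y g ∧ (∀ g, T (y g) = ω ^ g • y g) ∧
      ∀ (B : End K U) (b : K), B * T = T * B → B x = b • x → ∀ g, B (y g) = b • y g := by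
  have hr0 : 0 < r := Nat.pos_of_ne_zero fun e => hr (by rw [e, Nat.cast_zero])
  have hω0 : ∀ g, ω ^ g ≠ 0 := fun g => pow_ne_zero _ (hω.ne_zero hr0.ne')
  let y : ℕ → U := fun g => (r : K)⁻¹ • ∑ k ∈ Finset.range r, ((ω ^ g) ^ k)⁻¹ • (T ^ k) x
  refine ⟨y, ?_, fun g => ?_, fun B b hB hb g => ?_⟩
  · simp only [y, ← Finset.smul_sum]
    rw [Finset.sum_comm]
    simp only [← Finset.sum_smul]
    rw [Finset.sum_eq_single 0]
    · simp [smul_smul, inv_mul_cancel₀ hr]
    · intro k hk hk0
      have h1 : ∑ g ∈ Finset.range r, ((ω ^ g) ^ k)⁻¹ = 0 := by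
        have h2 := sum_root_pow (hω.inv) hr0 k
        rw [if_neg (Nat.not_dvd_of_pos_of_lt (Nat.pos_of_ne_zero hk0) (Finset.mem_range.mp hk))] at h2
        rw [← h2]
        refine Finset.sum_congr rfl fun g _ => ?_
        rw [← pow_mul, ← pow_mul, mul_comm g k, inv_pow]
      rw [h1, zero_smul]
    · intro h
      exact absurd (Finset.mem_range.mpr hr0) h
  · simp only [y]
    rw [map_smul, smul_comm (ω ^ g), map_sum, Finset.smul_sum (r := ω ^ g)]
    congr 1
    obtain ⟨m, rfl⟩ : ∃ m, r = m + 1 := ⟨r - 1, (Nat.succ_pred_eq_of_pos hr0).symm⟩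
    have hshift : ∀ k, T (((ω ^ g) ^ k)⁻¹ • (T ^ k) x) = ω ^ g • (((ω ^ g) ^ (k + 1))⁻¹ • (T ^ (k + 1)) x) := by
      intro k
      rw [map_smul, ← Module.End.mul_apply, ← pow_succ', smul_smul, pow_succ (ω ^ g) k, mul_inv_rev,
        mul_inv_cancel_left₀ (hω0 g)]
    rw [Finset.sum_congr rfl fun k _ => hshift k, Finset.sum_range_succ, Finset.sum_range_succ'
      (fun k => ω ^ g • (((ω ^ g) ^ k)⁻¹ • (T ^ k) x))]
    have h1 : (ω ^ g) ^ (m + 1) = 1 := by rw [← pow_mul, mul_comm, pow_mul, hω.pow_eq_one, one_pow]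
    rw [h1, hT, pow_zero, pow_zero]
  · simp only [y]
    rw [map_smul, smul_comm b, map_sum, Finset.smul_sum (r := b)]
    congr 1
    refine Finset.sum_congr rfl fun k _ => ?_
    have hBk : B * T ^ k = T ^ k * B := ((show Commute B T from hB).pow_right k).eq
    rw [map_smul, ← Module.End.mul_apply, hBk, Module.End.mul_apply, hb, map_smul, smul_comm]

/-- A simultaneous eigenbasis of two commuting operators of finite order. -/
theorem exists_joint_eigenbasis [FiniteDimensional K U] {T B : End K U} {r p : ℕ} [NeZero r] [NeZero p]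
    {ω γ : K} (hω : IsPrimitiveRoot ω r) (hγ : IsPrimitiveRoot γ p) (hr : (r : K) ≠ 0) (hp : (p : K) ≠ 0)
    (hT : T ^ r = 1) (hB : B ^ p = 1) (hTB : B * T = T * B) :
    ∃ (ι : Type) (_ : Fintype ι) (v : Module.Basis ι K U) (φ : ι → ZMod r) (ψ : ι → ZMod p),
      (∀ i, T (v i) = ω ^ (φ i).val • v i) ∧ ∀ i, B (v i) = γ ^ (ψ i).val • v i := by
  classical
  let S : Set U := {x | ∃ (a : ZMod r) (b : ZMod p), T x = ω ^ a.val • x ∧ B x = γ ^ b.val • x}
  have hS : Submodule.span K S = ⊤ := by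
    refine top_le_iff.mp fun x _ => ?_
    obtain ⟨y, hy, hyB, -⟩ := exists_eigen_decomp hγ hp hB x
    rw [hy]
    refine Submodule.sum_mem _ fun g _ => ?_
    obtain ⟨z, hz, hzT, hzc⟩ := exists_eigen_decomp hω hr hT (y g)
    rw [hz]
    refine Submodule.sum_mem _ fun f _ => Submodule.subset_span ⟨(f : ZMod r), (g : ZMod p), ?_, ?_⟩
    · rw [hzT, ZMod.val_natCast, ← pow_eq_pow_mod _ hω.pow_eq_one]
    · rw [hzc B _ hTB (hyB g) f, ZMod.val_natCast, ← pow_eq_pow_mod _ hγ.pow_eq_one]
  obtain ⟨b, hbS, hbspan, hbli⟩ := exists_linearIndependent K S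
  let v0 : Module.Basis b K U := Module.Basis.mk hbli (by rw [Subtype.range_coe, hbspan, hS])
  haveI : Fintype b := Module.Basis.fintypeIndexOfRankLtAleph0 v0 (Module.rank_lt_aleph0 K U)
  let v := v0.reindex (Fintype.equivFin b)
  have hv : ∀ i, v i ∈ S := fun i => by
    simp only [v, v0, Module.Basis.reindex_apply, Module.Basis.coe_mk]
    exact hbS ((Fintype.equivFin b).symm i).2
  choose φ ψ h1 h2 using hv
  exact ⟨Fin (Fintype.card b), inferInstance, v, φ, ψ, h1, h2⟩

theorem coord_of_eigenbasis {ι : Type*} (v : Module.Basis ι K U) {T : End K U} {c : ι → K}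
    (hT : ∀ i, T (v i) = c i • v i) (i : ι) (y : U) : v.coord i (T y) = c i * v.coord i y := by
  classical
  refine LinearMap.congr_fun (v.ext (f₁ := v.coord i ∘ₗ T) (f₂ := c i • v.coord i) fun j => ?_) y
  rw [LinearMap.comp_apply, hT, map_smul, LinearMap.smul_apply, Module.Basis.coord_apply, v.repr_self,
    Finsupp.single_apply]
  split_ifs with h
  · rw [h]
  · rw [smul_zero, smul_zero]

/-- The joint eigenspace of conjugation by two operators with a common eigenbasis. -/
theorem finrank_conj_eigen {ι : Type*} [Fintype ι] [DecidableEq ι] (v : Module.Basis ι K U) {T B : End K U}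
    {r p : ℕ} [NeZero r] [NeZero p] {ω γ : K} (hω : IsPrimitiveRoot ω r) (hγ : IsPrimitiveRoot γ p)
    {φ : ι → ZMod r} {ψ : ι → ZMod p} (hT : ∀ i, T (v i) = ω ^ (φ i).val • v i)
    (hB : ∀ i, B (v i) = γ ^ (ψ i).val • v i) (g : ZMod r) (h : ZMod p) (M : Submodule K (End K U))
    (hM : ∀ x, x ∈ M ↔ T * x = ω ^ g.val • (x * T) ∧ B * x = γ ^ h.val • (x * B)) :
    Module.finrank K M =
      (Finset.univ.filter fun kl : ι × ι => φ kl.1 = g + φ kl.2 ∧ ψ kl.1 = h + ψ kl.2).card := by
  classical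
  set P := Finset.univ.filter fun kl : ι × ι => φ kl.1 = g + φ kl.2 ∧ ψ kl.1 = h + ψ kl.2
  have hvan : ∀ x ∈ M, ∀ k l, (k, l) ∉ P → v.coord k (x (v l)) = 0 := by
    intro x hx k l hkl
    obtain ⟨h1, h2⟩ := (hM x).mp hx
    by_contra hne
    apply hkl
    have e1 := congrArg (v.coord k) (LinearMap.congr_fun h1 (v l))
    rw [Module.End.mul_apply, coord_of_eigenbasis v hT, LinearMap.smul_apply, Module.End.mul_apply, hT,
      map_smul, map_smul, map_smul, smul_smul, smul_eq_mul, ← root_pow_val_add hω.pow_eq_one] at e1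
    have e2 := congrArg (v.coord k) (LinearMap.congr_fun h2 (v l))
    rw [Module.End.mul_apply, coord_of_eigenbasis v hB, LinearMap.smul_apply, Module.End.mul_apply, hB,
      map_smul, map_smul, map_smul, smul_smul, smul_eq_mul, ← root_pow_val_add hγ.pow_eq_one] at e2
    simp only [P, Finset.mem_filter, Finset.mem_univ, true_and]
    exact ⟨root_pow_val_injective hω (mul_right_cancel₀ hne e1),
      root_pow_val_injective hγ (mul_right_cancel₀ hne e2)⟩
  obtain ⟨mk, hmk⟩ : ∃ mk : (P → K) → End K U, ∀ c k l,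
      v.coord k (mk c (v l)) = if hkl : (k, l) ∈ P then c ⟨_, hkl⟩ else 0 := by
    refine ⟨fun c => v.constr K fun l => ∑ k, (if hkl : (k, l) ∈ P then c ⟨_, hkl⟩ else 0) • v k, fun c k l => ?_⟩
    simp only [v.constr_basis, map_sum, map_smul, Module.Basis.coord_apply, v.repr_self,
      Finsupp.single_apply, smul_eq_mul, mul_ite, mul_one, mul_zero, Finset.sum_ite_eq', Finset.mem_univ,
      if_true]
  have hmem : ∀ c, mk c ∈ M := by
    intro c
    have key : ∀ {n : ℕ} [NeZero n] {ξ : K} (_ : ξ ^ n = 1) (A : End K U) (χ : ι → ZMod n) (d : ZMod n),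
        (∀ i, A (v i) = ξ ^ (χ i).val • v i) → (∀ kl ∈ P, χ kl.1 = d + χ kl.2) →
        A * mk c = ξ ^ d.val • (mk c * A) := by
      intro n _ ξ hξ A χ d hA hd
      refine v.ext fun l => v.ext_elem fun k => ?_
      show v.coord k ((A * mk c) (v l)) = v.coord k ((ξ ^ d.val • (mk c * A)) (v l))
      rw [Module.End.mul_apply, LinearMap.smul_apply, Module.End.mul_apply, hA, map_smul (mk c),
        smul_smul, map_smul, smul_eq_mul, coord_of_eigenbasis v hA, hmk]
      by_cases hkl : (k, l) ∈ P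
      · rw [hd _ hkl, root_pow_val_add hξ]
      · rw [dif_neg hkl, mul_zero, mul_zero]
    refine (hM _).mpr ⟨key hω.pow_eq_one T φ g hT ?_, key hγ.pow_eq_one B ψ h hB ?_⟩ <;> intro kl hkl <;>
      simp only [P, Finset.mem_filter] at hkl
    · exact hkl.2.1
    · exact hkl.2.2
  let e : M ≃ₗ[K] (P → K) :=
    { toFun := fun x kl => v.coord kl.1.1 ((x : End K U) (v kl.1.2))
      map_add' := fun x y => funext fun kl => by simp
      map_smul' := fun a x => funext fun kl => by simp
      invFun := fun c => ⟨mk c, hmem c⟩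
      left_inv := fun x => Subtype.ext (v.ext fun l => v.ext_elem fun k => by
        rw [← Module.Basis.coord_apply, ← Module.Basis.coord_apply, hmk]
        split_ifs with hkl
        · rfl
        · exact (hvan x x.2 k l hkl).symm)
      right_inv := fun c => funext fun kl => by
        show v.coord kl.1.1 (mk c (v kl.1.2)) = c kl
        rw [hmk, dif_pos kl.2] }
  rw [e.finrank_eq, Module.finrank_fintype_fun_eq_card, Fintype.card_coe]

variable {V ι : Type*} [AddCommGroup V] [Module K V] {e : Module.Basis ι K V}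

/-- Twisting along free orbits changes the eigenvalue. -/
theorem finrank_eigen_supp_twist [Finite ι] {L : End K V} {π : Equiv.Perm ι} (hL : IsMono e L π) {r : ℕ}
    (hr : 0 < r) (hπ : π ^ r = 1) (S : Set ι) (hS : ∀ a, π a ∈ S ↔ a ∈ S)
    (hfree : ∀ a ∈ S, ∀ i, 0 < i → i < r → (π ^ i) a ≠ a) {η : K} (hη : η ^ r = 1) (κ : K) :
    Module.finrank K ↥(L.eigenspace κ ⊓ suppSpace e S) =
      Module.finrank K ↥(L.eigenspace (κ * η) ⊓ suppSpace e S) := by
  classical
  obtain ⟨h, hh⟩ := exists_phase π hr hπ S hfree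
  have main : ∀ {η : K} (_ : η ^ r = 1) (κ : K) (x : V), x ∈ L.eigenspace κ ⊓ suppSpace e S →
      diag e (fun a => if a ∈ S then η⁻¹ ^ h a else 0) x ∈ L.eigenspace (κ * η) ⊓ suppSpace e S := by
    intro η hη κ x hx
    refine ⟨?_, diag_mem_suppSpace (fun a ha => if_neg ha) x⟩
    have h1 := hx.1
    simp only [SetLike.mem_coe, Module.End.mem_eigenspace_iff] at h1 ⊢
    have hη0 : η ≠ 0 := fun e' => zero_ne_one (α := K) (by rw [← hη, e', zero_pow hr.ne'])
    have hstep : ∀ a, (η • fun a => if a ∈ S then η⁻¹ ^ h a else (0 : K)) (π a) =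
        if a ∈ S then η⁻¹ ^ h a else 0 := by
      intro a
      rw [Pi.smul_apply, smul_eq_mul]
      by_cases ha : a ∈ S
      · rw [if_pos ha, if_pos ((hS a).mpr ha)]
        have h2 := hh a ha 1
        rw [pow_one] at h2
        rw [pow_eq_pow_mod (n := r) (h (π a)) (by rw [inv_pow, hη, inv_one]), h2,
          ← pow_eq_pow_mod _ (by rw [inv_pow, hη, inv_one]), pow_succ, mul_comm _ η⁻¹, mul_inv_cancel_left₀ hη0]
      · rw [if_neg ha, if_neg (fun e' => ha ((hS a).mp e')), mul_zero]
    rw [hL.diag_comm hstep, diag_smul, h1, map_smul, smul_smul, mul_comm]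
  have inv : ∀ {η : K} (_ : η ^ r = 1) (x : V), x ∈ suppSpace e S →
      diag e (fun a => if a ∈ S then η ^ h a else 0) (diag e (fun a => if a ∈ S then η⁻¹ ^ h a else 0) x) = x := by
    intro η hη x hx
    have hη0 : η ≠ 0 := fun e' => zero_ne_one (α := K) (by rw [← hη, e', zero_pow hr.ne'])
    rw [diag_mul, diag_eq_of_mem_suppSpace (g := 1) ?_ hx, diag_one]
    intro a ha
    rw [Pi.mul_apply, if_pos ha, if_pos ha, ← mul_pow, mul_inv_cancel₀ hη0, one_pow, Pi.one_apply]
  have hη' : η⁻¹ ^ r = 1 := by rw [inv_pow, hη, inv_one]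
  have hη0 : η ≠ 0 := fun e' => zero_ne_one (α := K) (by rw [← hη, e', zero_pow hr.ne'])
  refine LinearEquiv.finrank_eq
    { toFun := fun x => ⟨_, main hη κ x x.2⟩
      map_add' := fun x y => Subtype.ext (map_add _ _ _)
      map_smul' := fun c x => Subtype.ext (map_smul _ _ _)
      invFun := fun x => ⟨diag e (fun a => if a ∈ S then η ^ h a else 0) x, by
        have h1 := main hη' (κ * η) x x.2
        rwa [inv_inv, mul_assoc, mul_inv_cancel₀ hη0, mul_one] at h1⟩
      left_inv := fun x => Subtype.ext (inv hη x x.2.2)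
      right_inv := fun x => Subtype.ext (by
        have h1 := inv hη' x x.2.2
        rwa [inv_inv] at h1) }

/-- The fixed vectors supported on free orbits fill at most the `r`-th part of the support. -/
theorem mul_finrank_fixed_le [Finite ι] {L : End K V} {π : Equiv.Perm ι} (hL : IsMono e L π) {r : ℕ}
    {ω : K} (hω : IsPrimitiveRoot ω r) (hr : 0 < r) (hπ : π ^ r = 1) (S : Finset ι)
    (hS : ∀ a, π a ∈ S ↔ a ∈ S) (hfree : ∀ a ∈ S, ∀ i, 0 < i → i < r → (π ^ i) a ≠ a) :
    r * Module.finrank K ↥(L.eigenspace 1 ⊓ suppSpace e (S : Set ι)) ≤ S.card := by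
  classical
  haveI := Fintype.ofFinite ι
  haveI : FiniteDimensional K V := e.finiteDimensional_of_finite
  let E : Fin r → Submodule K V := fun g => L.eigenspace (1 * ω ^ (g : ℕ)) ⊓ suppSpace e (S : Set ι)
  have hdim : ∀ g, Module.finrank K (E g) =
      Module.finrank K ↥(L.eigenspace 1 ⊓ suppSpace e (S : Set ι)) := fun g =>
    (finrank_eigen_supp_twist hL hr hπ _ hS hfree
      (by rw [← pow_mul, mul_comm, pow_mul, hω.pow_eq_one, one_pow]) 1).symm
  have hind : iSupIndep E := by
    refine iSupIndep.mono ((Module.End.eigenspaces_iSupIndep L).comp ?_) (fun g => inf_le_left)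
    intro a b hab
    simp only [one_mul] at hab
    exact Fin.ext (hω.pow_inj a.2 b.2 hab)
  have hΦ : Function.Injective (DirectSum.coeLinearMap E) :=
    (iSupIndep.dfinsupp_lsum_injective hind)
  have hle : ∀ g, E g ≤ suppSpace e (S : Set ι) := fun g => inf_le_right
  have h1 : Module.finrank K (DirectSum (Fin r) fun g => E g) ≤ Module.finrank K (suppSpace e (S : Set ι)) := by
    refine LinearMap.finrank_le_finrank_of_injective
      (f := (DirectSum.coeLinearMap E).codRestrict (suppSpace e (S : Set ι)) fun x => ?_) ?_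
    · exact (iSup_le hle) (DirectSum.range_coeLinearMap (A := E) ▸ LinearMap.mem_range_self _ x)
    · intro a b hab
      exact hΦ (congrArg Subtype.val hab)
  rw [Module.finrank_directSum, Finset.sum_congr rfl fun g _ => hdim g, Finset.sum_const, Finset.card_univ,
    Fintype.card_fin, smul_eq_mul] at h1
  exact h1.trans (finrank_suppSpace_le S)

/-- A nearly regular autocorrelation forces all values but one to be equal. -/
theorem exists_distribution {r : ℕ} [hr : Fact r.Prime] (n : ZMod r → ℕ)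
    (h : ∀ g : ZMod r, g ≠ 0 → ∑ f, n f * n f = (∑ f, n (g + f) * n f) + 1) :
    ∃ (e : ZMod r) (l : ℕ), (∀ f, f ≠ e → n f = l) ∧ (n e = l + 1 ∨ n e + 1 = l) := by
  classical
  obtain ⟨f0, -, hf0⟩ := Finset.exists_min_image Finset.univ n Finset.univ_nonempty
  have hsum : ∀ g : ZMod r, g ≠ 0 → ∑ f, ((n (g + f) : ℤ) - n f) ^ 2 = 2 := by
    intro g hg
    have h1 : (∑ f, (n f : ℤ) * n f) = (∑ f, (n (g + f) : ℤ) * n f) + 1 := by exact_mod_cast h g hg
    have h2 : ∑ f, (n (g + f) : ℤ) ^ 2 = ∑ f, (n f : ℤ) * n f := by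
      rw [← Equiv.sum_comp (Equiv.addLeft g) fun f => (n f : ℤ) * n f]
      exact Finset.sum_congr rfl fun f _ => by rw [Equiv.coe_addLeft, sq]
    simp only [sub_sq, Finset.sum_add_distrib, Finset.sum_sub_distrib, h2]
    have h3 : ∑ f, 2 * (n (g + f) : ℤ) * n f = 2 * ∑ f, (n (g + f) : ℤ) * n f := by
      rw [Finset.mul_sum]; exact Finset.sum_congr rfl fun f _ => mul_assoc _ _ _
    have h4 : ∑ f, (n f : ℤ) ^ 2 = ∑ f, (n f : ℤ) * n f := Finset.sum_congr rfl fun f _ => sq _
    rw [h3, h4]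
    linarith
  have hb : ∀ f, n f = n f0 ∨ n f = n f0 + 1 := by
    intro f
    rcases eq_or_ne f f0 with rfl | hne
    · exact Or.inl rfl
    have h1 := hsum (f - f0) (sub_ne_zero.mpr hne)
    have h2 : ((n f : ℤ) - n f0) ^ 2 ≤ 2 := by
      rw [← h1]
      refine le_trans (le_of_eq ?_) (Finset.single_le_sum (fun f _ => sq_nonneg _) (Finset.mem_univ f0))
      rw [sub_add_cancel]
    have h3 := hf0 f (Finset.mem_univ f)
    have h4 : (n f : ℤ) - n f0 ≤ 1 := by nlinarith
    omega
  let b : ZMod r → ℤ := fun f => (n f : ℤ) - n f0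
  have hb01 : ∀ f, b f * b f = b f := fun f => by
    rcases hb f with h1 | h1 <;> simp [b, h1]
  set m : ℤ := ∑ f, b f with hm
  have hcount : (m - 1) * ((r : ℤ) - 1 - m) = 0 := by
    have h1 : ∑ g : ZMod r, ∑ f, (b (g + f) - b f) ^ 2 = ∑ g : ZMod r, if g = 0 then (0 : ℤ) else 2 := by
      refine Finset.sum_congr rfl fun g _ => ?_
      split_ifs with hg
      · simp [hg]
      · rw [← hsum g hg]
        exact Finset.sum_congr rfl fun f _ => by simp [b]
    have h2 : ∑ g : ZMod r, ∑ f, (b (g + f) - b f) ^ 2 = 2 * (r : ℤ) * m - 2 * m * m := by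
      rw [Finset.sum_comm]
      have h3 : ∀ f, ∑ g, (b (g + f) - b f) ^ 2 = m + (r : ℤ) * b f - 2 * b f * m := by
        intro f
        rw [show (∑ g, (b (g + f) - b f) ^ 2) = ∑ x, (b x - b f) ^ 2 from
          Equiv.sum_comp (Equiv.addRight f) fun x => (b x - b f) ^ 2]
        have h4 : ∀ x, (b x - b f) ^ 2 = b x + b f - 2 * b f * b x := fun x => by
          rw [sub_sq, sq, sq, hb01, hb01]; ring
        rw [Finset.sum_congr rfl fun x _ => h4 x, Finset.sum_sub_distrib, Finset.sum_add_distrib, Finset.sum_const,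
          Finset.card_univ, ZMod.card, nsmul_eq_mul, ← Finset.mul_sum]
      rw [Finset.sum_congr rfl fun f _ => h3 f, Finset.sum_sub_distrib, Finset.sum_add_distrib, Finset.sum_const,
        Finset.card_univ, ZMod.card, ← Finset.mul_sum, ← Finset.sum_mul, ← Finset.mul_sum, nsmul_eq_mul, ← hm]
      ring
    have h5 : (∑ g : ZMod r, if g = 0 then (0 : ℤ) else 2) = 2 * ((r : ℤ) - 1) := by
      have h6 : ∀ g : ZMod r, (if g = 0 then (0 : ℤ) else 2) = 2 - if g = 0 then 2 else 0 := fun g => by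
        split_ifs <;> ring
      rw [Finset.sum_congr rfl fun g _ => h6 g, Finset.sum_sub_distrib, Finset.sum_const, Finset.card_univ,
        ZMod.card, Finset.sum_ite_eq', if_pos (Finset.mem_univ _), nsmul_eq_mul]
      ring
    rw [h2, h5] at h1
    linarith
  have hb0 : ∀ f, 0 ≤ b f ∧ b f ≤ 1 := fun f => by
    rcases hb f with h1 | h1 <;> simp [b, h1]
  have pick : ∀ (a : ZMod r → ℤ), (∀ f, 0 ≤ a f ∧ a f ≤ 1) → ∑ f, a f = 1 → ∃ e, a e = 1 ∧ ∀ f, f ≠ e → a f = 0 := by
    intro a ha hsum1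
    obtain ⟨e, he⟩ : ∃ e, a e = 1 := by
      by_contra hcon
      push Not at hcon
      rw [Finset.sum_eq_zero (fun f _ => ?_)] at hsum1
      · exact zero_ne_one hsum1
      · have := ha f; have := hcon f; omega
    refine ⟨e, he, fun f hf => ?_⟩
    have h1 := Finset.sum_le_sum_of_subset_of_nonneg (Finset.subset_univ {e, f}) fun i _ _ => (ha i).1
    rw [Finset.sum_pair hf.symm, hsum1, he] at h1
    have := (ha f).1
    omega
  rcases mul_eq_zero.mp hcount with h1 | h1
  · obtain ⟨e, he, hne⟩ := pick b hb0 (by rw [← hm]; omega)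
    refine ⟨e, n f0, fun f hf => ?_, Or.inl ?_⟩
    · have := hne f hf; simp only [b] at this; omega
    · simp only [b] at he; omega
  · obtain ⟨e, he, hne⟩ := pick (fun f => 1 - b f) (fun f => ⟨by linarith [(hb0 f).2], by linarith [(hb0 f).1]⟩)
      (by rw [Finset.sum_sub_distrib, ← hm, Finset.sum_const, Finset.card_univ, ZMod.card, nsmul_eq_mul,
        mul_one]; omega)
    refine ⟨e, n f0 + 1, fun f hf => ?_, Or.inr ?_⟩
    · have := hne f hf; simp only [b] at this; omega
    · simp only [b] at he; omega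

end CfsgLib.Turull
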