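import Cfsg.Agent.Lib.Turull.Cyclic
import Mathlib.GroupTheory.Perm.Cycle.Type

/-!
# A group of fixed elements visible on a level moves some orbit sum
-/

set_option autoImplicit false
set_option linter.style.haveILetI false

namespace CfsgLib.Turull

open Module (End)
open scoped commutatorElement

variable {K W H : Type*} [Field K] [AddCommGroup W] [Module K W] [Group H] [Finite H]
  {ρ : H →* End K W} {s : H} {r : ℕ} {G0 : Subgroup H}

/-- The elements acting trivially on `T` modulo `N`. -/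
def twistSub (T N : Subgroup H) [T.Normal] [N.Normal] : Subgroup H where
  carrier := {g | ∀ t ∈ T, t⁻¹ * (g * t * g⁻¹) ∈ N}
  one_mem' := fun t _ => by simp
  mul_mem' := fun {a b} ha hb t ht => by
    have e : t⁻¹ * (a * b * t * (a * b)⁻¹) =
        (t⁻¹ * (a * t * a⁻¹)) * (a * (t⁻¹ * (b * t * b⁻¹)) * a⁻¹) := by group
    rw [e]
    exact N.mul_mem (ha t ht) ((inferInstance : N.Normal).conj_mem _ (hb t ht) a)
  inv_mem' := fun {a} ha t ht => by
    have h := ha (a⁻¹ * t * a) ((inferInstance : T.Normal).conj_mem' t ht a)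
    have e : t⁻¹ * (a⁻¹ * t * a⁻¹⁻¹) = ((a⁻¹ * t * a)⁻¹ * (a * (a⁻¹ * t * a) * a⁻¹))⁻¹ := by group
    rw [e]
    exact N.inv_mem h

/-- Equal orbits of cosets, one of which is translated, have the same subgroup. -/
theorem mem_of_orbit_translate {r p : ℕ} (hp : p.Prime) (hr : ¬ p ∣ r) {M : Subgroup H} {h : H}
    (hh : h ∈ Subgroup.normalizer (M : Set H)) {n : ℕ} (hpow : h ^ p ^ n ∈ M) (x : Fin r → H)
    (hinj : ∀ i j, (x i)⁻¹ * x j ∈ M → i = j) (hmap : ∀ i, ∃ j, (x j)⁻¹ * (x i * h) ∈ M) : h ∈ M := by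
  haveI : Fact p.Prime := ⟨hp⟩
  choose f hf using hmap
  have hfi : Function.Injective f := by
    intro i j e
    refine hinj i j ?_
    have h1 := M.mul_mem (M.inv_mem (hf i)) (e ▸ hf j)
    have h2 : h * (((x (f i))⁻¹ * (x i * h))⁻¹ * ((x (f i))⁻¹ * (x j * h))) * h⁻¹ ∈ M :=
      (mem_normalizer_conj_iff hh).mpr h1
    rwa [show h * (((x (f i))⁻¹ * (x i * h))⁻¹ * ((x (f i))⁻¹ * (x j * h))) * h⁻¹ = (x i)⁻¹ * x j by group] at h2
  let σ : Equiv.Perm (Fin r) := Equiv.ofBijective f (Finite.injective_iff_bijective.mp hfi)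
  have hiter : ∀ (k : ℕ) (i : Fin r), (x ((σ ^ k) i))⁻¹ * (x i * h ^ k) ∈ M := by
    intro k
    induction k with
    | zero => intro i; simp
    | succ k ih =>
      intro i
      have e : (σ ^ (k + 1)) i = f ((σ ^ k) i) := by rw [pow_succ', Equiv.Perm.mul_apply]; rfl
      rw [e]
      have h1 := hf ((σ ^ k) i)
      have h2 : h⁻¹ * ((x ((σ ^ k) i))⁻¹ * (x i * h ^ k)) * h⁻¹⁻¹ ∈ M :=
        (mem_normalizer_conj_iff (Subgroup.inv_mem _ hh)).mpr (ih i)
      have h3 := M.mul_mem h1 h2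
      rwa [show (x (f ((σ ^ k) i)))⁻¹ * (x ((σ ^ k) i) * h) *
        (h⁻¹ * ((x ((σ ^ k) i))⁻¹ * (x i * h ^ k)) * h⁻¹⁻¹) = (x (f ((σ ^ k) i)))⁻¹ * (x i * h ^ (k + 1)) by
          rw [pow_succ]; group] at h3
  have hσ : σ ^ p ^ n = 1 := Equiv.ext fun i => hinj _ _ (by
    have h1 := M.mul_mem (hiter (p ^ n) i) (M.inv_mem hpow)
    rwa [show (x ((σ ^ p ^ n) i))⁻¹ * (x i * h ^ p ^ n) * (h ^ p ^ n)⁻¹ = (x ((σ ^ p ^ n) i))⁻¹ * x i by
      group] at h1)
  obtain ⟨i, hi⟩ := Equiv.Perm.exists_fixed_point_of_prime (n := n) (by rwa [Fintype.card_fin]) hσ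
  have h1 := hf i
  rwa [show f i = i from hi, inv_mul_cancel_left] at h1

variable {T Phi : Subgroup H} [T.Normal] [Phi.Normal] {p : ℕ} {S : Set W}

namespace Lev

variable (h : Lev ρ s r G0 T Phi p S)
include h

omit [Phi.Normal] in
theorem not_dvd_card : ¬ r ∣ Nat.card T := fun hd => h.ctx.cop (hd.trans (Subgroup.card_dvd_of_le h.le))

omit [Phi.Normal] in
theorem fixed_twist_mem (hfpf : ∀ x ∈ T, s * x = x * s → x ∈ Phi) {A : Subgroup H} (hA : A ≤ T) (hP : Phi ≤ A)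
    (hsA : s ∈ Subgroup.normalizer (A : Set H)) {y : H} (hy : y ∈ T) (hyA : y⁻¹ * (s * y * s⁻¹) ∈ A) : y ∈ A := by
  obtain ⟨z, hz, hzs, hxz⟩ := h.ctx.exists_fixed_rep h.le
    (by rw [Subgroup.normalizer_eq_top]; exact Subgroup.mem_top s) hA hsA hy hyA
  have h2 := A.mul_mem (hP (hfpf z hz hzs)) (A.inv_mem hxz)
  rwa [show z * (y⁻¹ * z)⁻¹ = y by group] at h2

omit [T.Normal] [Phi.Normal] in
theorem rho_commutator_scalar {ζ : Phi →* K} {a b : H} (ha : a ∈ T) (hb : b ∈ T) {w : W}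
    (hw : w ∈ eig ρ Phi ζ) : ρ ⁅a, b⁆ w = ζ ⟨_, h.comm a ha b hb⟩ • w := hw ⟨_, h.comm a ha b hb⟩

/-- Conjugates by powers of `s` of an element outside lie in different cosets. -/
theorem dvd_of_pow_twist_mem (hfpf : ∀ x ∈ T, s * x = x * s → x ∈ Phi) {A : Subgroup H} (hA : A ≤ T) (hP : Phi ≤ A)
    (hsA : s ∈ Subgroup.normalizer (A : Set H)) {x : H} (hx : x ∈ T) (hxA : x ∉ A) {k : ℕ}
    (hk : x⁻¹ * (s ^ k * x * (s ^ k)⁻¹) ∈ A) : r ∣ k := by
  by_contra hd
  rw [← pow_mod_eq h.ctx] at hk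
  exact hxA (h.fixed_twist_mem hfpf hA hP hsA hx (h.ctx.twist_mem_of_pow hsA
    (Nat.pos_of_ne_zero fun e => hd (Nat.dvd_of_mod_eq_zero e)) (Nat.mod_lt _ h.ctx.prime.pos) hk))

/-- The cosets of the conjugates are distinct. -/
theorem conj_pow_injective (hfpf : ∀ x ∈ T, s * x = x * s → x ∈ Phi) {A : Subgroup H} (hA : A ≤ T) (hP : Phi ≤ A)
    (hsA : s ∈ Subgroup.normalizer (A : Set H)) {x : H} (hx : x ∈ T) (hxA : x ∉ A) (i j : Fin r)
    (hij : (s ^ (i : ℕ) * x * (s ^ (i : ℕ))⁻¹)⁻¹ * (s ^ (j : ℕ) * x * (s ^ (j : ℕ))⁻¹) ∈ A) : i = j := by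
  have key : ∀ a c : ℕ, a < c → c < r →
      (s ^ a * x * (s ^ a)⁻¹)⁻¹ * (s ^ c * x * (s ^ c)⁻¹) ∈ A → False := by
    intro a c hac hcr h3
    obtain ⟨d, rfl⟩ := Nat.exists_eq_add_of_lt hac
    rw [show (s ^ a * x * (s ^ a)⁻¹)⁻¹ * (s ^ (a + d + 1) * x * (s ^ (a + d + 1))⁻¹) =
      s ^ a * (x⁻¹ * (s ^ (d + 1) * x * (s ^ (d + 1))⁻¹)) * (s ^ a)⁻¹ by rw [add_assoc a, pow_add]; group,
      mem_normalizer_conj_iff (Subgroup.pow_mem _ hsA a)] at h3
    have := Nat.le_of_dvd (by omega) (h.dvd_of_pow_twist_mem hfpf hA hP hsA hx hxA h3)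
    omega
  rcases lt_trichotomy (i : ℕ) j with hlt | heq | hgt
  · exact (key i j hlt j.2 hij).elim
  · exact Fin.ext heq
  · refine (key j i hgt i.2 ?_).elim
    have h1 := A.inv_mem hij
    rwa [mul_inv_rev, inv_inv] at h1

variable [IsAlgClosed K] [FiniteDimensional K W]

/-- An element fixing the orbit sums fixes every fixed vector of a component it preserves. -/
theorem rho_fixed_of_component (hfpf : ∀ x ∈ T, s * x = x * s → x ∈ Phi) (B : Subgroup H) (hBG : B ≤ G0)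
    (hBs : ∀ b ∈ B, s * b = b * s)
    (hTB : ∀ X : Subgroup H, X ≤ T → Phi ≤ X → (∀ b ∈ B, ∀ t ∈ T, t⁻¹ * (b * t * b⁻¹) ∈ X) → T ≤ X)
    (hfix : ∀ b ∈ B, Fixes ρ s r S b) {ζ : Phi →* K} (hζ : conjChar s ζ = ζ)
    (hBζ : ∀ b ∈ B, conjChar b ζ = ζ) :
    ∀ b ∈ B, ∀ w ∈ eig ρ Phi ζ, ρ s w = w → ρ b w = w := by
  classical
  set P := proj ρ Phi ζ with hP
  set X0 : Submodule K W := Submodule.span K {a | ∃ v ∈ S, ρ s v ≠ v ∧ P (avg ρ s r v) = a} with hX0
  have hPs : ∀ w, P (ρ s w) = ρ s (P w) := fun w => proj_rho_of_fixed hζ w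
  have hPb : ∀ b ∈ B, ∀ w, P (ρ b w) = ρ b (P w) := fun b hb w => proj_rho_of_fixed (hBζ b hb) w
  have hbX0 : ∀ b ∈ B, ∀ a ∈ X0, ρ b a = a := by
    intro b hb a ha
    induction ha using Submodule.span_induction with
    | mem x hx =>
      obtain ⟨v, hv, hvs, rfl⟩ := hx
      rw [← hPb b hb, hfix b hb v hv hvs]
    | zero => rw [map_zero]
    | add x y _ _ hx hy => rw [map_add, hx, hy]
    | smul k x _ hx => rw [map_smul, hx]
  suffices hkey : ∀ u ∈ S, ρ s u = u → P u ∈ X0 by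
    intro b hb w hw hws
    have hle : LinearMap.range (P ∘ₗ avg ρ s r) ≤ X0 := by
      rw [LinearMap.range_eq_map, ← h.span, Submodule.map_span, Submodule.span_le]
      rintro _ ⟨u, hu, rfl⟩
      by_cases hus : ρ s u = u
      · rw [LinearMap.comp_apply, avg_of_fixed hus, map_smul]
        exact X0.smul_mem _ (hkey u hu hus)
      · exact Submodule.subset_span ⟨u, hu, hus, rfl⟩
    have h1 := hbX0 b hb _ (hle ⟨w, rfl⟩)
    rw [LinearMap.comp_apply, avg_of_fixed hws, map_smul, map_smul, hP, proj_eq_self h.phi_card hw] at h1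
    exact smul_right_injective W h.rK h1
  intro u huS hus
  by_contra ha
  set a := P u with hadef
  have hsa : ρ s a = a := by rw [hadef, ← hPs, hus]
  have ha0 : a ≠ 0 := fun e => ha (e ▸ zero_mem X0)
  set M := lineStab ρ T a with hM
  obtain ⟨hPM, hTM⟩ := h.normalizer_lineStab (a := a) (proj_mem_eig ζ u)
  have hsM : s ∈ Subgroup.normalizer (M : Set H) := lineStab_mem_normalizer hsa
  have hMT : M ≤ T := fun x hx => hx.1
  refine ha0 (h.eq_zero_of_twists_line hfpf hsa fun t ht => ?_)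
  have hle : T ≤ M := hTB M hMT hPM fun b hb x hxT => by
    -- the image of the line
    set u' := ρ b u with hu'
    have hu's : ρ s u' = u' := by rw [hu', ← rho_mul_apply, hBs b hb, rho_mul_apply, hus]
    set a' := P u' with ha'def
    have ha' : a' = ρ b a := by rw [ha'def, hu', hPb b hb]
    have hsa' : ρ s a' = a' := by rw [ha'def, ← hPs, hu's]
    have ha'X : a' ∉ X0 := fun e => ha (by
      have h1 := hbX0 b hb _ e
      rw [ha'] at h1 e
      have h2 : ρ b⁻¹ (ρ b (ρ b a)) = ρ b⁻¹ (ρ b a) := congrArg (ρ b⁻¹) h1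
      rw [rho_inv_apply, rho_inv_apply] at h2
      rwa [h2] at e)
    obtain ⟨f, hf0, hfa, hfa'⟩ : ∃ f : W →ₗ[K] K, (∀ z ∈ X0, f z = 0) ∧ f a ≠ 0 ∧ f a' ≠ 0 := by
      obtain ⟨f1, h1, h1'⟩ := Submodule.exists_dual_map_eq_bot_of_notMem ha inferInstance
      obtain ⟨f2, h2, h2'⟩ := Submodule.exists_dual_map_eq_bot_of_notMem ha'X inferInstance
      rw [← le_bot_iff, Submodule.map_le_iff_le_comap, Submodule.comap_bot] at h1' h2'
      by_cases e1 : f1 a' = 0
      · by_cases e2 : f2 a = 0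
        · refine ⟨f1 + f2, fun z hz => ?_, ?_, ?_⟩
          · rw [LinearMap.add_apply, LinearMap.mem_ker.mp (h1' hz), LinearMap.mem_ker.mp (h2' hz), add_zero]
          · rwa [LinearMap.add_apply, e2, add_zero]
          · rwa [LinearMap.add_apply, e1, zero_add]
        · exact ⟨f2, fun z hz => LinearMap.mem_ker.mp (h2' hz), e2, h2⟩
      · exact ⟨f1, fun z hz => LinearMap.mem_ker.mp (h1' hz), h1, e1⟩
    set g : W →ₗ[K] K := f ∘ₗ P ∘ₗ avg ρ s r with hg
    have hdet : ∀ v, ρ s v = v → v ∈ S → f (P v) ≠ 0 → ∀ y ∈ T,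
        (g (ρ y v) ≠ 0 ↔ y ∈ lineStab ρ T (P v)) := by
      intro v hvs hvS hfv y hy
      constructor
      · intro hgy
        by_contra hy'
        apply hgy
        have hyv : ρ s (ρ y v) ≠ ρ y v := by
          intro e
          refine hy' (h.fixed_twist_mem hfpf (A := lineStab ρ T (P v)) (fun x hx => hx.1)
            (h.normalizer_lineStab (proj_mem_eig ζ v)).1
            (lineStab_mem_normalizer (by rw [← hPs, hvs])) hy ?_)
          have htw : y⁻¹ * (s * y * s⁻¹) ∈ T :=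
            T.mul_mem (T.inv_mem hy) ((inferInstance : T.Normal).conj_mem y hy s)
          refine mem_lineStab.mpr ⟨htw, 1, ?_⟩
          have hvs' : ρ s⁻¹ v = v := by
            conv_lhs => rw [← hvs]
            rw [rho_inv_apply]
          rw [one_smul, hP, ← h.proj_apply_comm htw, rho_mul_apply, rho_mul_apply, rho_mul_apply, hvs', e,
            rho_inv_apply]
        exact hf0 _ (Submodule.subset_span ⟨_, h.stable y v hvS, hyv, rfl⟩)
      · intro hy'
        obtain ⟨-, k, hk⟩ := mem_lineStab.mp hy'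
        have hk0 : k ≠ 0 := fun e => hfv (by
          rw [rho_eq_zero y (by rw [← hk, e, zero_smul] : ρ y (P v) = 0), map_zero])
        show f (P (avg ρ s r (ρ y v))) ≠ 0
        rw [map_avg_comm P hPs, hP, h.proj_apply_comm hy, ← hP, ← hk, map_smul, avg_of_fixed (by
          rw [← hPs, hvs]), map_smul, map_smul, smul_eq_mul, smul_eq_mul]
        exact mul_ne_zero hk0 (mul_ne_zero h.rK hfv)
    have hu'S : u' ∈ S := h.stable b u huS
    set M' := lineStab ρ T a'
    have hM'conj : ∀ z ∈ M, b * z * b⁻¹ ∈ M' := fun z hz => by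
      obtain ⟨hzT, k, hk⟩ := mem_lineStab.mp hz
      refine mem_lineStab.mpr ⟨(inferInstance : T.Normal).conj_mem z hzT b, k, ?_⟩
      rw [ha', rho_mul_apply, rho_mul_apply, rho_inv_apply, ← hk, map_smul]
    haveI : Fact p.Prime := ⟨h.prime⟩
    obtain ⟨N, hN⟩ := IsPGroup.iff_card.mp h.pgroup
    -- the two orbits
    have horb : ∀ x ∈ T, x ∉ M → (∀ y ∈ T, (∃ i : Fin r, y⁻¹ * (s ^ (i : ℕ) * x * (s ^ (i : ℕ))⁻¹) ∈ M) ↔
        ∃ i : Fin r, y⁻¹ * (s ^ (i : ℕ) * (b * x * b⁻¹) * (s ^ (i : ℕ))⁻¹) ∈ M') := by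
      intro x hx hxM y hy
      set x' := b * x * b⁻¹
      have hx' : x' ∈ T := (inferInstance : T.Normal).conj_mem x hx b
      have hsum : ∀ v, ρ s v = v → ∀ z, g (ρ y⁻¹ (avg ρ s r (ρ z v))) =
          ∑ i : Fin r, g (ρ (y⁻¹ * (s ^ (i : ℕ) * z * (s ^ (i : ℕ))⁻¹)) v) := by
        intro v hv z
        rw [avg_apply, map_sum, map_sum, Finset.sum_range]
        refine Finset.sum_congr rfl fun i _ => ?_
        have hsi : ρ (s ^ (i : ℕ))⁻¹ v = v := by
          conv_lhs => rw [← rho_pow_fixed hv i]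
          rw [rho_inv_apply]
        rw [rho_mul_apply, rho_mul_apply, rho_mul_apply, hsi]
      have hiff : ∀ v, ρ s v = v → v ∈ S → f (P v) ≠ 0 → ∀ z ∈ T, z ∉ lineStab ρ T (P v) →
          (g (ρ y⁻¹ (avg ρ s r (ρ z v))) ≠ 0 ↔
            ∃ i : Fin r, y⁻¹ * (s ^ (i : ℕ) * z * (s ^ (i : ℕ))⁻¹) ∈ lineStab ρ T (P v)) := by
        intro v hv hvS hfv z hz hzM
        have hsL : s ∈ Subgroup.normalizer (lineStab ρ T (P v) : Set H) :=
          lineStab_mem_normalizer (by rw [← hPs, hv])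
        have hmemT : ∀ i : Fin r, y⁻¹ * (s ^ (i : ℕ) * z * (s ^ (i : ℕ))⁻¹) ∈ T := fun i =>
          T.mul_mem (T.inv_mem hy) ((inferInstance : T.Normal).conj_mem z hz _)
        rw [hsum v hv z]
        constructor
        · intro hne
          obtain ⟨i, -, hi⟩ := Finset.exists_ne_zero_of_sum_ne_zero hne
          exact ⟨i, (hdet v hv hvS hfv _ (hmemT i)).mp hi⟩
        · rintro ⟨i, hi⟩
          rw [Finset.sum_eq_single i]
          · exact (hdet v hv hvS hfv _ (hmemT i)).mpr hi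
          · intro j _ hji
            by_contra hj
            have hj' := (hdet v hv hvS hfv _ (hmemT j)).mp hj
            refine hji (h.conj_pow_injective hfpf (A := lineStab ρ T (P v)) (fun x hx => hx.1)
              (h.normalizer_lineStab (proj_mem_eig ζ v)).1 hsL hz hzM j i ?_)
            have h3 := (lineStab ρ T (P v)).mul_mem ((lineStab ρ T (P v)).inv_mem hj') hi
            rwa [show (y⁻¹ * (s ^ (j : ℕ) * z * (s ^ (j : ℕ))⁻¹))⁻¹ * (y⁻¹ * (s ^ (i : ℕ) * z * (s ^ (i : ℕ))⁻¹)) =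
              (s ^ (j : ℕ) * z * (s ^ (j : ℕ))⁻¹)⁻¹ * (s ^ (i : ℕ) * z * (s ^ (i : ℕ))⁻¹) by group] at h3
          · simp
      have hvec : avg ρ s r (ρ x' u') = avg ρ s r (ρ x u) := by
        have hmv : ρ s (ρ x u) ≠ ρ x u := by
          intro e
          refine hxM (h.fixed_twist_mem hfpf hMT hPM hsM hx ?_)
          have htw : x⁻¹ * (s * x * s⁻¹) ∈ T :=
            T.mul_mem (T.inv_mem hx) ((inferInstance : T.Normal).conj_mem x hx s)
          refine mem_lineStab.mpr ⟨htw, 1, ?_⟩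
          have hvs' : ρ s⁻¹ u = u := by
            conv_lhs => rw [← hus]
            rw [rho_inv_apply]
          rw [one_smul, hadef, hP, ← h.proj_apply_comm htw, rho_mul_apply, rho_mul_apply, rho_mul_apply, hvs', e,
            rho_inv_apply]
        rw [← hfix b hb _ (h.stable x u huS) hmv, rho_avg_comm (hBs b hb), hu', ← rho_mul_apply,
          ← rho_mul_apply, inv_mul_cancel_right]
      have hx'M : x' ∉ M' := fun e => hxM (by
        obtain ⟨-, k, hk⟩ := mem_lineStab.mp e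
        rw [ha', rho_mul_apply, rho_mul_apply, rho_inv_apply, ← map_smul] at hk
        refine mem_lineStab.mpr ⟨hx, k, ?_⟩
        have := congrArg (ρ b⁻¹) hk
        rwa [rho_inv_apply, rho_inv_apply] at this)
      rw [← hiff u hus huS hfa x hx hxM, ← hiff u' hu's hu'S hfa' x' hx' hx'M, hvec]
    -- the subgroups agree
    by_cases hall : T ≤ M
    · exact hall (T.mul_mem (T.inv_mem hxT) ((inferInstance : T.Normal).conj_mem x hxT b))
    obtain ⟨x0, hx0T, hx0M⟩ := SetLike.not_le_iff_exists.mp hall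
    have hrp : ¬ p ∣ r := fun hd => by
      obtain rfl := (Nat.prime_dvd_prime_iff_eq h.prime h.ctx.prime).mp hd
      refine h.not_dvd_card (hN ▸ dvd_pow_self p fun e => hx0M ?_)
      rw [e, pow_zero] at hN
      rw [Subgroup.eq_bot_of_card_eq T hN, Subgroup.mem_bot] at hx0T
      exact hx0T ▸ M.one_mem
    have hM'M : M' ≤ M := fun z hz => by
      have hzT : z ∈ T := hz.1
      refine mem_of_orbit_translate h.prime hrp (hTM hzT) (n := N) ?_
        (fun i => s ^ (i : ℕ) * x0 * (s ^ (i : ℕ))⁻¹)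
        (h.conj_pow_injective hfpf hMT hPM hsM hx0T hx0M) fun i => ?_
      · have h1 : (⟨z, hzT⟩ : T) ^ p ^ N = 1 := hN ▸ pow_card_eq_one'
        have h2 := congrArg Subtype.val h1
        simp only [Subgroup.coe_pow, Subgroup.coe_one] at h2
        rw [h2]
        exact M.one_mem
      · have hxi : s ^ (i : ℕ) * x0 * (s ^ (i : ℕ))⁻¹ ∈ T := (inferInstance : T.Normal).conj_mem x0 hx0T _
        obtain ⟨k, hk⟩ := (horb x0 hx0T hx0M _ hxi).mp ⟨i, by rw [inv_mul_cancel]; exact M.one_mem⟩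
        obtain ⟨j, hj⟩ := (horb x0 hx0T hx0M _ (T.mul_mem hxi hzT)).mpr ⟨k, by
          have h1 := M'.mul_mem (M'.inv_mem hz) hk
          rwa [← mul_assoc, ← mul_inv_rev] at h1⟩
        refine ⟨j, ?_⟩
        have h1 := M.inv_mem hj
        rwa [mul_inv_rev, inv_inv] at h1
    have hbM : b ∈ Subgroup.normalizer (M : Set H) :=
      CfsgLib.Coprime.mem_normalizer_of_forall_conj fun z hz => hM'M (hM'conj z hz)
    by_cases hxM : x ∈ M
    · exact M.mul_mem (M.inv_mem hxM) ((mem_normalizer_conj_iff hbM).mpr hxM)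
    obtain ⟨k, hk⟩ := (horb x hxT hxM x hxT).mp ⟨⟨0, h.ctx.prime.pos⟩, by simp⟩
    obtain ⟨e, he⟩ : ∃ e : ℕ, (s ^ e * x * (s ^ e)⁻¹)⁻¹ * (b * x * b⁻¹) ∈ M := by
      refine ⟨r - k, ?_⟩
      have h1 := (mem_normalizer_conj_iff (Subgroup.pow_mem _ hsM (r - k))).mpr (hM'M hk)
      have e1 : s ^ (r - (k : ℕ)) * s ^ (k : ℕ) = 1 := by
        rw [← pow_add, Nat.sub_add_cancel k.2.le, h.ctx.pow_eq]
      have e2 : s ^ (k : ℕ) = (s ^ (r - (k : ℕ)))⁻¹ := eq_inv_of_mul_eq_one_right e1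
      rw [e2] at h1
      simpa [mul_assoc] using h1
    have hiter : ∀ m, (s ^ (e * m) * x * (s ^ (e * m))⁻¹)⁻¹ * (b ^ m * x * (b ^ m)⁻¹) ∈ M := by
      intro m
      induction m with
      | zero => simp
      | succ m ih =>
        have h1 := (mem_normalizer_conj_iff hbM).mpr ih
        have h2 := (mem_normalizer_conj_iff (Subgroup.pow_mem _ hsM (e * m))).mpr he
        have h3 := M.mul_mem h2 h1
        have hcb := Ctx.conj_pow_eq (hBs b hb) (e * m)
        have hcb' : (s ^ (e * m))⁻¹ * b = b * (s ^ (e * m))⁻¹ := ((show Commute _ b from hcb).inv_left).eq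
        have eq1 : b * (s ^ (e * m) * x * (s ^ (e * m))⁻¹) * b⁻¹ = s ^ (e * m) * (b * x * b⁻¹) * (s ^ (e * m))⁻¹ := by
          calc b * (s ^ (e * m) * x * (s ^ (e * m))⁻¹) * b⁻¹
              = (b * s ^ (e * m)) * x * (b * s ^ (e * m))⁻¹ := by group
            _ = (s ^ (e * m) * b) * x * (s ^ (e * m) * b)⁻¹ := by rw [hcb]
            _ = _ := by group
        rw [mul_add, mul_one]
        convert h3 using 1
        calc (s ^ (e * m + e) * x * (s ^ (e * m + e))⁻¹)⁻¹ * (b ^ (m + 1) * x * (b ^ (m + 1))⁻¹)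
            = (s ^ (e * m + e) * x * (s ^ (e * m + e))⁻¹)⁻¹ *
                ((s ^ (e * m) * (b * x * b⁻¹) * (s ^ (e * m))⁻¹) *
                  (b * (s ^ (e * m) * x * (s ^ (e * m))⁻¹) * b⁻¹)⁻¹) *
                (b ^ (m + 1) * x * (b ^ (m + 1))⁻¹) := by rw [eq1, mul_inv_cancel, mul_one]
          _ = _ := by rw [pow_add, pow_succ' b]; group
    have h1 := hiter (orderOf b)
    rw [pow_orderOf_eq_one, one_mul, inv_one, mul_one] at h1
    have h2 : x⁻¹ * (s ^ (e * orderOf b) * x * (s ^ (e * orderOf b))⁻¹) ∈ M := by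
      have := M.inv_mem h1
      rwa [mul_inv_rev, inv_inv] at this
    obtain ⟨d, rfl⟩ : r ∣ e := (h.ctx.coprime_orderOf (hBG hb)).dvd_of_dvd_mul_right
      (h.dvd_of_pow_twist_mem hfpf hMT hPM hsM hxT hxM h2)
    rwa [pow_mul, h.ctx.pow_eq, one_pow, one_mul, inv_one, mul_one] at he
  exact hle (T.mul_mem (T.inv_mem ht) ((inferInstance : T.Normal).conj_mem t ht s))

end Lev

end CfsgLib.Turull
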