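import Cfsg.Agent.Lib.Turull.Lev

/-!
# The commutator pairing of a component

On the component of a weight of the central part the commutator is a scalar: a bimultiplicative pairing.
-/

set_option autoImplicit false
set_option linter.style.haveILetI false

namespace CfsgLib.Turull

open Module (End)
open scoped commutatorElement

variable {K W H : Type*} [Field K] [AddCommGroup W] [Module K W] [Group H] [Finite H]
  {ρ : H →* End K W} {s : H} {r : ℕ} {G0 : Subgroup H}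
  {T Phi : Subgroup H} [T.Normal] [Phi.Normal] {p : ℕ} {S : Set W}

/-- The radical of the pairing on an invariant subspace. -/
def radOn (ρ : H →* End K W) (T : Subgroup H) (V : Submodule K W) : Subgroup H where
  carrier := {x | x ∈ T ∧ x ∈ stab ρ V ∧ ∀ t ∈ T, ∀ w ∈ V, ρ x (ρ t w) = ρ t (ρ x w)}
  one_mem' := ⟨T.one_mem, (stab ρ V).one_mem, fun t _ w _ => by simp⟩
  mul_mem' := fun {a b} ha hb => ⟨T.mul_mem ha.1 hb.1, (stab ρ V).mul_mem ha.2.1 hb.2.1, fun t ht w hw => by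
    rw [rho_mul_apply, rho_mul_apply, hb.2.2 t ht w hw, ha.2.2 t ht _ (hb.2.1 w hw)]⟩
  inv_mem' := fun {a} ha => ⟨T.inv_mem ha.1, (stab ρ V).inv_mem ha.2.1, fun t ht w hw => by
    conv_lhs => rw [← rho_apply_inv (ρ := ρ) a w]
    rw [← ha.2.2 t ht _ ((stab ρ V).inv_mem ha.2.1 w hw), rho_inv_apply]⟩

theorem radOn_le {V : Submodule K W} : radOn ρ T V ≤ T := fun _ h => h.1

theorem conj_mem_radOn {V : Submodule K W} {g : H} (hg : g ∈ stab ρ V) {x : H} (hx : x ∈ radOn ρ T V) :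
    g * x * g⁻¹ ∈ radOn ρ T V :=
  ⟨(inferInstance : T.Normal).conj_mem x hx.1 g, (stab ρ V).mul_mem ((stab ρ V).mul_mem hg hx.2.1)
    ((stab ρ V).inv_mem hg), fun t ht w hw => by
    have h1 := hx.2.2 (g⁻¹ * t * g) ((inferInstance : T.Normal).conj_mem' t ht g) (ρ g⁻¹ w)
      ((stab ρ V).inv_mem hg w hw)
    calc ρ (g * x * g⁻¹) (ρ t w) = ρ g (ρ x (ρ (g⁻¹ * t * g) (ρ g⁻¹ w))) := by
          simp only [← rho_mul_apply]; congr 2; group
      _ = ρ g (ρ (g⁻¹ * t * g) (ρ x (ρ g⁻¹ w))) := by rw [h1]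
      _ = ρ t (ρ (g * x * g⁻¹) w) := by simp only [← rho_mul_apply]; congr 2; group⟩

namespace Lev

/-- The commutator pairing of a weight. -/
def pair (h : Lev ρ s r G0 T Phi p S) (ζ : Phi →* K) (a b : T) : K :=
  ζ ⟨⁅(a : H), (b : H)⁆, h.comm (a : H) a.2 (b : H) b.2⟩

variable (h : Lev ρ s r G0 T Phi p S)

include h

theorem pair_ne_zero (ζ : Phi →* K) (a b : T) : h.pair ζ a b ≠ 0 := char_ne_zero ζ _

theorem pair_spec (ζ : Phi →* K) (a b : T) {w : W} (hw : w ∈ eig ρ Phi ζ) :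
    ρ a (ρ b w) = h.pair ζ a b • ρ b (ρ a w) := by
  have h1 := h.mem_eig_apply b.2 (h.mem_eig_apply a.2 hw) ⟨⁅(a : H), (b : H)⁆, h.comm a a.2 b b.2⟩
  show ρ a (ρ b w) = ζ _ • _
  rw [← h1, ← rho_mul_apply, ← rho_mul_apply, ← rho_mul_apply]
  congr 2
  simp [commutatorElement_def, mul_assoc]

theorem pair_eq_of_spec {ζ : Phi →* K} {a b : T} {w : W} (hw : w ∈ eig ρ Phi ζ) (hw0 : w ≠ 0) {k : K}
    (hk : ρ a (ρ b w) = k • ρ b (ρ a w)) : h.pair ζ a b = k := by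
  refine smul_left_injective K (fun (e : ρ b (ρ a w) = 0) => hw0 (rho_eq_zero _ (rho_eq_zero _ e))) ?_
  show h.pair ζ a b • ρ b (ρ a w) = k • ρ b (ρ a w)
  rw [← hk, ← h.pair_spec ζ a b hw]

variable {ζ : Phi →* K} (hne : eig ρ Phi ζ ≠ ⊥)
include hne

theorem pair_mul_right (a b c : T) : h.pair ζ a (b * c) = h.pair ζ a b * h.pair ζ a c := by
  obtain ⟨w, hw, hw0⟩ := Submodule.exists_mem_ne_zero_of_ne_bot hne
  refine h.pair_eq_of_spec hw hw0 ?_
  rw [Subgroup.coe_mul, rho_mul_apply, h.pair_spec ζ a b (h.mem_eig_apply c.2 hw), h.pair_spec ζ a c hw,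
    map_smul, smul_smul, rho_mul_apply]

theorem pair_one_right (a : T) : h.pair ζ a 1 = 1 := by
  have h1 := h.pair_mul_right hne a 1 1
  rw [one_mul] at h1
  exact (mul_eq_left₀ (h.pair_ne_zero ζ a 1)).mp h1.symm

theorem pair_swap (a b : T) : h.pair ζ b a = (h.pair ζ a b)⁻¹ := by
  obtain ⟨w, hw, hw0⟩ := Submodule.exists_mem_ne_zero_of_ne_bot hne
  refine h.pair_eq_of_spec hw hw0 ?_
  rw [h.pair_spec ζ a b hw, smul_smul, inv_mul_cancel₀ (h.pair_ne_zero ζ a b), one_smul]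

theorem pair_mul_left (a b c : T) : h.pair ζ (a * b) c = h.pair ζ a c * h.pair ζ b c := by
  rw [h.pair_swap hne c (a * b), h.pair_mul_right hne, h.pair_swap hne c a, h.pair_swap hne c b, mul_inv]

theorem pair_conj {g : H} (hg : g ∈ stab ρ (eig ρ Phi ζ)) {a b a' b' : T} (ha : (a' : H) = g * a * g⁻¹)
    (hb : (b' : H) = g * b * g⁻¹) : h.pair ζ a' b' = h.pair ζ a b := by
  obtain ⟨w, hw, hw0⟩ := Submodule.exists_mem_ne_zero_of_ne_bot hne
  refine h.pair_eq_of_spec (hg w hw) (fun e => hw0 (rho_eq_zero _ e)) ?_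
  have key : ∀ x : H, ρ (g * x * g⁻¹) (ρ g w) = ρ g (ρ x w) := fun x => by
    rw [← rho_mul_apply, ← rho_mul_apply, inv_mul_cancel_right]
  have key' : ∀ x y : H, ρ (g * x * g⁻¹) (ρ g (ρ y w)) = ρ g (ρ x (ρ y w)) := fun x y => by
    rw [← rho_mul_apply, ← rho_mul_apply, ← rho_mul_apply, ← rho_mul_apply]
    congr 2
    group
  rw [ha, hb, key, key, key', key', h.pair_spec ζ a b hw, map_smul]

/-- Elements fixed by `s` are orthogonal to twists. -/
theorem pair_fixed_twist (hζ : conjChar s ζ = ζ) {z : T} (hz : s * (z : H) = z * s) {t t' : T}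
    (ht' : (t' : H) = s * t * s⁻¹) : h.pair ζ z (t⁻¹ * t') = 1 := by
  have hs : s ∈ stab ρ (eig ρ Phi ζ) := fun w hw => by
    have := apply_mem_eig (ρ := ρ) s hw
    rwa [hζ] at this
  rw [h.pair_mul_right hne, h.pair_conj hne hs (a := z) (b := t) (a' := z) (by rw [hz, mul_inv_cancel_right]) ht',
    ← h.pair_mul_right hne, inv_mul_cancel, h.pair_one_right hne]

theorem mem_radOn_iff {x : T} : (x : H) ∈ radOn ρ T (eig ρ Phi ζ) ↔ ∀ t : T, h.pair ζ x t = 1 := by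
  constructor
  · intro hx t
    obtain ⟨w, hw, hw0⟩ := Submodule.exists_mem_ne_zero_of_ne_bot hne
    exact h.pair_eq_of_spec hw hw0 (by rw [one_smul, hx.2.2 t t.2 w hw])
  · intro hx
    refine ⟨x.2, fun w hw => h.mem_eig_apply x.2 hw, fun t ht w hw => ?_⟩
    have h1 := h.pair_spec ζ x ⟨t, ht⟩ hw
    rwa [hx, one_smul] at h1

theorem phi_le_radOn : Phi ≤ radOn ρ T (eig ρ Phi ζ) := fun x hx =>
  ⟨h.phi_le hx, fun w hw => h.mem_eig_apply (h.phi_le hx) hw, fun t ht w _ => by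
    rw [← Module.End.mul_apply, h.central x hx t ht, Module.End.mul_apply]⟩

/-- A subgroup of `T` killed by a pairing contains everything once it contains twists and fixed elements. -/
theorem pair_eq_one_of_twists {a : T} {M : Subgroup H} [M.Normal] (hMT : M ≤ T)
    (htw : ∀ t (ht : t ∈ M), h.pair ζ a ⟨t⁻¹ * (s * t * s⁻¹),
      T.mul_mem (T.inv_mem (hMT ht)) ((inferInstance : T.Normal).conj_mem t (hMT ht) s)⟩ = 1)
    (hC : ∀ x (hx : x ∈ M), s * x = x * s → h.pair ζ a ⟨x, hMT hx⟩ = 1) {x : H} (hx : x ∈ M) :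
    h.pair ζ a ⟨x, hMT hx⟩ = 1 := by
  let X : Subgroup H :=
    { carrier := {x | ∃ hx : x ∈ T, h.pair ζ a ⟨x, hx⟩ = 1}
      one_mem' := ⟨T.one_mem, h.pair_one_right hne a⟩
      mul_mem' := by
        rintro b c ⟨hb, hb'⟩ ⟨hc, hc'⟩
        refine ⟨T.mul_mem hb hc, ?_⟩
        rw [show (⟨b * c, T.mul_mem hb hc⟩ : T) = ⟨b, hb⟩ * ⟨c, hc⟩ from rfl, h.pair_mul_right hne, hb', hc',
          one_mul]
      inv_mem' := by
        rintro b ⟨hb, hb'⟩
        refine ⟨T.inv_mem hb, ?_⟩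
        have h1 := h.pair_mul_right hne a ⟨b, hb⟩ (⟨b, hb⟩ : T)⁻¹
        rw [mul_inv_cancel, h.pair_one_right hne, hb', one_mul] at h1
        exact h1.symm }
  exact (h.ctx.le_of_twists (hMT.trans h.le) (X := X) (fun t ht => ⟨_, htw t ht⟩)
    (fun x hx hxs => ⟨_, hC x hx hxs⟩) hx).2

end Lev

end CfsgLib.Turull
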