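import Cfsg.Agent.Lib.Turull.Minimal

/-!
# The sections of a minimal tower
-/

set_option autoImplicit false
set_option linter.style.haveILetI false

namespace CfsgLib.Turull

open Module (End)
open scoped commutatorElement

universe u

variable {X : Type u} [Group X] [Finite X]

/-- An element of a section with twists in the common zeros by a coprime group without fixed functionals is a
common zero. -/
theorem mem_phiSub_of_commutator {K : Type*} [Field K] {P Q A : Subgroup X}
    (hP : A ≤ Subgroup.normalizer (P : Set X)) (hQ : A ≤ Subgroup.normalizer (Q : Set X)) (hgen : P ≤ ⁅P, A⁆)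
    (hcard : (Nat.card A : K) ≠ 0) {x : X} (hx : x ∈ P) (h : ∀ a ∈ A, ⁅x, a⁆ ∈ phiSub K P Q) :
    x ∈ phiSub K P Q := by
  classical
  haveI := Fintype.ofFinite A
  refine (mem_phiSub hx).mpr fun f => ?_
  set ρ := funcRep K P Q A.subtype (fun a => hP a.2) (fun a => hQ a.2) with hρ
  set g : funcs K P Q := ∑ a : A, ρ a f with hg
  have hgfix : ∀ b : A, ρ b g = g := fun b => by
    rw [hg, map_sum]
    exact Fintype.sum_equiv (Equiv.mulLeft b) _ _ fun a => by rw [Equiv.coe_mulLeft, map_mul, Module.End.mul_apply]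
  have hg0 : ∀ y : P, (g : P → K) y = 0 := by
    let Z : Subgroup X :=
      { carrier := {y | ∃ hy : y ∈ P, (g : P → K) ⟨y, hy⟩ = 0}
        one_mem' := ⟨P.one_mem, funcs_map_one g⟩
        mul_mem' := by
          rintro a b ⟨ha, ha'⟩ ⟨hb, hb'⟩
          exact ⟨P.mul_mem ha hb, by
            rw [show (⟨a * b, P.mul_mem ha hb⟩ : P) = ⟨a, ha⟩ * ⟨b, hb⟩ from rfl, funcs_map_mul, ha', hb', add_zero]⟩
        inv_mem' := by
          rintro a ⟨ha, ha'⟩
          exact ⟨P.inv_mem ha, by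
            rw [show (⟨a⁻¹, P.inv_mem ha⟩ : P) = (⟨a, ha⟩ : P)⁻¹ from rfl, funcs_map_inv, ha', neg_zero]⟩ }
    suffices hle : ⁅P, A⁆ ≤ Z from fun y => (hle (hgen y.2)).2
    refine Subgroup.commutator_le.mpr fun y hy a ha => ?_
    have hmem : a * y⁻¹ * a⁻¹ ∈ P := (mem_normalizer_conj_iff (hP ha)).mpr (P.inv_mem hy)
    refine ⟨by simpa [commutatorElement_def, mul_assoc] using P.mul_mem hy hmem, ?_⟩
    have e : (g : P → K) ⟨a * y⁻¹ * a⁻¹, hmem⟩ = (g : P → K) (⟨y, hy⟩ : P)⁻¹ := by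
      conv_lhs => rw [← hgfix ⟨a, ha⟩]
      exact funcRep_apply _ _ _ _ _ _ _ (by simp [mul_assoc])
    refine (congrArg (g : P → K) (Subtype.ext (by simp [commutatorElement_def, mul_assoc]) :
      _ = (⟨y, hy⟩ : P) * ⟨a * y⁻¹ * a⁻¹, hmem⟩)).trans ?_
    rw [funcs_map_mul, e, funcs_map_inv, add_neg_cancel]
  have hfix : ∀ a : A, (ρ a f : P → K) ⟨x, hx⟩ = (f : P → K) ⟨x, hx⟩ := fun a => by
    obtain ⟨hc, hc'⟩ := h (a⁻¹ : A) (a⁻¹ : A).2
    have hy : (a : X)⁻¹ * x * a ∈ P := by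
      simpa using (mem_normalizer_conj_iff (hP (a⁻¹ : A).2)).mpr hx
    rw [funcRep_apply _ _ _ a f ⟨x, hx⟩ ⟨_, hy⟩ rfl]
    have h1 := hc' f
    rw [show (⟨_, hc⟩ : P) = ⟨x, hx⟩ * (⟨_, hy⟩ : P)⁻¹ from Subtype.ext (by
      simp [commutatorElement_def, mul_assoc]), funcs_map_mul, funcs_map_inv, ← sub_eq_add_neg, sub_eq_zero] at h1
    exact h1.symm
  have h2 := hg0 ⟨x, hx⟩
  rw [hg, Submodule.coe_sum, Finset.sum_apply, Finset.sum_congr rfl (fun a _ => hfix a), Finset.sum_const,
    Finset.card_univ, nsmul_eq_mul, ← Nat.card_eq_fintype_card, mul_eq_zero] at h2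
  exact h2.resolve_left hcard

variable {s : X} {G : Subgroup X} {p : ℕ → ℕ} {P : ℕ → Subgroup X} {m : ℕ} [∀ i, Fact (p i).Prime]
variable (K : ℕ → Type) [∀ i, Field (K i)] [∀ i, Algebra (ZMod (p i)) (K i)]

/-- The Frattini part of a level. -/
def phiT (P : ℕ → Subgroup X) (m i : ℕ) : Subgroup X := phiSub (K i) (P i) (kerT P m i)

variable {K}

omit [∀ i, Fact (p i).Prime] in
theorem phiT_le (i : ℕ) : phiT K P m i ≤ P i := phiSub_le

theorem kerT_le_phiT {i : ℕ} (hi : i ≤ m) : kerT P m i ≤ phiT K P m i :=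
  fun _ hx => le_phiSub ⟨kerT_le P hi hx, hx⟩

namespace MinTower

variable (h : MinTower s G p P m)
include h

theorem upS_le_normalizer_phi {i l : ℕ} (hi : i ≤ l + 1) (hl : l ≤ m) :
    upS s P i ≤ Subgroup.normalizer (phiT K P m l : Set X) := fun _ hg =>
  CfsgLib.Coprime.mem_normalizer_of_forall_conj fun _ hx =>
    phiSub_conj_mem (h.tower.upS_le_normalizer hi hl hg) (h.tower.upS_le_normalizer_ker hi hl hg) hx

/-- No level is its kernel. -/
theorem not_le_kerT {i : ℕ} (hi : i ≤ m) : ¬ P i ≤ kerT P m i := by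
  suffices key : ∀ d l, m = l + d → ¬ P l ≤ kerT P m l from key (m - i) i (by omega)
  intro d
  induction d with
  | zero =>
    intro l hl hle
    obtain rfl : l = m := by omega
    rw [kerT_top, le_bot_iff] at hle
    exact h.top hle
  | succ d ih =>
    intro l hl hle
    refine ih (l + 1) (by omega) ?_
    rw [h.gen l (by omega)]
    rw [kerT_eq P (by omega)] at hle
    exact (commutator_le_iff_le_stabMod ((le_upS s P (Nat.lt_succ_self l)).trans
      (h.tower.upS_le_normalizer (by omega) (by omega)))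
      ((le_upS s P (Nat.lt_succ_self l)).trans (h.tower.upS_le_normalizer_ker (by omega) (by omega)))).mpr
      (hle.trans inf_le_right)

omit h in
theorem natCast_card_ne_zero {q : ℕ} [Fact q.Prime] {L : Type*} [Field L] {i : ℕ} [Algebra (ZMod (p i)) L]
    {A : Subgroup X} (hA : IsPGroup q A) (hne : q ≠ p i) : (Nat.card A : L) ≠ 0 := by
  obtain ⟨k, hk⟩ := IsPGroup.iff_card.mp hA
  rw [hk, ← map_natCast (algebraMap (ZMod (p i)) L), Ne, map_eq_zero,
    ZMod.natCast_eq_zero_iff]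
  intro hd
  exact hne ((Nat.prime_dvd_prime_iff_eq (Fact.out) (Fact.out)).mp
    ((Fact.out : (p i).Prime).dvd_of_dvd_pow hd)).symm

theorem card_ne_zero {i l : ℕ} (hi : i ≤ m) (hne : p i ≠ p l) : (Nat.card (P i) : K l) ≠ 0 :=
  natCast_card_ne_zero (h.tower.pgroup i hi) hne

theorem phiT_proper {i : ℕ} (hi : i ≤ m) : ¬ P i ≤ phiT K P m i := fun hle => by
  obtain ⟨f, hf⟩ := exists_func_ne_zero (K := K i) (h.tower.pgroup i hi) (h.not_le_kerT hi)
  exact hf (funcs_ext fun a => (hle a.2).2 f)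

/-- The levels are irreducible. -/
theorem le_phiT_or_eq {i : ℕ} (hi : i ≤ m) {Y : Subgroup X} (hY : Y ≤ P i)
    (hn : upS s P i ≤ Subgroup.normalizer (Y : Set X)) : Y ≤ phiT K P m i ∨ P i ≤ Y := by
  rcases i with _ | i
  · by_cases hk : Y ≤ kerT P m 0
    · exact Or.inl (hk.trans (kerT_le_phiT hi))
    · exact Or.inr (h.min_zero Y hY hn hk)
  · by_cases hk : ⁅Y, P i⁆ ≤ kerT P m (i + 1)
    · refine Or.inl fun x hx => mem_phiSub_of_commutator
        ((le_upS s P (Nat.lt_succ_self i)).trans (h.tower.upS_le_normalizer (by omega) hi))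
        ((le_upS s P (Nat.lt_succ_self i)).trans (h.tower.upS_le_normalizer_ker (by omega) hi))
        (h.gen i hi).le (h.card_ne_zero (by omega) (h.tower.ne i hi)) (hY hx) fun a ha =>
          kerT_le_phiT hi (hk (Subgroup.commutator_mem_commutator hx ha))
    · exact Or.inr (h.min_succ i hi Y hY hn hk)

/-- The Frattini part is central modulo the kernel. -/
theorem commutator_phiT_le {i : ℕ} (hi : i ≤ m) : ⁅phiT K P m i, P i⁆ ≤ kerT P m i := by
  have hPphi : P i ≤ Subgroup.normalizer (phiT K P m i : Set X) :=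
    (le_upS s P (Nat.lt_succ_self i)).trans (h.upS_le_normalizer_phi le_rfl hi)
  have hPker : P i ≤ Subgroup.normalizer (kerT P m i : Set X) :=
    (le_upS s P (Nat.lt_succ_self i)).trans (h.tower.upS_le_normalizer_ker le_rfl hi)
  have hphin := h.upS_le_normalizer_phi (K := K) (Nat.le_succ i) hi
  rcases i with _ | i
  · have hk : phiT K P m 0 ≤ kerT P m 0 := by
      by_contra hk
      exact h.phiT_proper hi (h.min_zero _ (phiT_le 0) hphin hk)
    exact (Subgroup.commutator_mono hk le_rfl).trans (CfsgLib.Coprime.commutator_le_of_normalizes hPker)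
  · set A := P i with hA
    have hAu : A ≤ upS s P (i + 1) := le_upS s P (Nat.lt_succ_self i)
    have hk : ⁅phiT K P m (i + 1), A⁆ ≤ kerT P m (i + 1) := by
      by_contra hk
      exact h.phiT_proper hi (h.min_succ i hi _ (phiT_le _) hphin hk)
    rw [commutator_le_iff_le_stabMod hPphi hPker]
    have hAker : A ≤ Subgroup.normalizer (kerT P m (i + 1) : Set X) :=
      hAu.trans (h.tower.upS_le_normalizer_ker (by omega) hi)
    conv_lhs => rw [h.gen i hi]
    refine Subgroup.commutator_le.mpr fun t ht a ha => ⟨?_, ?_, fun x hx => ?_⟩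
    · exact Subgroup.mul_mem _ (Subgroup.mul_mem _ (Subgroup.mul_mem _ (hPphi ht) (hAu.trans hphin ha))
        (Subgroup.inv_mem _ (hPphi ht))) (Subgroup.inv_mem _ (hAu.trans hphin ha))
    · exact Subgroup.mul_mem _ (Subgroup.mul_mem _ (Subgroup.mul_mem _ (hPker ht) (hAker ha))
        (Subgroup.inv_mem _ (hPker ht))) (Subgroup.inv_mem _ (hAker ha))
    · rw [show ⁅x, ⁅t, a⁆⁆ = (t * ⁅t⁻¹ * x * t⁻¹⁻¹, a⁆ * t⁻¹) * ((t * a * t⁻¹) * ⁅x, a⁻¹⁆ * (t * a * t⁻¹)⁻¹) by
        simp only [commutatorElement_def]; group]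
      refine Subgroup.mul_mem _ ((mem_normalizer_conj_iff (hPker ht)).mpr ?_) ((mem_normalizer_conj_iff ?_).mpr ?_)
      · exact hk (Subgroup.commutator_mem_commutator
          ((mem_normalizer_conj_iff (Subgroup.inv_mem _ (hPphi ht))).mpr hx) ha)
      · exact Subgroup.mul_mem _ (Subgroup.mul_mem _ (hPker ht) (hAker ha)) (Subgroup.inv_mem _ (hPker ht))
      · exact hk (Subgroup.commutator_mem_commutator hx (A.inv_mem ha))

/-- In an abelian section the Frattini part is the kernel. -/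
theorem phiT_le_kerT {i : ℕ} (hi : i ≤ m) (hab : ⁅P i, P i⁆ ≤ kerT P m i) : phiT K P m i ≤ kerT P m i := by
  have hphin := h.upS_le_normalizer_phi (K := K) (Nat.le_succ i) hi
  rcases i with _ | i
  · by_contra hk
    exact h.phiT_proper hi (h.min_zero _ (phiT_le 0) hphin hk)
  · have hk : ⁅phiT K P m (i + 1), P i⁆ ≤ kerT P m (i + 1) := by
      by_contra hk
      exact h.phiT_proper hi (h.min_succ i hi _ (phiT_le _) hphin hk)
    set Z := kerT P m (i + 1) with hZ
    set L := Subgroup.normalizer (Z : Set X) with hL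
    have hVL : P (i + 1) ≤ L := (le_upS s P (Nat.lt_succ_self _)).trans (h.tower.upS_le_normalizer_ker le_rfl hi)
    have hAL : P i ≤ L := (le_upS s P (Nat.lt_succ_self _)).trans (h.tower.upS_le_normalizer_ker (by omega) hi)
    have hZL : Z ≤ L := Subgroup.le_normalizer
    haveI : (Z.subgroupOf L).Normal := Subgroup.normal_subgroupOf_of_le_normalizer le_rfl
    set f := QuotientGroup.mk' (Z.subgroupOf L) with hf
    set V := ((P (i + 1)).subgroupOf L).map f with hV
    set A := ((P i).subgroupOf L).map f with hA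
    haveI : IsMulCommutative V := ⟨⟨by
      rintro ⟨_, a, ha, rfl⟩ ⟨_, b, hb, rfl⟩
      refine Subtype.ext ?_
      show f a * f b = f b * f a
      rw [← map_mul, ← map_mul, hf, QuotientGroup.mk'_apply, QuotientGroup.mk'_apply, QuotientGroup.eq,
        Subgroup.mem_subgroupOf, show (((a * b)⁻¹ * (b * a) : L) : X) = ⁅(b : X)⁻¹, (a : X)⁻¹⁆ by
          simp [commutatorElement_def, mul_assoc]]
      exact hab (Subgroup.commutator_mem_commutator (Subgroup.inv_mem _ hb) (Subgroup.inv_mem _ ha))⟩⟩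
    have hAV : A ≤ Subgroup.normalizer (V : Set (L ⧸ Z.subgroupOf L)) := by
      rintro _ ⟨a, ha, rfl⟩
      refine CfsgLib.Coprime.mem_normalizer_of_forall_conj ?_
      rintro _ ⟨x, hx, rfl⟩
      exact ⟨a * x * a⁻¹, (mem_normalizer_conj_iff ((le_upS s P (Nat.lt_succ_self i)).trans
        (h.tower.upS_le_normalizer (by omega) hi) ha)).mpr hx, by simp⟩
    have hcop : (Nat.card A).Coprime (Nat.card V) :=
      IsPGroup.coprime_card_of_ne (p i) (p (i + 1)) (h.tower.ne i hi) _ _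
        (((h.tower.pgroup i (by omega)).of_equiv (Subgroup.subgroupOfEquivOfLe hAL).symm).map f)
        (((h.tower.pgroup (i + 1) hi).of_equiv (Subgroup.subgroupOfEquivOfLe hVL).symm).map f)
    intro x hx
    have hxP := phiT_le (K := K) _ hx
    have h1 : f ⟨x, hVL hxP⟩ ∈ ⁅V, A⁆ := by
      rw [hV, hA, ← Subgroup.map_commutator]
      refine ⟨_, ?_, rfl⟩
      have h2 : (⁅(P (i + 1)).subgroupOf L, (P i).subgroupOf L⁆).map L.subtype = P (i + 1) := by
        rw [Subgroup.map_commutator, Subgroup.map_subgroupOf_eq_of_le hVL, Subgroup.map_subgroupOf_eq_of_le hAL,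
          ← h.gen i hi]
      obtain ⟨y, hy, hye⟩ := h2.ge hxP
      obtain rfl : y = ⟨x, hVL hxP⟩ := Subtype.ext hye
      exact hy
    have h2 : f ⟨x, hVL hxP⟩ ∈ Subgroup.centralizer (A : Set (L ⧸ Z.subgroupOf L)) := by
      rintro _ ⟨a, ha, rfl⟩
      rw [← map_mul, ← map_mul, hf, QuotientGroup.mk'_apply, QuotientGroup.mk'_apply, QuotientGroup.eq,
        Subgroup.mem_subgroupOf, show (((a * ⟨x, hVL hxP⟩)⁻¹ * (⟨x, hVL hxP⟩ * a) : L) : X) =
          x⁻¹ * ((a : X)⁻¹ * ⁅x, (a : X)⁆ * (a : X)⁻¹⁻¹) * x⁻¹⁻¹ by simp [commutatorElement_def, mul_assoc]]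
      exact (mem_normalizer_conj_iff (Subgroup.inv_mem _ (hVL hxP))).mpr
        ((mem_normalizer_conj_iff (Subgroup.inv_mem _ (hAL ha))).mpr (hk (Subgroup.commutator_mem_commutator hx ha)))
    have h3 := (CfsgLib.Coprime.commutator_inf_centralizer_eq_bot A V hAV hcop).le ⟨h1, h2⟩
    rw [Subgroup.mem_bot, hf, QuotientGroup.mk'_apply, QuotientGroup.eq_one_iff, Subgroup.mem_subgroupOf] at h3
    exact h3

/-- An element of a level trivial on the functionals of the next is in the kernel. -/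
theorem mem_kerT_of_trivial {i : ℕ} (hi : i < m) {x : X} (hx : x ∈ P i)
    (htriv : ∀ a ∈ P (i + 1), ⁅a, x⁆ ∈ phiT K P m (i + 1)) : x ∈ kerT P m i := by
  have hxu : x ∈ upS s P (i + 1) := le_upS s P (Nat.lt_succ_self i) hx
  set A := Subgroup.zpowers x with hA
  set Q := P (i + 1) with hQ
  have hAQ : A ≤ Subgroup.normalizer (Q : Set X) :=
    Subgroup.zpowers_le.mpr (h.tower.upS_le_normalizer (by omega) hi hxu)
  have hAK : A ≤ Subgroup.normalizer (kerT P m (i + 1) : Set X) :=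
    Subgroup.zpowers_le.mpr (h.tower.upS_le_normalizer_ker (by omega) hi hxu)
  have hAphi : A ≤ Subgroup.normalizer (phiT K P m (i + 1) : Set X) :=
    Subgroup.zpowers_le.mpr (h.upS_le_normalizer_phi (by omega) hi hxu)
  have hstab : A ≤ stabMod Q (phiT K P m (i + 1)) :=
    Subgroup.zpowers_le.mpr ⟨hAQ (Subgroup.mem_zpowers x), hAphi (Subgroup.mem_zpowers x), htriv⟩
  have hcom : ⁅Q, A⁆ ≤ phiT K P m (i + 1) := (commutator_le_iff_le_stabMod hAQ hAphi).mpr hstab
  have hsplit := CfsgLib.Coprime.commutator_sup_centralizer A Q hAQ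
    (h.tower.coprime hi (Subgroup.zpowers_le.mpr hx) le_rfl) (Or.inl inferInstance)
  have hY : Q ≤ (Q ⊓ Subgroup.centralizer (A : Set X)) ⊔ kerT P m (i + 1) := by
    refine le_of_le_sup_phiSub (K := K (i + 1)) (h.tower.pgroup (i + 1) hi) (sup_le inf_le_left (kerT_le P hi))
      (inf_le_right.trans le_sup_right) ?_
    refine hsplit.ge.trans ?_
    exact sup_le (hcom.trans le_sup_right) (le_sup_left.trans le_sup_left)
  rw [kerT_eq P hi]
  refine ⟨hx, hAQ (Subgroup.mem_zpowers x), hAK (Subgroup.mem_zpowers x), fun a ha => ?_⟩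
  have ha' := hY ha
  obtain ⟨c, hc, k, hk, rfl⟩ := CfsgLib.Coprime.exists_mul_of_mem_sup
    (inf_le_left.trans ((le_upS s P (Nat.lt_succ_self _)).trans (h.tower.upS_le_normalizer_ker le_rfl hi))) ha'
  have hcx : x * c = c * x := Subgroup.mem_centralizer_iff.mp hc.2 x (Subgroup.mem_zpowers x)
  rw [show ⁅c * k, x⁆ = c * ⁅k, x⁆ * c⁻¹ * ⁅c, x⁆ from commutatorElement_mul_left_eq_conj_mul c k x,
    show ⁅c, x⁆ = 1 by rw [commutatorElement_def, ← hcx]; group, mul_one]
  refine (mem_normalizer_conj_iff ((le_upS s P (Nat.lt_succ_self _)).trans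
    (h.tower.upS_le_normalizer_ker le_rfl hi) hc.1)).mpr ?_
  rw [show ⁅k, x⁆ = k * (x * k⁻¹ * x⁻¹) by simp only [commutatorElement_def]; group]
  exact Subgroup.mul_mem _ hk ((mem_normalizer_conj_iff (hAK (Subgroup.mem_zpowers x))).mpr (Subgroup.inv_mem _ hk))

end MinTower

end CfsgLib.Turull
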