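import Cfsg.Agent.Lib.Turull.Out
import Cfsg.Agent.Lib.Turull.Func
import Mathlib.Algebra.CharP.Algebra

/-!
# A small symplectic action is centralised

An element of prime order `r` with fixed space of small codimension on a symplectic module in characteristic
two centralises every odd group that it normalises.
-/

set_option autoImplicit false
set_option linter.style.haveILetI false

namespace CfsgLib.Turull

open Module (End)
open scoped commutatorElement

variable {H : Type*} [Group H] [Finite H] {s : H} {r : ℕ} {G0 : Subgroup H}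

/-- The elements of `T` fixed by `g` modulo `R`. -/
def fixMod (g : H) (T R : Subgroup H) [T.Normal] [R.Normal] : Subgroup H where
  carrier := {y | y ∈ T ∧ y⁻¹ * (g * y * g⁻¹) ∈ R}
  one_mem' := ⟨T.one_mem, by simp⟩
  mul_mem' := fun {a b} ha hb => ⟨T.mul_mem ha.1 hb.1, by
    have e : (a * b)⁻¹ * (g * (a * b) * g⁻¹) =
        (b⁻¹ * (a⁻¹ * (g * a * g⁻¹)) * b⁻¹⁻¹) * (b⁻¹ * (g * b * g⁻¹)) := by group
    rw [e]
    exact R.mul_mem ((inferInstance : R.Normal).conj_mem _ ha.2 _) hb.2⟩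
  inv_mem' := fun {a} ha => ⟨T.inv_mem ha.1, by
    have e : a⁻¹⁻¹ * (g * a⁻¹ * g⁻¹) = a * (a⁻¹ * (g * a * g⁻¹))⁻¹ * a⁻¹ := by group
    rw [e]
    exact (inferInstance : R.Normal).conj_mem _ (R.inv_mem ha.2) _⟩

/-- Nonzero vectors of distinct weights bound the dimension. -/
theorem card_le_finrank_of_weights {K W : Type*} [Field K] [AddCommGroup W] [Module K W]
    [FiniteDimensional K W] {ρ : H →* End K W} {N : Subgroup H} (hcard : (Nat.card N : K) ≠ 0)
    {ι : Type*} [Fintype ι] (χ : ι → (N →* K)) (hinj : Function.Injective χ) (w : ι → W)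
    (hw : ∀ i, w i ∈ eig ρ N (χ i)) (hw0 : ∀ i, w i ≠ 0) (U : Submodule K W) (hU : ∀ i, w i ∈ U) :
    Fintype.card ι ≤ Module.finrank K U := by
  classical
  have hli : LinearIndependent K (fun i => (⟨w i, hU i⟩ : U)) := by
    rw [Fintype.linearIndependent_iff]
    intro c hc i
    have h1 := congrArg (fun u : U => proj ρ N (χ i) (u : W)) hc
    simp only [Submodule.coe_sum, SetLike.val_smul, map_sum, map_smul, ZeroMemClass.coe_zero, map_zero] at h1
    rw [Finset.sum_eq_single i (fun j _ hj => by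
      rw [proj_eq_zero (fun e => hj (hinj e).symm) (hw j), smul_zero]) (by simp), proj_eq_self hcard (hw i)] at h1
    exact (smul_eq_zero.mp h1).resolve_right (hw0 i)
  exact hli.fintype_card_le_finrank

/-- A component of a nonabelian minimal group has degree at least `r`. -/
theorem degree_bound {F W : Type*} [Field F] [IsAlgClosed F] [AddCommGroup W] [Module F W] [FiniteDimensional F W]
    {ρ : H →* End F W} (c : Ctx s r G0) (hr2 : r ≠ 2) {q : ℕ} (hq : q.Prime) (hq2 : q ≠ 2)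
    {T M0 : Subgroup H} [hTn : T.Normal] [M0.Normal] (hTq : IsPGroup q T) (hTG : T ≤ G0) (hM0T : M0 ≤ T)
    (hcl0 : ∀ g ∈ T, ∀ h ∈ T, ⁅g, h⁆ ∈ M0) (hM0cent : ∀ m ∈ M0, ∀ g ∈ T, ρ g * ρ m = ρ m * ρ g)
    (hM0s : ∀ m ∈ M0, ρ s * ρ m = ρ m * ρ s) (hC : ∀ g ∈ T, s * g = g * s → g ∈ M0)
    (hmin : ∀ X : Subgroup H, X ≤ T → s ∈ Subgroup.normalizer (X : Set H) → X ≤ M0 ∨ T ≤ X)
    {g0 h0 : H} (hg0 : g0 ∈ T) (hh0 : h0 ∈ T) (ψ : M0 →* F) (hψ : eig ρ M0 ψ ≠ ⊥)
    (hψne : ψ ⟨⁅g0, h0⁆, hcl0 g0 hg0 h0 hh0⟩ ≠ 1) : r ≤ Module.finrank F (eig ρ M0 ψ) := by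
  haveI : Fact q.Prime := ⟨hq⟩
  set V := eig ρ M0 ψ with hV
  haveI : Nontrivial V := Submodule.nontrivial_iff_ne_bot.mpr hψ
  have hTV : T ≤ stab ρ V := fun g hg w hw m => by
    rw [← Module.End.mul_apply, ← hM0cent m m.2 g hg, Module.End.mul_apply, hw m, map_smul]
  have hsV : s ∈ stab ρ V := fun w hw m => by
    rw [← Module.End.mul_apply, ← hM0s m m.2, Module.End.mul_apply, hw m, map_smul]
  set ρV := restr ρ V
  set sV : stab ρ V := ⟨s, hsV⟩
  set T'' := T.subgroupOf (stab ρ V) with hT''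
  have hctx := c.subgroupOf hsV
  have hscal : ∀ g : stab ρ V, (g : H) ∈ M0 → ∃ k : F, ρV g = k • 1 := fun g hg =>
    ⟨ψ ⟨g, hg⟩, LinearMap.ext fun w => Subtype.ext (w.2 ⟨g, hg⟩)⟩
  have hM0rad : ∀ g : stab ρ V, (g : H) ∈ M0 → g ∈ rad ρV T'' := fun g hg => ⟨hM0T hg, fun t _ => by
    obtain ⟨k, hk⟩ := hscal g hg
    rw [hk, smul_mul_assoc, one_mul, mul_smul_comm, mul_one]⟩
  have hne : ¬ T'' ≤ rad ρV T'' := by
    intro hle
    apply hψne
    obtain ⟨w, hw, hw0⟩ := Submodule.exists_mem_ne_zero_of_ne_bot hψ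
    have hcm := (hle (show (⟨g0, hTV hg0⟩ : stab ρ V) ∈ T'' from hg0)).2 ⟨h0, hTV hh0⟩ hh0
    have h1 : ρV ⁅(⟨g0, hTV hg0⟩ : stab ρ V), ⟨h0, hTV hh0⟩⁆ = 1 := by
      rw [commutatorElement_def, map_mul, map_mul, map_mul, hcm]
      simp only [← map_mul]
      rw [show (⟨h0, hTV hh0⟩ : stab ρ V) * ⟨g0, hTV hg0⟩ * (⟨g0, hTV hg0⟩ : stab ρ V)⁻¹ *
        (⟨h0, hTV hh0⟩ : stab ρ V)⁻¹ = 1 by group, map_one]
    have h2 := congrArg Subtype.val (LinearMap.congr_fun h1 ⟨w, hw⟩)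
    have h3 := hw ⟨_, hcl0 g0 hg0 h0 hh0⟩
    exact smul_left_injective _ hw0 ((h3.symm.trans h2).trans (one_smul _ _).symm)
  have hrad : ∀ g ∈ rad ρV T'', (g : H) ∈ M0 := by
    rcases hmin ((rad ρV T'').map (stab ρ V).subtype) (by rintro _ ⟨g, hg, rfl⟩; exact hg.1)
      (CfsgLib.Coprime.mem_normalizer_of_forall_conj (by
        rintro _ ⟨g, hg, rfl⟩
        exact ⟨sV * g * sV⁻¹, rad_normal.conj_mem g hg sV, rfl⟩)) with h | h
    · exact fun g hg => h ⟨g, hg, rfl⟩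
    · refine absurd (fun g hg => ?_) hne
      obtain ⟨g', hg', he⟩ := h (show (g : H) ∈ T from hg)
      obtain rfl : g' = g := Subtype.ext he
      exact hg'
  have hp'' : IsPGroup q T'' := hTq.of_equiv (Subgroup.subgroupOfEquivOfLe hTV).symm
  have hCT : ∀ g ∈ T'', sV * g = g * sV → g ∈ rad ρV T'' := fun g hg hgs =>
    hM0rad g (hC _ hg (congrArg Subtype.val hgs))
  obtain ⟨U, ρ0, hU, hirr, hinj, hclQ, hram, -, hidx, -, -, -⟩ :=
    exists_model (V := (⊤ : Submodule F V)) (T := T'') hctx (fun g hg => hTG hg)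
      (fun g hg h hh => hscal _ (hcl0 _ hg _ hh)) top_ne_bot (fun g _ w _ => Submodule.mem_top)
      (fun w _ => Submodule.mem_top) (fun g hg => by
        obtain ⟨k, hk⟩ := hscal g (hrad g hg)
        exact ⟨k, fun w _ => by rw [hk, LinearMap.smul_apply, Module.End.one_apply]⟩) hCT
  haveI := hU
  have hsq := CfsgLib.HallHigman.finrank_sq hirr hclQ hram
  rw [hidx] at hsq
  set d := Module.finrank F U with hd
  have hdr : r ∣ d * d - 1 := by
    rw [← pow_two, hsq]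
    refine dvd_relIndex_sub_one hctx rad_le
      (by rw [Subgroup.normalizer_eq_top]; exact Subgroup.mem_top _) fun g hg hgr => ?_
    obtain ⟨z, hz, hzs, hgz⟩ := hctx.exists_fixed_rep
      (T := T'') (fun g hg => hTG hg) (by rw [Subgroup.normalizer_eq_top]; exact Subgroup.mem_top _) rad_le
      (by rw [Subgroup.normalizer_eq_top]; exact Subgroup.mem_top _) hg hgr
    have h2 := (rad ρV T'').mul_mem (hCT z hz hzs) ((rad ρV T'').inv_mem hgz)
    rwa [show z * (g⁻¹ * z)⁻¹ = g by group] at h2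
  have hd1 : 1 < d := by
    by_contra hcn
    have hd1 : d = 1 := by
      have := Module.finrank_pos (R := F) (M := U)
      omega
    rw [hd1, one_pow] at hsq
    exact hne (Subgroup.relIndex_eq_one.mp hsq.symm)
  have hdodd : ¬ 2 ∣ d := by
    intro h2
    obtain ⟨k, hk⟩ := IsPGroup.iff_card.mp hp''
    have h3 : 2 ∣ Nat.card T'' := by
      refine (h2.trans (dvd_pow_self d two_ne_zero)).trans ?_
      rw [hsq]
      exact Subgroup.relIndex_dvd_card _ _
    rw [hk] at h3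
    exact hq2 ((Nat.prime_dvd_prime_iff_eq Nat.prime_two hq).mp (Nat.prime_two.dvd_of_dvd_pow h3)).symm
  obtain ⟨j, hj⟩ := c.prime.odd_of_ne_two hr2
  have hrd : r ≤ d := by
    obtain ⟨e, he⟩ : ∃ e, d = e + 1 := ⟨d - 1, by omega⟩
    rw [he, show (e + 1) * (e + 1) - 1 = e * (e + 2) by
      rw [show (e + 1) * (e + 1) = e * (e + 2) + 1 by ring, Nat.add_sub_cancel]] at hdr
    rcases c.prime.dvd_mul.mp hdr with h3 | h3
    · have := Nat.le_of_dvd (by omega) h3
      omega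
    · have h4 := Nat.le_of_dvd (by omega) h3
      rcases Nat.lt_or_ge (e + 1) r with h5 | h5
      · exfalso
        exact hdodd ⟨j, by omega⟩
      · omega
  calc r ≤ d := hrd
    _ ≤ Module.finrank F (⊤ : Submodule F V) := Submodule.finrank_le _
    _ = _ := finrank_top _ _

section Pairing

variable {K : Type*} [Field K] [Algebra (ZMod 2) K] [IsAlgClosed K] {T R : Subgroup H} [hT : T.Normal] [hR : R.Normal]

variable (K) in
/-- The additive functionals on `T ⧸ R` in characteristic two, as a representation. -/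
noncomputable def dualRep (T R : Subgroup H) [hT : T.Normal] [hR : R.Normal] :
    H →* End K (funcs K T R) :=
  funcRep _ T R (MonoidHom.id H) (fun _ => by rw [Subgroup.normalizer_eq_top]; exact Subgroup.mem_top _)
    (fun _ => by rw [Subgroup.normalizer_eq_top]; exact Subgroup.mem_top _)

theorem dualRep_apply (g : H) (f : funcs K T R) (x y : T) (h : (y : H) = g⁻¹ * x * g) :
    (dualRep K T R g f : T → K) x = (f : T → K) y :=
  funcRep_apply _ _ _ g f x y h

variable (β : H → H → ZMod 2) (hβr : ∀ x ∈ T, ∀ a ∈ T, ∀ b ∈ T, β x (a * b) = β x a + β x b)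
  (hβsymm : ∀ a ∈ T, ∀ b ∈ T, β a b = β b a) (hβrad : ∀ x ∈ T, x ∈ R ↔ ∀ t ∈ T, β x t = 0)

include hβr hβsymm hβrad

/-- The functional attached to an element. -/
noncomputable def mu (y : T) : funcs K T R :=
  ⟨fun x => algebraMap (ZMod 2) _ (β y x), fun a b => by
    rw [← map_add]; exact congrArg _ (hβr y y.2 a a.2 b b.2), fun a ha => by
    show algebraMap (ZMod 2) _ (β y a) = 0
    rw [hβsymm y y.2 a a.2, (hβrad a a.2).mp ha y y.2, map_zero]⟩

theorem mu_apply (y x : T) :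
    (mu (K := K) β hβr hβsymm hβrad y : T → K) x = algebraMap (ZMod 2) _ (β y x) := rfl

theorem span_mu : Submodule.span K (Set.range (mu (K := K) β hβr hβsymm hβrad)) = ⊤ := by
  refine span_eq_top_of_separating (p := 2) _ ?_ fun a ha => le_phiSub ⟨a.2, (hβrad a a.2).mpr fun t ht => ?_⟩
  · rintro _ ⟨y, rfl⟩ x
    exact ⟨β y x, rfl⟩
  · have h1 := ha _ ⟨⟨t, ht⟩, rfl⟩
    rw [mu_apply] at h1
    rw [hβsymm a a.2 t ht]
    exact (algebraMap (ZMod 2) K).injective (h1.trans (map_zero _).symm)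

/-- The kernel of the dual representation. -/
theorem dualRep_eq_one_iff (g : H) : dualRep K T R g = 1 ↔ g ∈ twistSub T R := by
  constructor
  · intro h x hx
    have hx' : g * x * g⁻¹ ∈ T := hT.conj_mem x hx g
    refine (hβrad _ (T.mul_mem (T.inv_mem hx) hx')).mpr fun t ht => ?_
    have h1 := congrFun (congrArg Subtype.val (LinearMap.congr_fun h (mu (K := K) β hβr hβsymm hβrad ⟨t, ht⟩))) ⟨g * x * g⁻¹, hx'⟩
    rw [Module.End.one_apply, dualRep_apply (y := ⟨x, hx⟩) (h := by simp [mul_assoc]), mu_apply, mu_apply] at h1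
    have h2 : β t x = β t (g * x * g⁻¹) := (algebraMap (ZMod 2) K).injective h1
    rw [hβsymm _ (T.mul_mem (T.inv_mem hx) hx') t ht, hβr t ht _ (T.inv_mem hx) _ hx', ← h2,
      ← hβr t ht _ (T.inv_mem hx) _ hx, inv_mul_cancel]
    have h0 := hβr t ht 1 T.one_mem 1 T.one_mem
    rw [one_mul] at h0
    exact left_eq_add.mp h0
  · intro h
    refine LinearMap.ext fun f => funcs_ext fun x => ?_
    have hy : g⁻¹ * (x : H) * g ∈ T := hT.conj_mem' x x.2 g
    rw [dualRep_apply (y := ⟨g⁻¹ * x * g, hy⟩) (h := rfl), Module.End.one_apply]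
    have h1 := h _ hy
    have h2 := funcs_eq_zero f (a := (⟨g⁻¹ * x * g, hy⟩ : T)⁻¹ * x) (by
      show (g⁻¹ * (x : H) * g)⁻¹ * x ∈ R
      rwa [show g * (g⁻¹ * (x : H) * g) * g⁻¹ = x by group] at h1)
    rw [funcs_map_mul, funcs_map_inv, neg_add_eq_zero] at h2
    exact h2

variable (hβconj : ∀ g a b, a ∈ T → b ∈ T → β (g * a * g⁻¹) (g * b * g⁻¹) = β a b)
include hβconj

/-- Weights come in inverse pairs. -/
theorem exists_inv_weight {L : Subgroup H} {N : Subgroup L}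
    (hcard : (Nat.card N : K) ≠ 0) {χ χ' : N →* K}
    (hχ' : ∀ n, χ' n = χ n⁻¹) (hχ : eig ((dualRep K T R).comp L.subtype) N χ ≠ ⊥) :
    eig ((dualRep K T R).comp L.subtype) N χ' ≠ ⊥ := by
  classical
  set ρ := (dualRep K T R).comp L.subtype with hρ
  letI := Fintype.ofFinite N
  intro hbot
  have hz : ∀ y, proj ρ N χ' (mu (K := K) β hβr hβsymm hβrad y) = 0 := fun y => by
    have := proj_mem_eig (ρ := ρ) χ' (mu (K := K) β hβr hβsymm hβrad y)
    rwa [hbot, Submodule.mem_bot] at this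
  obtain ⟨w, hw, hw0⟩ := Submodule.exists_mem_ne_zero_of_ne_bot hχ
  refine hw0 ?_
  rw [← proj_eq_self hcard hw]
  have h0 : proj ρ N χ = 0 := by
    refine LinearMap.ext_on (span_mu (K := K) β hβr hβsymm hβrad) ?_
    rintro _ ⟨x, rfl⟩
    refine funcs_ext fun y => ?_
    have h1 := congrFun (congrArg Subtype.val (hz y)) x
    simp only [proj_apply, SetLike.val_smul, Submodule.coe_sum, Pi.smul_apply, Finset.sum_apply, smul_eq_mul,
      ZeroMemClass.coe_zero, Pi.zero_apply] at h1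
    simp only [proj_apply, SetLike.val_smul, Submodule.coe_sum, Pi.smul_apply, Finset.sum_apply, smul_eq_mul,
      LinearMap.zero_apply, ZeroMemClass.coe_zero, Pi.zero_apply]
    rw [← h1]
    congr 1
    refine Fintype.sum_equiv (Equiv.inv N) _ _ fun n => ?_
    rw [Equiv.inv_apply, hχ' n⁻¹⁻¹]
    have hy : ((n : L) : H)⁻¹ * (y : H) * ((n : L) : H) ∈ T := hT.conj_mem' y y.2 _
    have hx : ((n : L) : H) * (x : H) * ((n : L) : H)⁻¹ ∈ T := hT.conj_mem x x.2 _
    rw [hρ, MonoidHom.comp_apply, MonoidHom.comp_apply, Subgroup.subtype_apply, Subgroup.subtype_apply,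
      dualRep_apply (y := ⟨_, hy⟩) (h := rfl), mu_apply,
      dualRep_apply (y := ⟨_, hx⟩) (h := by simp), mu_apply, inv_inv]
    rw [hβsymm y y.2 _ hx, ← hβconj ((n : L) : H) x _ x.2 hy]
    congr 2
    simp [mul_assoc]
  rw [h0, LinearMap.zero_apply]

set_option maxHeartbeats 1600000 in
/-- **Small actions are centralised.** -/
theorem twist_mem_of_small (F : Type*) [Field F] [Algebra (ZMod 2) F] [IsAlgClosed F] (c : Ctx s r G0) (hr2 : r ≠ 2) (hTR : R ≤ T) (hTG : T ≤ G0) {a : ℕ} (ha : a < r)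
    (hidx : (fixMod s T R).relIndex T ≤ 2 ^ a) {q : ℕ} (hq : q.Prime) (hq2 : q ≠ 2) (Kq : Subgroup H)
    (hKq : IsPGroup q Kq) (hKG : Kq ≤ G0) (hsK : s ∈ Subgroup.normalizer (Kq : Set H)) :
    ∀ k ∈ Kq, k⁻¹ * (s * k * s⁻¹) ∈ twistSub T R := by
  classical
  haveI : Fact q.Prime := ⟨hq⟩
  haveI : CharP F 2 := charP_of_injective_algebraMap (algebraMap (ZMod 2) F).injective 2
  set D := twistSub T R with hD
  haveI hDn : D.Normal := ⟨fun g hg h t ht => by
    have h1 := hR.conj_mem _ (hg (h⁻¹ * t * h) (hT.conj_mem' t ht h)) h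
    rwa [show h * ((h⁻¹ * t * h)⁻¹ * (g * (h⁻¹ * t * h) * g⁻¹)) * h⁻¹ = t⁻¹ * (h * g * h⁻¹ * t * (h * g * h⁻¹)⁻¹) by
      group] at h1⟩
  by_contra hcon
  -- a minimal counterexample
  have hex : ∃ n, ∃ M : Subgroup H, M ≤ Kq ∧ s ∈ Subgroup.normalizer (M : Set H) ∧
      (¬ ∀ k ∈ M, k⁻¹ * (s * k * s⁻¹) ∈ D) ∧ Nat.card M = n := ⟨_, Kq, le_rfl, hsK, hcon, rfl⟩
  obtain ⟨M, hMK, hsM, hMne, hMn⟩ := Nat.find_spec hex
  have hmin : ∀ A : Subgroup H, A ≤ M → s ∈ Subgroup.normalizer (A : Set H) →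
      (∀ k ∈ A, k⁻¹ * (s * k * s⁻¹) ∈ D) ∨ M ≤ A := by
    intro A hA hsA
    rw [or_iff_not_imp_left]
    intro hAne
    have h1 := Nat.find_min' hex (m := Nat.card A) ⟨A, hA.trans hMK, hsA, hAne, rfl⟩
    rw [← hMn] at h1
    exact (Subgroup.eq_of_le_of_card_ge hA h1).ge
  have hMp : IsPGroup q M := hKq.to_le hMK
  have hMG : M ≤ G0 := hMK.trans hKG
  -- the part centralised by `s`
  let M0 : Subgroup H :=
    { carrier := {k | k ∈ M ∧ k⁻¹ * (s * k * s⁻¹) ∈ D}
      one_mem' := ⟨M.one_mem, by simp⟩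
      mul_mem' := fun {a b} ha hb => ⟨M.mul_mem ha.1 hb.1, by
        have e : (a * b)⁻¹ * (s * (a * b) * s⁻¹) =
            (b⁻¹ * (a⁻¹ * (s * a * s⁻¹)) * b⁻¹⁻¹) * (b⁻¹ * (s * b * s⁻¹)) := by group
        rw [e]
        exact D.mul_mem (hDn.conj_mem _ ha.2 _) hb.2⟩
      inv_mem' := fun {a} ha => ⟨M.inv_mem ha.1, by
        have e : a⁻¹⁻¹ * (s * a⁻¹ * s⁻¹) = a * (a⁻¹ * (s * a * s⁻¹))⁻¹ * a⁻¹ := by group
        rw [e]
        exact hDn.conj_mem _ (D.inv_mem ha.2) _⟩ }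
  have hsM0 : s ∈ Subgroup.normalizer (M0 : Set H) := CfsgLib.Coprime.mem_normalizer_of_forall_conj fun k hk =>
    ⟨(mem_normalizer_conj_iff hsM).mpr hk.1, by
      rw [show (s * k * s⁻¹)⁻¹ * (s * (s * k * s⁻¹) * s⁻¹) = s * (k⁻¹ * (s * k * s⁻¹)) * s⁻¹ by group]
      exact hDn.conj_mem _ hk.2 s⟩
  have hgen : ∀ X : Subgroup H, X ≤ M → s ∈ Subgroup.normalizer (X : Set H) →
      (∀ k ∈ M, k⁻¹ * (s * k * s⁻¹) ∈ X) → M ≤ X := by
    intro X hXM hsX htw
    rcases hmin X hXM hsX with hX | hX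
    · exfalso
      refine hMne fun k hk => ?_
      -- all twists centralised: coprime
      set d := k⁻¹ * (s * k * s⁻¹) with hd
      have hpow : ∀ n, ∃ e ∈ D, k⁻¹ * (s ^ n * k * (s ^ n)⁻¹) = d ^ n * e := by
        intro n
        induction n with
        | zero => exact ⟨1, D.one_mem, by simp⟩
        | succ n ih =>
          obtain ⟨e, he, h1⟩ := ih
          obtain ⟨e', he', h2⟩ : ∃ e' ∈ D, s * d ^ n * s⁻¹ = d ^ n * e' :=
            ⟨(d ^ n)⁻¹ * (s * d ^ n * s⁻¹), hX _ (X.pow_mem (htw k hk) n), by group⟩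
          refine ⟨e' * (s * e * s⁻¹), D.mul_mem he' (hDn.conj_mem _ he s), ?_⟩
          calc k⁻¹ * (s ^ (n + 1) * k * (s ^ (n + 1))⁻¹)
              = (k⁻¹ * (s * k * s⁻¹)) * (s * (k⁻¹ * (s ^ n * k * (s ^ n)⁻¹)) * s⁻¹) := by rw [pow_succ']; group
            _ = d * (s * d ^ n * s⁻¹) * (s * e * s⁻¹) := by rw [h1, ← hd]; group
            _ = d ^ (n + 1) * (e' * (s * e * s⁻¹)) := by rw [h2, pow_succ']; group
      obtain ⟨e, he, h1⟩ := hpow r
      rw [c.pow_eq, one_mul, inv_one, mul_one, inv_mul_cancel] at h1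
      have hdr : d ^ r ∈ D := by
        rw [show d ^ r = e⁻¹ from eq_inv_of_mul_eq_one_left h1.symm]
        exact D.inv_mem he
      obtain ⟨u, hu⟩ := exists_pow_eq_self_of_coprime (c.coprime_orderOf (hMG (hXM (htw k hk))))
      have h3 := D.pow_mem hdr u
      rwa [show (d ^ r) ^ u = d from hu] at h3
    · exact hX
  have hM0ne : ¬ M ≤ M0 := fun h => hMne fun k hk => (h hk).2
  -- the fixed space of two conjugates
  obtain ⟨x, hx, hxM0⟩ : ∃ x ∈ M, x⁻¹ * (s * x * s⁻¹) ∉ M0 := by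
    by_contra hc
    push Not at hc
    exact hM0ne (hgen M0 (fun k hk => hk.1) hsM0 hc)
  set D12 := fixMod s T R ⊓ fixMod (x⁻¹ * s * x) T R with hD12
  let St : Subgroup H :=
    { carrier := {g | ∀ y ∈ D12, y⁻¹ * (g * y * g⁻¹) ∈ R}
      one_mem' := fun y _ => by simp
      mul_mem' := fun {g h} hg hh y hy => by
        have e : y⁻¹ * (g * h * y * (g * h)⁻¹) =
            (y⁻¹ * (g * y * g⁻¹)) * (g * (y⁻¹ * (h * y * h⁻¹)) * g⁻¹) := by group
        rw [e]
        exact R.mul_mem (hg y hy) (hR.conj_mem _ (hh y hy) g)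
      inv_mem' := fun {g} hg y hy => by
        have h1 := hR.conj_mem _ (R.inv_mem (hg y hy)) g⁻¹
        rwa [show g⁻¹ * (y⁻¹ * (g * y * g⁻¹))⁻¹ * g⁻¹⁻¹ = y⁻¹ * (g⁻¹ * y * g⁻¹⁻¹) by group] at h1 }
  have hsSt : s ∈ St := fun y hy => hy.1.2
  have hxSt : x⁻¹ * s * x ∈ St := fun y hy => hy.2.2
  have hMSt : M ≤ St := by
    rcases hmin (M ⊓ St) inf_le_left (CfsgLib.Coprime.mem_normalizer_of_forall_conj fun k hk =>
      ⟨(mem_normalizer_conj_iff hsM).mpr hk.1, St.mul_mem (St.mul_mem hsSt hk.2) (St.inv_mem hsSt)⟩) with h | h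
    · exfalso
      refine hxM0 ⟨M.mul_mem (M.inv_mem hx) ((mem_normalizer_conj_iff hsM).mpr hx),
        h _ ⟨M.mul_mem (M.inv_mem hx) ((mem_normalizer_conj_iff hsM).mpr hx), ?_⟩⟩
      have := St.mul_mem hxSt (St.inv_mem hsSt)
      rwa [show x⁻¹ * s * x * s⁻¹ = x⁻¹ * (s * x * s⁻¹) by group] at this
    · exact h.trans inf_le_right
  have hD12T : D12 ≤ T := fun y hy => hy.1.1
  have hRD12 : R ≤ D12 := fun y hy => ⟨⟨hTR hy, R.mul_mem (R.inv_mem hy) (hR.conj_mem y hy s)⟩,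
    hTR hy, R.mul_mem (R.inv_mem hy) (hR.conj_mem y hy _)⟩
  have hD12idx : D12.relIndex T ≤ 2 ^ (a + a) := by
    refine Subgroup.relIndex_inf_le.trans (pow_add 2 a a ▸ Nat.mul_le_mul hidx ?_)
    have hconj : (fixMod s T R).map (MulAut.conj x⁻¹).toMonoidHom ≤ fixMod (x⁻¹ * s * x) T R := by
      rintro _ ⟨y, hy, rfl⟩
      refine ⟨hT.conj_mem y hy.1 _, ?_⟩
      have h1 := hR.conj_mem _ hy.2 x⁻¹
      simp only [MulEquiv.coe_toMonoidHom, MulAut.conj_apply]
      rwa [show (x⁻¹ * y * x⁻¹⁻¹)⁻¹ * (x⁻¹ * s * x * (x⁻¹ * y * x⁻¹⁻¹) * (x⁻¹ * s * x)⁻¹) =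
        x⁻¹ * (y⁻¹ * (s * y * s⁻¹)) * x⁻¹⁻¹ by group]
    have hTmap : T.map (MulAut.conj x⁻¹).toMonoidHom = T := by
      refine le_antisymm ?_ fun y hy => ⟨x * y * x⁻¹, hT.conj_mem y hy x, by simp [mul_assoc]⟩
      rintro _ ⟨y, hy, rfl⟩
      exact hT.conj_mem y hy _
    have h2 := Subgroup.relIndex_map_map_of_injective (fixMod s T R) T (f := (MulAut.conj x⁻¹).toMonoidHom)
      (MulAut.conj x⁻¹).injective
    rw [hTmap] at h2
    exact (Nat.le_of_dvd (Nat.pos_of_ne_zero Subgroup.index_ne_zero_of_finite)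
      (Subgroup.relIndex_dvd_of_le_left T hconj)).trans (h2.le.trans hidx)
  -- functionals killing the fixed space
  let U : Submodule F (funcs F T R) :=
    { carrier := {f | ∀ y : T, (y : H) ∈ D12 → (f : T → F) y = 0}
      add_mem' := fun {f g} hf hg y hy => by simp [hf y hy, hg y hy]
      zero_mem' := fun y _ => rfl
      smul_mem' := fun k f hf y hy => by simp [hf y hy] }
  have hUdim : Module.finrank F U ≤ a + a := by
    refine le_trans ?_ (finrank_funcs_le (K := F) hD12T hD12idx)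
    refine LinearMap.finrank_le_finrank_of_injective (f := ({
      toFun := fun f => ⟨(f.1).1, f.1.2.1, fun y hy => f.2 y hy⟩
      map_add' := fun _ _ => rfl
      map_smul' := fun _ _ => rfl } : U →ₗ[F] funcs F T D12)) ?_
    intro f g hfg
    have h1 := congrArg Subtype.val hfg
    exact Subtype.ext (Subtype.ext h1)
  -- the group `M⟨s⟩`
  set L := M ⊔ Subgroup.zpowers s with hL
  have hsL : s ∈ L := Subgroup.mem_sup_right (Subgroup.mem_zpowers s)
  have hLN : L ≤ Subgroup.normalizer (M : Set H) :=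
    sup_le Subgroup.le_normalizer (Subgroup.zpowers_le.mpr hsM)
  set ρ := (dualRep F T R).comp L.subtype with hρ
  have hker : ∀ g : L, ρ g = 1 ↔ (g : H) ∈ D := fun g => dualRep_eq_one_iff (K := F) β hβr hβsymm hβrad g
  have hcommD : ∀ g h : L, (g : H)⁻¹ * ((h : H) * g * (h : H)⁻¹) ∈ D ↔ ρ g * ρ h = ρ h * ρ g := fun g h => by
    rw [show (g : H)⁻¹ * ((h : H) * g * (h : H)⁻¹) = ((g⁻¹ * (h * g * h⁻¹) : L) : H) from rfl, ← hker]
    constructor
    · intro e
      calc ρ g * ρ h = ρ g * ρ (g⁻¹ * (h * g * h⁻¹)) * ρ h := by rw [e, mul_one]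
        _ = ρ h * ρ g := by simp only [← map_mul]; congr 1; group
    · intro e
      calc ρ (g⁻¹ * (h * g * h⁻¹)) = ρ g⁻¹ * (ρ h * ρ g) * ρ h⁻¹ := by
            simp only [← map_mul]; congr 1; group
        _ = 1 := by rw [← e]; simp only [← map_mul]; rw [show g⁻¹ * (g * h) * h⁻¹ = 1 by group, map_one]
  have hinU : ∀ {N : Subgroup L} (χ : N →* F) (n : N), ((n : L) : H) ∈ M → χ n ≠ 1 →
      eig ρ N χ ≤ U := by
    intro N χ n hn hχn f hf y hy
    by_contra hne
    apply hχn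
    have hy' : ((n : L) : H)⁻¹ * (y : H) * ((n : L) : H) ∈ T := hT.conj_mem' y y.2 _
    have h1 := congrFun (congrArg Subtype.val (hf n)) y
    rw [hρ, MonoidHom.comp_apply, Subgroup.subtype_apply, dualRep_apply (y := ⟨_, hy'⟩) (h := rfl)] at h1
    simp only [SetLike.val_smul, Pi.smul_apply, smul_eq_mul] at h1
    have h2 := funcs_eq_zero f (a := (y : T)⁻¹ * ⟨_, hy'⟩) (by
      have := hMSt (M.inv_mem hn) y hy
      simpa using this)
    rw [funcs_map_mul, funcs_map_inv, neg_add_eq_zero] at h2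
    rw [← h2] at h1
    exact mul_right_cancel₀ hne (h1.symm.trans (one_mul _).symm)
  set sL : L := ⟨s, hsL⟩
  have hctx : Ctx sL r (G0.subgroupOf L) := c.subgroupOf hsL
  set T' : Subgroup L := M.subgroupOf L with hT'
  haveI hT'n : T'.Normal := (Subgroup.normal_subgroupOf_iff_le_normalizer le_sup_left).mpr hLN
  have hT'p : IsPGroup q T' := hMp.of_equiv (Subgroup.subgroupOfEquivOfLe le_sup_left).symm
  have hq0 : (q : F) ≠ 0 := fun e => hq2
    ((Nat.prime_dvd_prime_iff_eq Nat.prime_two hq).mp ((CharP.cast_eq_zero_iff _ 2 q).mp e)).symm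
  have hcardN : ∀ N : Subgroup L, N ≤ T' → (Nat.card N : F) ≠ 0 := fun N hN => by
    obtain ⟨n, hn⟩ := IsPGroup.iff_card.mp (hT'p.to_le hN)
    rw [hn, Nat.cast_pow]
    exact pow_ne_zero _ hq0
  obtain ⟨j, hj⟩ := c.prime.odd_of_ne_two hr2
  have hqodd : Odd q := hq.odd_of_ne_two hq2
  have hsq : ∀ {N : Subgroup L}, N ≤ T' → ∀ (χ : N →* F) n, χ n = χ n⁻¹ → χ n = 1 := by
    intro N hN χ n hn
    obtain ⟨k, hk⟩ := IsPGroup.iff_card.mp (hT'p.to_le hN)
    have h1 : χ n ^ Nat.card N = 1 := by rw [← map_pow, pow_card_eq_one', map_one]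
    have h2 : χ n ^ 2 = 1 := by
      rw [pow_two]
      nth_rewrite 2 [hn]
      rw [← map_mul, mul_inv_cancel, map_one]
    have h3 := pow_gcd_eq_one.mpr ⟨h1, h2⟩
    have hc2 : (Nat.card N).gcd 2 = 1 := by
      rw [hk]
      exact (Nat.coprime_two_right.mpr (hqodd.pow)).gcd_eq_one
    rwa [hc2, pow_one] at h3
  have hinv : ∀ {N : Subgroup L} (χ : N →* F),
      ∃ χ' : N →* F, ∀ n, χ' n = χ n⁻¹ := fun χ =>
    ⟨{ toFun := fun n => χ n⁻¹
       map_one' := by rw [inv_one, map_one]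
       map_mul' := fun a b => by rw [mul_inv_rev, map_mul, mul_comm] }, fun n => rfl⟩
  by_cases hab : ∀ g ∈ T', ∀ h ∈ T', ρ g * ρ h = ρ h * ρ g
  · -- a moved weight
    obtain ⟨χ, hχne, hχ⟩ : ∃ χ : T' →* F, eig ρ T' χ ≠ ⊥ ∧ conjChar sL χ ≠ χ := by
      by_contra hc
      push Not at hc
      apply hM0ne
      intro k hk
      refine ⟨hk, (hcommD ⟨k, Subgroup.mem_sup_left hk⟩ sL).mpr ?_⟩
      rw [← sub_eq_zero]
      refine eq_zero_of_forall_eig T' (hcardN T' le_rfl) hab fun χ w hw => ?_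
      rw [LinearMap.sub_apply, sub_eq_zero, Module.End.mul_apply, Module.End.mul_apply]
      rcases eq_or_ne w 0 with rfl | hw0
      · simp
      have hfx := hc χ fun e => hw0 (by rwa [e, Submodule.mem_bot] at hw)
      have h1 := apply_mem_eig (ρ := ρ) sL hw
      rw [hfx] at h1
      rw [h1 ⟨⟨k, Subgroup.mem_sup_left hk⟩, hk⟩, hw ⟨⟨k, Subgroup.mem_sup_left hk⟩, hk⟩, map_smul]
    obtain ⟨χ', hχ'⟩ := hinv χ
    obtain ⟨w, hw, hw0⟩ := Submodule.exists_mem_ne_zero_of_ne_bot hχne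
    obtain ⟨w', hw', hw0'⟩ := Submodule.exists_mem_ne_zero_of_ne_bot
      (exists_inv_weight β hβr hβsymm hβrad hβconj (hcardN T' le_rfl) hχ' hχne)
    obtain ⟨n, hn⟩ : ∃ n, χ n ≠ 1 := by
      by_contra hc
      push Not at hc
      exact hχ (MonoidHom.ext fun m => by rw [conjChar_apply, hc, hc])
    have hconj' : ∀ i : ℕ, ∀ m, conjChar (sL ^ i) χ' m = conjChar (sL ^ i) χ m⁻¹ := fun i m => by
      rw [conjChar_apply, conjChar_apply, hχ']
      exact congrArg χ (Subtype.ext (by simp [mul_assoc]))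
    let Ψ : Fin r ⊕ Fin r → (T' →* F) :=
      Sum.elim (fun i => conjChar (sL ^ (i : ℕ)) χ) (fun i => conjChar (sL ^ (i : ℕ)) χ')
    have hdisj : ∀ i k : Fin r, conjChar (sL ^ (i : ℕ)) χ ≠ conjChar (sL ^ (k : ℕ)) χ' := by
      intro i k e
      set d := r - (i : ℕ) + k
      have e1 : χ = conjChar (sL ^ d) χ' := by
        rw [pow_add, conjChar_mul, ← e, ← conjChar_mul, ← pow_add, Nat.sub_add_cancel i.2.le, hctx.pow_eq,
          conjChar_one]
      have e2 : conjChar (sL ^ d) χ = χ' := MonoidHom.ext fun m => by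
        rw [hχ', show χ m⁻¹ = conjChar (sL ^ d) χ' m⁻¹ from DFunLike.congr_fun e1 m⁻¹, hconj', inv_inv]
      have e3 : conjChar (sL ^ (d + d)) χ = χ := by rw [pow_add, conjChar_mul, e2, ← e1]
      have hd : r ∣ d := by
        by_contra hd
        refine conjChar_pow_ne hctx hχ (fun h => hd ?_) e3
        rw [← two_mul] at h
        exact (c.prime.dvd_mul.mp h).resolve_left fun h2 => hr2
          ((Nat.prime_dvd_prime_iff_eq c.prime Nat.prime_two).mp h2)
      have e4 : χ = χ' := by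
        rw [← e2]
        obtain ⟨u, hu⟩ := hd
        rw [hu, pow_mul, hctx.pow_eq, one_pow, conjChar_one]
      exact hn (hsq le_rfl χ n (by conv_lhs => rw [e4, hχ']))
    have hinj : Function.Injective Ψ := by
      have hχ'm : conjChar sL χ' ≠ χ' := fun e => hχ (MonoidHom.ext fun m => by
        have h1 := DFunLike.congr_fun e m⁻¹
        have h2 := hconj' 1 m⁻¹
        rw [pow_one, inv_inv] at h2
        rwa [h2, hχ', inv_inv] at h1)
      have hi : ∀ (ψ : T' →* F), conjChar sL ψ ≠ ψ →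
          ∀ i k : Fin r, conjChar (sL ^ (i : ℕ)) ψ = conjChar (sL ^ (k : ℕ)) ψ → i = k := fun ψ hψ i k e => by
        rcases le_total (i : ℕ) k with hle | hle
        · exact Fin.ext (conjChar_orbit_injective hctx hψ hle k.2 e)
        · exact Fin.ext (conjChar_orbit_injective hctx hψ hle i.2 e.symm).symm
      rintro (i | i) (k | k) e
      · rw [hi χ hχ i k e]
      · exact absurd e (hdisj i k)
      · exact absurd e.symm (hdisj k i)
      · rw [hi χ' hχ'm i k e]
    let wv : Fin r ⊕ Fin r → (funcs F T R) :=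
      Sum.elim (fun i => ρ (sL ^ (i : ℕ)) w) (fun i => ρ (sL ^ (i : ℕ)) w')
    have hwv : ∀ i, wv i ∈ eig ρ T' (Ψ i) := by
      rintro (i | i)
      · exact apply_mem_eig _ hw
      · exact apply_mem_eig _ hw'
    have hnt : ∀ i, ∃ m, Ψ i m ≠ 1 := by
      intro i
      by_contra hc
      push Not at hc
      rcases i with i | i
      · refine hn ?_
        have := hc ⟨sL ^ (i : ℕ) * n * (sL ^ (i : ℕ))⁻¹, hT'n.conj_mem _ n.2 _⟩
        simp only [Ψ, Sum.elim_inl, conjChar_apply] at this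
        rw [← this]
        exact congrArg χ (Subtype.ext (by simp [mul_assoc]))
      · refine hn ?_
        have := hc ⟨sL ^ (i : ℕ) * (n⁻¹ : T') * (sL ^ (i : ℕ))⁻¹, hT'n.conj_mem _ (n⁻¹ : T').2 _⟩
        simp only [Ψ, Sum.elim_inr, conjChar_apply, hχ'] at this
        rw [← this]
        exact congrArg χ (Subtype.ext (by simp [mul_assoc]))
    have h2r := card_le_finrank_of_weights (ρ := ρ) (hcardN T' le_rfl) Ψ hinj wv hwv
      (by rintro (i | i) e
          · exact hw0 (rho_eq_zero _ e)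
          · exact hw0' (rho_eq_zero _ e)) U
      (fun i => by
        obtain ⟨m, hm⟩ := hnt i
        exact hinU (Ψ i) m m.2 hm (hwv i))
    rw [Fintype.card_sum, Fintype.card_fin] at h2r
    omega
  · -- the image is not abelian
    set M0' : Subgroup L := M0.subgroupOf L with hM0'
    have hcomm0 : ⁅M, M⁆ ≤ M0 := by
      rcases hmin ⁅M, M⁆ (Subgroup.commutator_le_self M) (CfsgLib.Coprime.mem_normalizer_of_forall_conj fun k hk => by
        have hmap : (M.map (MulAut.conj s).toMonoidHom) ≤ M := by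
          rintro _ ⟨y, hy, rfl⟩
          exact (mem_normalizer_conj_iff hsM).mpr hy
        have h1 : MulAut.conj s k ∈ (⁅M, M⁆).map (MulAut.conj s).toMonoidHom := ⟨k, hk, rfl⟩
        rw [Subgroup.map_commutator] at h1
        exact Subgroup.commutator_mono hmap hmap h1) with h | h
      · exact fun k hk => ⟨Subgroup.commutator_le_self M hk, h k hk⟩
      · exfalso
        refine hMne fun k hk => ?_
        have hne : M ≠ ⊥ := fun e => by
          rw [e, Subgroup.mem_bot] at hx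
          exact hxM0 (by subst hx; simp)
        exact absurd h (CfsgLib.Coprime.commutator_lt_of_isPGroup hMp hMp Subgroup.le_normalizer hne).not_ge
    have hM0cent : ∀ m ∈ M0', ∀ g ∈ T', ρ g * ρ m = ρ m * ρ g := by
      let Z : Subgroup L :=
        { carrier := {g | g ∈ T' ∧ ∀ m ∈ M0', ρ g * ρ m = ρ m * ρ g}
          one_mem' := ⟨T'.one_mem, fun m _ => by rw [map_one, one_mul, mul_one]⟩
          mul_mem' := fun {a b} ha hb => ⟨T'.mul_mem ha.1 hb.1, fun m hm => by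
            rw [map_mul, mul_assoc, hb.2 m hm, ← mul_assoc, ha.2 m hm, mul_assoc]⟩
          inv_mem' := fun {a} ha => ⟨T'.inv_mem ha.1, fun m hm => by
            calc ρ a⁻¹ * ρ m = ρ a⁻¹ * (ρ m * ρ a) * ρ a⁻¹ := by
                  simp only [← map_mul]; congr 1; group
              _ = ρ a⁻¹ * (ρ a * ρ m) * ρ a⁻¹ := by rw [ha.2 m hm]
              _ = ρ m * ρ a⁻¹ := by simp only [← map_mul]; congr 1; group⟩ }
      have hsm : ∀ m ∈ M0', ρ sL * ρ m = ρ m * ρ sL := fun m hm => ((hcommD m sL).mp hm.2).symm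
      have hM0n : ∀ g ∈ T', ∀ m ∈ M0', g * m * g⁻¹ ∈ M0' := fun g hg m hm => by
        show (g : H) * m * (g : H)⁻¹ ∈ M0
        rw [show (g : H) * m * (g : H)⁻¹ = ⁅(g : H), (m : H)⁆ * m by simp [commutatorElement_def, mul_assoc]]
        exact M0.mul_mem (hcomm0 (Subgroup.commutator_mem_commutator hg hm.1)) hm
      have htwZ : ∀ g ∈ T', g⁻¹ * (sL * g * sL⁻¹) ∈ Z := fun g hg => by
        refine ⟨T'.mul_mem (T'.inv_mem hg) (hT'n.conj_mem g hg sL), fun m hm => ?_⟩
        -- `g` and its image conjugate `m` in the same way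
        have hm1 : sL * (g * m * g⁻¹) * sL⁻¹ ∈ M0' := by
          show s * ((g * m * g⁻¹ : L) : H) * s⁻¹ ∈ M0
          exact (mem_normalizer_conj_iff hsM0).mpr (hM0n g hg m hm)
        have e1 : ρ (sL * (g * m * g⁻¹) * sL⁻¹) = ρ (g * m * g⁻¹) := by
          rw [map_mul, map_mul, hsm _ (hM0n g hg m hm), mul_assoc, ← map_mul ρ sL, mul_inv_cancel, map_one, mul_one]
        have e2 : ρ (sL * m * sL⁻¹) = ρ m := by
          rw [map_mul, map_mul, hsm m hm, mul_assoc, ← map_mul ρ sL, mul_inv_cancel, map_one, mul_one]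
        calc ρ (g⁻¹ * (sL * g * sL⁻¹)) * ρ m
            = ρ (g⁻¹ * (sL * g * sL⁻¹)) * ρ (sL * m * sL⁻¹) := by rw [e2]
          _ = ρ g⁻¹ * ρ (sL * (g * m * g⁻¹) * sL⁻¹) * ρ (sL * g * sL⁻¹) := by
              simp only [← map_mul]; congr 1; group
          _ = ρ g⁻¹ * ρ (g * m * g⁻¹) * ρ (sL * g * sL⁻¹) := by rw [e1]
          _ = ρ m * ρ (g⁻¹ * (sL * g * sL⁻¹)) := by simp only [← map_mul]; congr 1; group
      intro m hm g hg
      have hZ : M ≤ Z.map L.subtype := by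
        refine hgen _ ?_ ?_ fun k hk => ⟨_, htwZ ⟨k, Subgroup.mem_sup_left hk⟩ hk, rfl⟩
        · rintro _ ⟨g, hg, rfl⟩
          exact hg.1
        · refine CfsgLib.Coprime.mem_normalizer_of_forall_conj ?_
          rintro _ ⟨g, hg, rfl⟩
          refine ⟨sL * g * sL⁻¹, ⟨hT'n.conj_mem g hg.1 sL, fun m hm => ?_⟩, rfl⟩
          rw [map_mul, map_mul]
          calc ρ sL * ρ g * ρ sL⁻¹ * ρ m = ρ sL * ρ g * (ρ sL⁻¹ * (ρ m * ρ sL)) * ρ sL⁻¹ := by
                simp only [← map_mul]; congr 1; group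
            _ = ρ sL * (ρ g * ρ m) * ρ sL⁻¹ := by
                rw [← hsm m hm]; simp only [← map_mul]; congr 1; group
            _ = ρ sL * (ρ m * ρ g) * ρ sL⁻¹ := by rw [hg.2 m hm]
            _ = (ρ sL * ρ m) * (ρ g * ρ sL⁻¹) := by simp only [mul_assoc]
            _ = ρ m * (ρ sL * ρ g * ρ sL⁻¹) := by rw [hsm m hm]; simp only [mul_assoc]
      obtain ⟨g', hg', he⟩ := hZ hg
      obtain rfl : g' = g := Subtype.ext he
      exact hg'.2 m hm
    have hM0T : M0' ≤ T' := fun m hm => hm.1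
    haveI hM0'n : M0'.Normal := by
      refine (Subgroup.normal_subgroupOf_iff_le_normalizer (show M0 ≤ L from fun m hm => Subgroup.mem_sup_left hm.1)).mpr
        (sup_le (fun g hg => CfsgLib.Coprime.mem_normalizer_of_forall_conj fun m hm => ?_)
          (Subgroup.zpowers_le.mpr hsM0))
      rw [show g * m * g⁻¹ = ⁅g, m⁆ * m by simp [commutatorElement_def, mul_assoc]]
      exact M0.mul_mem (hcomm0 (Subgroup.commutator_mem_commutator hg hm.1)) hm
    have hM0ab : ∀ a ∈ M0', ∀ b ∈ M0', ρ a * ρ b = ρ b * ρ a := fun a ha b hb => hM0cent b hb a (hM0T ha)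
    have hcl0 : ∀ g ∈ T', ∀ h ∈ T', ⁅g, h⁆ ∈ M0' := fun g hg h hh =>
      hcomm0 (Subgroup.commutator_mem_commutator hg hh)
    obtain ⟨χ, hχne, g0, hg0, h0, hh0, hχ0⟩ : ∃ χ : M0' →* F, eig ρ M0' χ ≠ ⊥ ∧
        ∃ g, ∃ hg : g ∈ T', ∃ h, ∃ hh : h ∈ T', χ ⟨⁅g, h⁆, hcl0 g hg h hh⟩ ≠ 1 := by
      by_contra hc
      push Not at hc
      refine hab fun g hg h hh => ?_
      have h1 : ρ ⁅g, h⁆ = 1 := by
        rw [← sub_eq_zero]
        refine eq_zero_of_forall_eig M0' (hcardN _ hM0T) hM0ab fun χ w hw => ?_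
        rw [LinearMap.sub_apply, Module.End.one_apply, sub_eq_zero]
        rcases eq_or_ne w 0 with rfl | hw0
        · simp
        rw [hw ⟨_, hcl0 g hg h hh⟩, hc χ (fun e => hw0 (by rwa [e, Submodule.mem_bot] at hw)) g hg h hh, one_smul]
      calc ρ g * ρ h = ρ ⁅g, h⁆ * (ρ h * ρ g) := by
            simp only [← map_mul]; congr 1; simp [commutatorElement_def, mul_assoc]
        _ = ρ h * ρ g := by rw [h1, one_mul]
    have hM0s : ∀ m ∈ M0', ρ sL * ρ m = ρ m * ρ sL := fun m hm => ((hcommD m sL).mp hm.2).symm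
    have hdeg : ∀ ψ : M0' →* F, eig ρ M0' ψ ≠ ⊥ →
        ψ ⟨⁅g0, h0⁆, hcl0 g0 hg0 h0 hh0⟩ ≠ 1 → r ≤ Module.finrank F (eig ρ M0' ψ) :=
      degree_bound hctx hr2 hq hq2 hT'p (fun g hg => hMG hg) hM0T hcl0 hM0cent hM0s
        (fun g hg hgs => ⟨hg, by
          have h1 := congrArg Subtype.val hgs
          rw [Subgroup.coe_mul, Subgroup.coe_mul] at h1
          show (g : H)⁻¹ * (s * (g : H) * s⁻¹) ∈ D
          rw [show s * (g : H) = (g : H) * s from h1, mul_inv_cancel_right, inv_mul_cancel]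
          exact D.one_mem⟩)
        (fun X hX hsX => by
          rcases hmin (X.map L.subtype) (by rintro _ ⟨g, hg, rfl⟩; exact hX hg)
            (CfsgLib.Coprime.mem_normalizer_of_forall_conj (by
              rintro _ ⟨g, hg, rfl⟩
              exact ⟨sL * g * sL⁻¹, (mem_normalizer_conj_iff hsX).mpr hg, rfl⟩)) with h | h
          · exact Or.inl fun g hg => ⟨hX hg, h _ ⟨g, hg, rfl⟩⟩
          · refine Or.inr fun g hg => ?_
            obtain ⟨g', hg', he⟩ := h (show (g : H) ∈ M from hg)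
            obtain rfl : g' = g := Subtype.ext he
            exact hg') hg0 hh0
    obtain ⟨χ', hχ'⟩ := hinv χ
    have hχ'ne := exists_inv_weight β hβr hβsymm hβrad hβconj (hcardN M0' hM0T) hχ' hχne
    set c0 : M0' := ⟨⁅g0, h0⁆, hcl0 g0 hg0 h0 hh0⟩
    have hc0' : χ' c0 ≠ 1 := fun e => hχ0 (by
      rw [hχ', char_inv, inv_eq_one] at e
      exact e)
    have hd1 := hdeg χ hχne hχ0
    have hd2 := hdeg χ' hχ'ne hc0'
    have hdisj : Disjoint (eig ρ M0' χ) (eig ρ M0' χ') := by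
      rw [Submodule.disjoint_def]
      intro w hw hw'
      by_contra hw0
      have := DFunLike.congr_fun (char_eq_of_mem hw hw' hw0) c0
      rw [hχ'] at this
      exact hχ0 (hsq hM0T χ c0 this)
    have hle1 : eig ρ M0' χ ≤ U := hinU χ c0 c0.2.1 hχ0
    have hle2 : eig ρ M0' χ' ≤ U := hinU χ' c0 c0.2.1 hc0'
    have h6 := Submodule.finrank_sup_add_finrank_inf_eq (eig ρ M0' χ) (eig ρ M0' χ')
    rw [hdisj.eq_bot, finrank_bot] at h6
    have h7 := Submodule.finrank_mono (sup_le hle1 hle2)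
    omega

end Pairing

end CfsgLib.Turull
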