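import Cfsg.Agent.Lib.Turull.CountB
import Cfsg.Agent.Lib.HallHigman.FreeAction
import Cfsg.Agent.Lib.Coprime.Action

/-!
# The splitting by an automorphism of order prime to the group

The fixed points and the twists of an automorphism split the quotient by the centre into two square orders
with congruences forced by the free actions.
-/

set_option autoImplicit false
set_option linter.style.haveILetI false

namespace CfsgLib.Turull

open Module (End)
open CfsgLib.HallHigman
open scoped commutatorElement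

theorem dvd_card_sub_one_of_free {α : Type*} [Finite α] (π : Equiv.Perm α) {P : ℕ} (hP : 0 < P)
    (hπ : π ^ P = 1) (o : α) (ho : π o = o)
    (hfree : ∀ a, a ≠ o → ∀ i, 0 < i → i < P → (π ^ i) a ≠ a) : P ∣ Nat.card α - 1 :=
  Dvd.intro _ (card_orbits π o hP ho hπ hfree)

theorem pow_subtypePerm_apply {α : Type*} (π : Equiv.Perm α) {S : α → Prop} (h : ∀ a, S (π a) ↔ S a) (i : ℕ)
    (a : {a // S a}) : ((π.subtypePerm h ^ i) a).1 = (π ^ i) a.1 := by
  induction i generalizing a with
  | zero => rfl
  | succ i ih => rw [pow_succ, Equiv.Perm.mul_apply, ih, pow_succ, Equiv.Perm.mul_apply]; rfl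

variable {K U Q : Type*} [Field K] [AddCommGroup U] [Module K U] [Group Q]
  [IsAlgClosed K] [FiniteDimensional K U] [Nontrivial U] [Finite Q]

omit [Nontrivial U] in
/-- A subgroup whose centre is the centre has square index over it. -/
theorem exists_sq_card {ρ : Q →* End K U} (hirr : IsIrred ρ) (hinj : Function.Injective ρ) [Nontrivial U]
    (hcl : ∀ g h : Q, ⁅g, h⁆ ∈ Subgroup.center Q) (S : Subgroup (Q ⧸ Subgroup.center Q))
    (hS : ∀ g : Q, (g : Q ⧸ Subgroup.center Q) ∈ S →
      (∀ h : Q, (h : Q ⧸ Subgroup.center Q) ∈ S → g * h = h * g) → g ∈ Subgroup.center Q) :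
    ∃ d, 0 < d ∧ Nat.card S = d * d := by
  classical
  set P : Subgroup Q := S.comap (QuotientGroup.mk' (Subgroup.center Q))
  have hmem : ∀ g, g ∈ P ↔ (g : Q ⧸ Subgroup.center Q) ∈ S := fun g => Iff.rfl
  have hZP : Subgroup.center Q ≤ P := fun z hz => by
    rw [hmem, (QuotientGroup.eq_one_iff z).mpr hz]; exact S.one_mem
  -- an irreducible piece
  have hex : ∃ n, ∃ W : Submodule K U, W ≠ ⊥ ∧ (∀ g ∈ P, ∀ w ∈ W, ρ g w ∈ W) ∧ Module.finrank K W = n :=
    ⟨_, ⊤, top_ne_bot, fun _ _ _ _ => Submodule.mem_top, rfl⟩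
  obtain ⟨W, hW0, hWinv, hWn⟩ := Nat.find_spec hex
  let ρ0 : P →* End K W :=
    { toFun := fun g => (ρ g).restrict (hWinv g g.2)
      map_one' := LinearMap.ext fun w => Subtype.ext (by simp)
      map_mul' := fun a b => LinearMap.ext fun w => Subtype.ext (by simp) }
  have hW0' : Nontrivial W := Submodule.nontrivial_iff_ne_bot.mpr hW0
  have hirr0 : IsIrred ρ0 := by
    intro X hX
    rw [or_iff_not_imp_left]
    intro hX0
    have hmap : X.map W.subtype ≠ ⊥ := fun h => hX0 (Submodule.map_injective_of_injective W.injective_subtype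
      (h.trans (Submodule.map_bot _).symm))
    have h1 := Nat.find_min' hex (m := Module.finrank K (X.map W.subtype)) ⟨_, hmap, fun g hg w hw => by
      obtain ⟨x, hx, rfl⟩ := hw
      exact ⟨ρ0 ⟨g, hg⟩ x, hX _ x hx, rfl⟩, rfl⟩
    refine Submodule.eq_top_of_finrank_eq (le_antisymm (Submodule.finrank_le X) ?_)
    rw [Submodule.finrank_map_subtype_eq] at h1
    omega
  have hcenter : ∀ g : P, g ∈ Subgroup.center P ↔ (g : Q) ∈ Subgroup.center Q := by
    intro g
    constructor
    · intro hg
      refine hS _ ((hmem _).mp g.2) fun h hh => ?_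
      exact (congrArg Subtype.val ((Subgroup.mem_center_iff.mp hg) ⟨h, (hmem h).mpr hh⟩)).symm
    · intro hg
      exact Subgroup.mem_center_iff.mpr fun h => Subtype.ext (Subgroup.mem_center_iff.mp hg h)
  have hcl0 : ∀ g h : P, ⁅g, h⁆ ∈ Subgroup.center P := fun g h => (hcenter _).mpr (hcl g h)
  have hram0 : IsFullyRamified ρ0 := by
    intro g hg
    refine Subgroup.mem_center_iff.mpr fun h => Subtype.ext ?_
    obtain ⟨c, -, hc⟩ := exists_scalar_of_mem_center hirr (hcl (g : Q) h)
    obtain ⟨w, hw⟩ := exists_ne (0 : W)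
    have h1 : ρ0 ⁅g, h⁆ = 1 := by
      have e : ρ0 (g * h) = ρ0 (h * g) := by rw [map_mul, map_mul, hg h]
      rw [show ⁅g, h⁆ = g * h * (h * g)⁻¹ by simp [commutatorElement_def, mul_assoc], map_mul, e, ← map_mul,
        mul_inv_cancel, map_one]
    have h2 : (c • (w : U)) = (1 : K) • (w : U) := by
      have h3 := congrArg Subtype.val (LinearMap.congr_fun h1 w)
      have h4 : ρ ⁅(g : Q), (h : Q)⁆ (w : U) = (w : U) := h3
      rw [hc, LinearMap.smul_apply, Module.End.one_apply] at h4
      rw [h4, one_smul]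
    have hc1 : c = 1 := smul_left_injective K (fun e => hw (Subtype.ext e)) h2
    have h5 : ⁅(g : Q), (h : Q)⁆ = 1 := hinj (by rw [hc, hc1, one_smul, map_one])
    exact (commutatorElement_eq_one_iff_mul_comm.mp h5).symm
  have h := finrank_sq hirr0 hcl0 hram0
  let f : P →* Q ⧸ Subgroup.center Q := (QuotientGroup.mk' (Subgroup.center Q)).comp P.subtype
  have hker : f.ker = Subgroup.center P := by
    ext g
    rw [hcenter, MonoidHom.mem_ker]
    exact QuotientGroup.eq_one_iff (g : Q)
  have hran : f.range = S := by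
    ext y
    constructor
    · rintro ⟨g, rfl⟩
      exact g.2
    · intro hy
      induction y using QuotientGroup.induction_on with
      | H g => exact ⟨⟨g, hy⟩, rfl⟩
  refine ⟨Module.finrank K W, Module.finrank_pos, ?_⟩
  rw [← pow_two, h, ← Nat.card_congr (QuotientGroup.quotientMulEquivOfEq hker).toEquiv, ← hran]
  exact (Nat.card_congr (QuotientGroup.quotientKerEquivRange f).toEquiv).symm

/-- The fixed points and the twists of `β`. -/
theorem exists_split {ρ : Q →* End K U} (hirr : IsIrred ρ) (hinj : Function.Injective ρ)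
    (hcl : ∀ g h : Q, ⁅g, h⁆ ∈ Subgroup.center Q) (hram : IsFullyRamified ρ) (σ β : MulAut Q)
    {r p : ℕ} [hr : Fact r.Prime] [hp : Fact p.Prime] (hrp : r ≠ p) (hσ : σ ^ r = 1) (hβ : β ^ p = 1)
    (hcomm : ∀ g, σ (β g) = β (σ g))
    (hfix : ∀ g, g⁻¹ * σ g ∈ Subgroup.center Q → g ∈ Subgroup.center Q)
    (hβz : ∀ z ∈ Subgroup.center Q, β z = z)
    (hpY : ¬ p ∣ Nat.card (Q ⧸ Subgroup.center Q)) :
    ∃ d0 d1, Nat.card {a : Q ⧸ Subgroup.center Q // cosetPerm β a = a} = d0 * d0 ∧
      Module.finrank K U = d0 * d1 ∧ r ∣ d0 * d0 - 1 ∧ p * r ∣ d1 * d1 - 1 ∧ 0 < d0 ∧ 0 < d1 := by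
  classical
  letI : CommGroup (Q ⧸ Subgroup.center Q) :=
    { (inferInstance : Group (Q ⧸ Subgroup.center Q)) with
      mul_comm := fun a b => by
        induction a using QuotientGroup.induction_on with
        | H x =>
          induction b using QuotientGroup.induction_on with
          | H y =>
            rw [← QuotientGroup.mk_mul, ← QuotientGroup.mk_mul, QuotientGroup.eq]
            have := hcl y⁻¹ x⁻¹
            simpa [commutatorElement_def, mul_assoc] using this }
  set πb := cosetPerm β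
  have hπb : ∀ a b, πb (a * b) = πb a * πb b := fun a b =>
    map_mul (QuotientGroup.congr _ _ β (Subgroup.characteristic_iff_map_eq.mp inferInstance β)) a b
  let θ : Q ⧸ Subgroup.center Q →* Q ⧸ Subgroup.center Q :=
    MonoidHom.mk' (fun y => y⁻¹ * πb y) fun a b => by rw [hπb, mul_inv, mul_mul_mul_comm]
  have hθ : ∀ y, θ y = y⁻¹ * πb y := fun y => rfl
  have hker : ∀ y, y ∈ θ.ker ↔ πb y = y := fun y => by
    rw [MonoidHom.mem_ker, hθ, inv_mul_eq_one, eq_comm]
  have hinf : ∀ y, y ∈ θ.ker → y ∈ θ.range → y = 1 := by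
    rintro _ hy ⟨x, rfl⟩
    rw [hker] at hy
    have hpow : ∀ k, (πb ^ k) x = x * θ x ^ k := by
      intro k
      induction k with
      | zero => simp
      | succ k ih =>
        have h1 : ∀ m, πb (θ x ^ m) = θ x ^ m := fun m => by
          induction m with
          | zero => rw [pow_zero]; exact cosetPerm_one β
          | succ m ihm => rw [pow_succ, hπb, ihm, hy]
        rw [pow_succ', Equiv.Perm.mul_apply, ih, hπb, h1, show πb x = x * θ x by rw [hθ, mul_inv_cancel_left],
          pow_succ', mul_assoc]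
    have h2 := hpow p
    rw [cosetPerm_pow_eq_one β hβ, Equiv.Perm.one_apply, left_eq_mul] at h2
    have h3 : orderOf (θ x) ∣ p := orderOf_dvd_of_pow_eq_one h2
    rcases (Nat.dvd_prime hp.out).mp h3 with h4 | h4
    · exact orderOf_eq_one_iff.mp h4
    · exact absurd (h4 ▸ orderOf_dvd_natCard (θ x)) hpY
  have hcard : Nat.card θ.ker * Nat.card θ.range = Nat.card (Q ⧸ Subgroup.center Q) := by
    rw [← Subgroup.index_ker, θ.ker.card_mul_index]
  have hgen : θ.ker ⊔ θ.range = ⊤ := by
    refine Subgroup.eq_top_of_card_eq _ ?_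
    rw [← hcard, CfsgLib.Coprime.card_sup_of_disjoint
      (fun g _ => by rw [Subgroup.normalizer_eq_top]; exact Subgroup.mem_top g)
      (eq_bot_iff.mpr fun y hy => hinf y hy.2 hy.1)]
  have hcenker : ∀ g : Q, (g : Q ⧸ Subgroup.center Q) ∈ θ.ker →
      (∀ h : Q, (h : Q ⧸ Subgroup.center Q) ∈ θ.ker → g * h = h * g) → g ∈ Subgroup.center Q := by
    intro g hg hcomm'
    have hβg : g⁻¹ * β g ∈ Subgroup.center Q := by
      rw [← QuotientGroup.eq]
      exact (((hker _).mp hg)).symm
    have hC : ∀ t : Q, g * (t⁻¹ * β t) = (t⁻¹ * β t) * g := by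
      intro t
      have hc : ⁅g, β t⁆ = ⁅g, t⁆ := by
        conv_rhs => rw [← hβz _ (hcl g t)]
        rw [show β ⁅g, t⁆ = ⁅β g, β t⁆ from map_commutatorElement β.toMonoidHom g t]
        conv_rhs => rw [show β g = g * (g⁻¹ * β g) by group, commutatorElement_mul_left_eq_conj_mul,
          commutatorElement_eq_one_iff_mul_comm.mpr (Subgroup.mem_center_iff.mp hβg (β t)).symm]
        group
      have hz := Subgroup.mem_center_iff.mp (hcl g t)
      have e2 : g * β t = ⁅g, β t⁆ * (β t * g) := by simp [commutatorElement_def, mul_assoc]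
      have e3 : g * t⁻¹ = t⁻¹ * ⁅g, t⁆⁻¹ * g := by simp [commutatorElement_def, mul_assoc]
      calc g * (t⁻¹ * β t) = t⁻¹ * ⁅g, t⁆⁻¹ * (g * β t) := by rw [← mul_assoc, e3, mul_assoc]
        _ = t⁻¹ * ⁅g, t⁆⁻¹ * (⁅g, t⁆ * (β t * g)) := by rw [e2, hc]
        _ = (t⁻¹ * β t) * g := by group
    refine Subgroup.mem_center_iff.mpr fun t => ?_
    obtain ⟨a, ha, b, ⟨x, rfl⟩, hab⟩ := Subgroup.mem_sup.mp
      (hgen.ge (Subgroup.mem_top (t : Q ⧸ Subgroup.center Q)))
    induction a using QuotientGroup.induction_on with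
    | H a =>
      induction x using QuotientGroup.induction_on with
      | H x =>
        have hz : (a * (x⁻¹ * β x))⁻¹ * t ∈ Subgroup.center Q := by
          rw [← QuotientGroup.eq]
          exact hab
        set z := (a * (x⁻¹ * β x))⁻¹ * t with hzdef
        have ht : t = a * (x⁻¹ * β x) * z := by rw [hzdef]; group
        rw [ht]
        calc a * (x⁻¹ * β x) * z * g = a * ((x⁻¹ * β x) * (g * z)) := by
              rw [Subgroup.mem_center_iff.mp hz g]; group
          _ = a * (((x⁻¹ * β x) * g) * z) := by group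
          _ = a * ((g * (x⁻¹ * β x)) * z) := by rw [← hC x]
          _ = (a * g) * ((x⁻¹ * β x) * z) := by group
          _ = g * (a * (x⁻¹ * β x) * z) := by rw [← hcomm' a ha]; group
  obtain ⟨d0, hd0, hk⟩ := exists_sq_card hirr hinj hcl θ.ker hcenker
  have hkercard : Nat.card {a : Q ⧸ Subgroup.center Q // πb a = a} = Nat.card θ.ker :=
    Nat.card_congr (Equiv.subtypeEquivRight fun a => (hker a).symm)
  have hsq := finrank_sq hirr hcl hram
  rw [← hcard, hk] at hsq
  obtain ⟨d1, hd1⟩ : d0 ∣ Module.finrank K U := by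
    rw [← Nat.pow_dvd_pow_iff two_ne_zero]
    exact ⟨Nat.card θ.range, by rw [hsq]; ring⟩
  have hrange : Nat.card θ.range = d1 * d1 := by
    rw [hd1] at hsq
    have : d0 * d0 * (d1 * d1) = d0 * d0 * Nat.card θ.range := by rw [← hsq]; ring
    exact (Nat.eq_of_mul_eq_mul_left (Nat.mul_pos hd0 hd0) this).symm
  refine ⟨d0, d1, hkercard.trans hk, hd1, ?_, ?_, hd0, Nat.pos_of_ne_zero ?_⟩
  · -- free action of `σ` on the fixed points
    rw [← hk, ← hkercard]
    have hS : ∀ a, πb (cosetPerm σ a) = cosetPerm σ a ↔ πb a = a := by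
      intro a
      have h1 : πb (cosetPerm σ a) = cosetPerm σ (πb a) := by
        induction a using QuotientGroup.induction_on with
        | H g => rw [cosetPerm_mk, cosetPerm_mk, cosetPerm_mk, cosetPerm_mk, hcomm]
      rw [h1]
      exact (cosetPerm σ).injective.eq_iff
    refine dvd_card_sub_one_of_free ((cosetPerm σ).subtypePerm hS) hr.out.pos
      (Equiv.ext fun a => Subtype.ext ?_) ⟨1, cosetPerm_one β⟩ (Subtype.ext (cosetPerm_one σ)) ?_
    · rw [pow_subtypePerm_apply, cosetPerm_pow_eq_one σ hσ]; rfl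
    · intro a ha i hi0 hi e
      have e' := congrArg Subtype.val e
      rw [pow_subtypePerm_apply] at e'
      refine perm_free_of_moved hr.out (cosetPerm_pow_eq_one σ hσ) (fun h => ha (Subtype.ext ?_)) hi0 hi e'
      obtain ⟨a, ha'⟩ := a
      induction a using QuotientGroup.induction_on with
      | H g =>
        rw [cosetPerm_mk, eq_comm, QuotientGroup.eq] at h
        exact (QuotientGroup.eq_one_iff g).mpr (hfix g h)
  · -- free action of `σ β` on the twists
    have hcommP : Commute (cosetPerm σ) πb := Equiv.ext fun a => by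
      induction a using QuotientGroup.induction_on with
      | H g => simp only [Equiv.Perm.mul_apply, πb, cosetPerm_mk, hcomm]
    have hmul : ∀ (π : MulAut Q) a b, cosetPerm π (a * b) = cosetPerm π a * cosetPerm π b := fun π a b =>
      map_mul (QuotientGroup.congr _ _ π (Subgroup.characteristic_iff_map_eq.mp inferInstance π)) a b
    have hS : ∀ a, (cosetPerm σ * πb) a ∈ θ.range ↔ a ∈ θ.range := by
      have himg : ∀ y, (cosetPerm σ * πb) (θ y) = θ ((cosetPerm σ * πb) y) := by
        intro y
        have hi : ∀ (π : MulAut Q) a, cosetPerm π a⁻¹ = (cosetPerm π a)⁻¹ := fun π a =>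
          map_inv (QuotientGroup.congr _ _ π (Subgroup.characteristic_iff_map_eq.mp inferInstance π)) a
        simp only [hθ, Equiv.Perm.mul_apply, πb, hmul, hi]
        congr 1
        exact (congrArg (fun π : Equiv.Perm (Q ⧸ Subgroup.center Q) => π (cosetPerm β y)) hcommP.eq)
      intro a
      constructor
      · rintro ⟨y, hy⟩
        refine ⟨(cosetPerm σ * πb).symm y, (cosetPerm σ * πb).injective ?_⟩
        rw [himg, Equiv.apply_symm_apply, hy]
      · rintro ⟨y, rfl⟩
        exact ⟨_, (himg y).symm⟩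
    have hπ : (cosetPerm σ * πb) ^ (p * r) = 1 := by
      rw [hcommP.mul_pow, mul_comm p r, pow_mul, cosetPerm_pow_eq_one σ hσ, one_pow, one_mul, mul_comm r p,
        pow_mul, cosetPerm_pow_eq_one β hβ, one_pow]
    rw [← hrange]
    refine dvd_card_sub_one_of_free ((cosetPerm σ * πb).subtypePerm hS) (Nat.mul_pos hp.out.pos hr.out.pos)
      (Equiv.ext fun a => Subtype.ext ?_) ⟨1, θ.range.one_mem⟩
      (Subtype.ext (by show cosetPerm σ (cosetPerm β 1) = 1; rw [cosetPerm_one, cosetPerm_one])) ?_
    · rw [pow_subtypePerm_apply, hπ]; rfl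
    · intro a ha i hi0 hi e
      have e' := congrArg Subtype.val e
      rw [pow_subtypePerm_apply] at e'
      have ha1 : a.1 ≠ 1 := fun h => ha (Subtype.ext h)
      refine perm_product_free hr.out hp.out hrp (cosetPerm_pow_eq_one σ hσ) (cosetPerm_pow_eq_one β hβ)
        hcommP (fun h => ha1 ?_) (fun h => ha1 (hinf _ ((hker _).mpr h) a.2)) hi0 (mul_comm p r ▸ hi) e'
      obtain ⟨a, ha'⟩ := a
      induction a using QuotientGroup.induction_on with
      | H g =>
        rw [cosetPerm_mk, eq_comm, QuotientGroup.eq] at h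
        exact (QuotientGroup.eq_one_iff g).mpr (hfix g h)
  · intro h
    rw [h, mul_zero] at hd1
    exact (Module.finrank_pos (R := K) (M := U)).ne' hd1

end CfsgLib.Turull
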