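import Cfsg.Agent.Lib.Structure80.NilpotentResidual
import Cfsg.Agent.Lib.Coprime.Commutator
import Cfsg.Agent.Lib.Turull.Orbit

/-!
# Commutators modulo a subgroup and residuals

Centralisers of sections, residuals of products and coprime commutators inside the iterated residual.
-/

set_option autoImplicit false
set_option linter.style.haveILetI false

namespace CfsgLib.Turull

open scoped commutatorElement
open CfsgLib.FittingLength

universe u

variable {X : Type u} [Group X]

theorem mem_normalizer_of_le {A : Subgroup X} {a : X} (ha : a ∈ A) :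
    a ∈ Subgroup.normalizer (A : Set X) :=
  Subgroup.le_normalizer ha

/-- The elements centralising the section `P/Q`. -/
def stabMod (P Q : Subgroup X) : Subgroup X where
  carrier := {g | g ∈ Subgroup.normalizer (P : Set X) ∧ g ∈ Subgroup.normalizer (Q : Set X) ∧
    ∀ x ∈ P, ⁅x, g⁆ ∈ Q}
  one_mem' := ⟨one_mem _, one_mem _, fun x _ => by simp [commutatorElement_def]⟩
  mul_mem' := fun {a b} ha hb => ⟨mul_mem ha.1 hb.1, mul_mem ha.2.1 hb.2.1, fun x hx => by
    rw [show ⁅x, a * b⁆ = ⁅x, a⁆ * (a * ⁅x, b⁆ * a⁻¹) by simp only [commutatorElement_def]; group]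
    exact Q.mul_mem (ha.2.2 x hx) ((mem_normalizer_conj_iff ha.2.1).mpr (hb.2.2 x hx))⟩
  inv_mem' := fun {a} ha => ⟨inv_mem ha.1, inv_mem ha.2.1, fun x hx => by
    rw [show ⁅x, a⁻¹⁆ = a⁻¹ * ⁅x, a⁆⁻¹ * a⁻¹⁻¹ by simp only [commutatorElement_def]; group]
    exact (mem_normalizer_conj_iff (inv_mem ha.2.1)).mpr (Q.inv_mem (ha.2.2 x hx))⟩

theorem commutator_le_iff_le_stabMod {P Q A : Subgroup X} (hP : A ≤ Subgroup.normalizer (P : Set X))
    (hQ : A ≤ Subgroup.normalizer (Q : Set X)) : ⁅P, A⁆ ≤ Q ↔ A ≤ stabMod P Q := by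
  rw [Subgroup.commutator_le]
  exact ⟨fun h a ha => ⟨hP ha, hQ ha, fun x hx => h x hx a ha⟩, fun h x hx a ha => (h ha).2.2 x hx⟩

theorem le_normalizer_stabMod [Finite X] {P Q A : Subgroup X} (hP : A ≤ Subgroup.normalizer (P : Set X))
    (hQ : A ≤ Subgroup.normalizer (Q : Set X)) : A ≤ Subgroup.normalizer (stabMod P Q : Set X) := by
  refine fun g hg => CfsgLib.Coprime.mem_normalizer_of_forall_conj fun a ha => ?_
  refine ⟨mul_mem (mul_mem (hP hg) ha.1) (inv_mem (hP hg)), mul_mem (mul_mem (hQ hg) ha.2.1) (inv_mem (hQ hg)),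
    fun x hx => ?_⟩
  rw [show ⁅x, g * a * g⁻¹⁆ = g * ⁅g⁻¹ * x * g⁻¹⁻¹, a⁆ * g⁻¹ by simp only [commutatorElement_def]; group]
  exact (mem_normalizer_conj_iff (hQ hg)).mpr (ha.2.2 _ ((mem_normalizer_conj_iff (inv_mem (hP hg))).mpr hx))

/-- Joins are normalised by common normalisers. -/
theorem le_normalizer_join {A B C : Subgroup X} (hA : C ≤ Subgroup.normalizer (A : Set X))
    (hB : C ≤ Subgroup.normalizer (B : Set X)) : C ≤ Subgroup.normalizer ((A ⊔ B : Subgroup X) : Set X) := by
  intro g hg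
  rw [Subgroup.mem_normalizer_iff_map_conj_eq, Subgroup.map_sup,
    Subgroup.mem_normalizer_iff_map_conj_eq.mp (hA hg), Subgroup.mem_normalizer_iff_map_conj_eq.mp (hB hg)]

theorem le_normalizer_inter {A B C : Subgroup X} (hA : C ≤ Subgroup.normalizer (A : Set X))
    (hB : C ≤ Subgroup.normalizer (B : Set X)) : C ≤ Subgroup.normalizer ((A ⊓ B : Subgroup X) : Set X) := by
  intro g hg
  rw [Subgroup.mem_normalizer_iff_map_conj_eq, Subgroup.map_inf _ _ _ (MulEquiv.injective _),
    Subgroup.mem_normalizer_iff_map_conj_eq.mp (hA hg), Subgroup.mem_normalizer_iff_map_conj_eq.mp (hB hg)]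

theorem le_normalizer_commutator {A B C : Subgroup X} (hA : C ≤ Subgroup.normalizer (A : Set X))
    (hB : C ≤ Subgroup.normalizer (B : Set X)) : C ≤ Subgroup.normalizer ((⁅A, B⁆ : Subgroup X) : Set X) := by
  intro g hg
  rw [Subgroup.mem_normalizer_iff_map_conj_eq, Subgroup.map_commutator,
    Subgroup.mem_normalizer_iff_map_conj_eq.mp (hA hg), Subgroup.mem_normalizer_iff_map_conj_eq.mp (hB hg)]

/-- Commutators modulo a normalised subgroup. -/
theorem commutator_sup_le {A R Y : Subgroup X} (hA : A ≤ Subgroup.normalizer (R : Set X)) (hY : Y ≤ A) :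
    ⁅Y ⊔ R, A ⊔ R⁆ ≤ ⁅Y, A⁆ ⊔ R := by
  set T := ⁅Y, A⁆ ⊔ R with hT
  have hAT : A ≤ Subgroup.normalizer (T : Set X) :=
    le_normalizer_join (CfsgLib.Coprime.le_normalizer_commutator_right Y A) hA
  have hRT : R ≤ Subgroup.normalizer (T : Set X) := le_sup_right.trans Subgroup.le_normalizer
  have hR : ∀ g ∈ A ⊔ R, g ∈ Subgroup.normalizer (R : Set X) := fun g hg =>
    (sup_le hA Subgroup.le_normalizer : A ⊔ R ≤ _) hg
  refine Subgroup.commutator_le.mpr fun x hx g hg => ?_
  obtain ⟨y, hy, r, hr, rfl⟩ := CfsgLib.Coprime.exists_mul_of_mem_sup (hY.trans hA) hx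
  obtain ⟨a, ha, r', hr', rfl⟩ := CfsgLib.Coprime.exists_mul_of_mem_sup hA hg
  have h1 : ⁅r, a * r'⁆ ∈ R := by
    rw [show ⁅r, a * r'⁆ = r * ((a * r') * r⁻¹ * (a * r')⁻¹) by simp only [commutatorElement_def]; group]
    exact R.mul_mem hr ((mem_normalizer_conj_iff (hR _ hg)).mpr (R.inv_mem hr))
  have h2 : ⁅y, r'⁆ ∈ R := by
    rw [show ⁅y, r'⁆ = (y * r' * y⁻¹) * r'⁻¹ by simp only [commutatorElement_def]]
    exact R.mul_mem ((mem_normalizer_conj_iff (hA (hY hy))).mpr hr') (R.inv_mem hr')
  rw [show ⁅y * r, a * r'⁆ = (y * ⁅r, a * r'⁆ * y⁻¹) * (⁅y, a⁆ * (a * ⁅y, r'⁆ * a⁻¹)) by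
    simp only [commutatorElement_def]; group]
  exact T.mul_mem (Subgroup.mem_sup_right ((mem_normalizer_conj_iff (hA (hY hy))).mpr h1))
    (T.mul_mem (Subgroup.mem_sup_left (Subgroup.commutator_mem_commutator hy ha))
      ((mem_normalizer_conj_iff (hAT ha)).mpr (Subgroup.mem_sup_right h2)))

theorem lowerCentralSeries_sup_le {A R : Subgroup X} (hA : A ≤ Subgroup.normalizer (R : Set X)) (k : ℕ) :
    (A ⊔ R).lowerCentralSeries k ≤ A.lowerCentralSeries k ⊔ R := by
  induction k with
  | zero => exact le_rfl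
  | succ k ih =>
    exact (Subgroup.commutator_mono ih le_rfl).trans
      (commutator_sup_le hA (Subgroup.lowerCentralSeries_antitone A (Nat.zero_le k)))

theorem res_sup_le [Finite X] {A R : Subgroup X} (hA : A ≤ Subgroup.normalizer (R : Set X)) :
    res (A ⊔ R) ≤ res A ⊔ R := by
  obtain ⟨k, hk⟩ := exists_res_eq A
  rw [hk k le_rfl]
  exact (res_le_lowerCentralSeries _ k).trans (lowerCentralSeries_sup_le hA k)

/-- The residual is stable under commutation with the group. -/
theorem res_le_commutator [Finite X] (H : Subgroup X) : res H ≤ ⁅res H, H⁆ := by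
  obtain ⟨k, hk⟩ := exists_res_eq H
  conv_lhs => rw [hk (k + 1) (Nat.le_succ k)]
  exact Subgroup.commutator_mono (hk k le_rfl).ge le_rfl

theorem resIter_add (m n : ℕ) (H : Subgroup X) : resIter (m + n) H = resIter m (resIter n H) := by
  induction m with
  | zero => rw [Nat.zero_add]; rfl
  | succ m ih => rw [Nat.succ_add, resIter_succ, ih, resIter_succ]

theorem resIter_sup_le [Finite X] {A R H : Subgroup X} (hA : A ≤ Subgroup.normalizer (R : Set X))
    (hH : H ≤ A ⊔ R) (k : ℕ) : resIter k H ≤ resIter k A ⊔ R := by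
  induction k with
  | zero => exact hH
  | succ k ih => exact (res_mono ih).trans (res_sup_le ((resIter_le k A).trans hA))

theorem le_normalizer_resIter_self [Finite X] (k : ℕ) (C : Subgroup X) :
    C ≤ Subgroup.normalizer (resIter k C : Set X) :=
  le_normalizer_resIter k Subgroup.le_normalizer

/-- Commutators with the iterated residual stay in it. -/
theorem commutator_le_resIter [Finite X] {C Q Z : Subgroup X} {k : ℕ} (hQ : Q ≤ C) (hZ : Z ≤ resIter k C) :
    ⁅Q, Z⁆ ≤ resIter k C := by
  rw [Subgroup.commutator_comm]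
  exact (Subgroup.commutator_mono hZ le_rfl).trans
    (CfsgLib.Coprime.commutator_le_of_normalizes (hQ.trans (le_normalizer_resIter_self k C)))

/-- Coprime commutators gain one step in the residual. -/
theorem commutator_le_resIter_succ [Finite X] {C Q Z : Subgroup X} {k : ℕ} (hQ : Q ≤ C) (hZ : Z ≤ resIter k C)
    (hZQ : Z ≤ Subgroup.normalizer (Q : Set X)) (hcop : (Nat.card Z).Coprime (Nat.card Q))
    (hsolv : Group.IsSolvable Z ∨ Group.IsSolvable Q) : ⁅Q, Z⁆ ≤ resIter (k + 1) C := by
  rw [resIter_succ]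
  refine le_iInf fun m => ?_
  induction m with
  | zero => exact commutator_le_resIter hQ hZ
  | succ m ih =>
    rw [← CfsgLib.Coprime.commutator_commutator_eq Z Q hZQ hcop hsolv]
    exact Subgroup.commutator_mono ih hZ

/-- A solvable group covered by its derived group modulo a normalised subgroup is inside it. -/
theorem le_of_le_commutator_sup {R N : Subgroup X} [Group.IsSolvable R]
    (hN : R ≤ Subgroup.normalizer (N : Set X)) (h : R ≤ ⁅R, R⁆ ⊔ N) : R ≤ N := by
  have hR : ∀ k, R ≤ ((derivedSeries R k).map R.subtype) ⊔ N := by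
    intro k
    induction k with
    | zero => rw [derivedSeries_zero, ← MonoidHom.range_eq_map, Subgroup.range_subtype]; exact le_sup_left
    | succ k ih =>
      refine h.trans (sup_le ?_ le_sup_right)
      have hD : (derivedSeries R k).map R.subtype ≤ Subgroup.normalizer (N : Set X) :=
        (Subgroup.map_subtype_le _).trans hN
      refine (Subgroup.commutator_mono ih ih).trans ((commutator_sup_le hD le_rfl).trans ?_)
      rw [derivedSeries_succ, Subgroup.map_commutator]
  obtain ⟨n, hn⟩ := (isSolvable_def R).mp inferInstance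
  have := hR n
  rwa [hn, Subgroup.map_bot, bot_sup_eq] at this

/-- A subgroup covered by its commutator with a nilpotent overgroup modulo a normalised subgroup is inside it. -/
theorem le_of_le_commutator_nilpotent [Finite X] {Q U M : Subgroup X} (hU : Group.IsNilpotent U)
    (hM : U ≤ Subgroup.normalizer (M : Set X)) (hQ : Q ≤ U) (h : Q ≤ ⁅Q, U⁆ ⊔ M) : Q ≤ M := by
  have hk : ∀ k, Q ≤ U.lowerCentralSeries k ⊔ M := by
    intro k
    induction k with
    | zero => exact hQ.trans le_sup_left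
    | succ k ih =>
      refine h.trans (sup_le ?_ le_sup_right)
      exact (Subgroup.commutator_mono ih (le_sup_left : U ≤ U ⊔ M)).trans
        (commutator_sup_le hM (Subgroup.lowerCentralSeries_antitone U (Nat.zero_le k)))
  obtain ⟨k, hk'⟩ := exists_res_eq U
  have := hk k
  rwa [← hk' k le_rfl, (res_eq_bot_iff U).mpr hU, bot_sup_eq] at this

end CfsgLib.Turull
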