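import Cfsg.Agent.Lib.Turull.Tower
import Cfsg.Agent.Lib.Coprime.Action
import Cfsg.Agent.Lib.Turull.SmallCore

/-!
# Towers exist

A solvable group with an operator of coprime order has an invariant tower whose height is the Fitting height.
-/

set_option autoImplicit false
set_option linter.style.haveILetI false

namespace CfsgLib.Turull

open scoped commutatorElement Pointwise
open CfsgLib.FittingLength

universe u

variable {X : Type u} [Group X]

/-- The iterated commutator along a sequence of subgroups. -/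
def chainE (P : ℕ → Subgroup X) : ℕ → Subgroup X
  | 0 => P 0
  | i + 1 => ⁅P (i + 1), chainE P i⁆

theorem chainE_congr {P P' : ℕ → Subgroup X} {m : ℕ} (h : ∀ l ≤ m, P l = P' l) : chainE P m = chainE P' m := by
  induction m with
  | zero => exact h 0 le_rfl
  | succ m ih => rw [chainE, chainE, h (m + 1) le_rfl, ih fun l hl => h l (Nat.le_succ_of_le hl)]

/-- An invariant tower of `p`-groups up to the index `m`. -/
structure IsTower (s : X) (G : Subgroup X) (p : ℕ → ℕ) (P : ℕ → Subgroup X) (m : ℕ) : Prop where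
  pgroup : ∀ i ≤ m, IsPGroup (p i) (P i)
  le : ∀ i ≤ m, P i ≤ G
  inv : ∀ i ≤ m, s ∈ Subgroup.normalizer (P i : Set X)
  norm : ∀ i l, i < l → l ≤ m → P i ≤ Subgroup.normalizer (P l : Set X)
  ne : ∀ i < m, p i ≠ p (i + 1)

theorem IsTower.chainE_le {s : X} {G : Subgroup X} {p : ℕ → ℕ} {P : ℕ → Subgroup X} {m : ℕ}
    (t : IsTower s G p P m) : ∀ i ≤ m, chainE P i ≤ P i := by
  intro i hi
  induction i with
  | zero => exact le_rfl
  | succ i ih =>
    exact CfsgLib.Coprime.commutator_le_of_normalizes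
      ((ih (Nat.le_of_succ_le hi)).trans (t.norm i (i + 1) (Nat.lt_succ_self i) hi))

variable [Finite X]

/-- A nontrivial invariant section of a solvable group has an invariant elementary quotient, covered by an
invariant `q`-subgroup. -/
theorem exists_section {s : X} {r : ℕ} (hr : r.Prime) (hs : s ^ r = 1) {H R K : Subgroup X}
    [Group.IsSolvable R] (hcop : ¬ r ∣ Nat.card R) (hRH : R ≤ H) (hHR : H ≤ Subgroup.normalizer (R : Set X))
    (hsR : s ∈ Subgroup.normalizer (R : Set X)) (hHK : H ≤ Subgroup.normalizer (K : Set X))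
    (hsK : s ∈ Subgroup.normalizer (K : Set X)) (hne : ¬ R ≤ K) {p0 : ℕ}
    (hp0 : ∀ x ∈ R, ∀ k : ℕ, x ^ p0 ^ k ∈ K → x ∈ K) :
    ∃ (q : ℕ) (Q N : Subgroup X), q.Prime ∧ q ≠ p0 ∧ IsPGroup q Q ∧ Q ≤ R ∧
      s ∈ Subgroup.normalizer (Q : Set X) ∧ H ≤ R ⊔ (H ⊓ Subgroup.normalizer (Q : Set X)) ∧
      R ⊓ K ≤ N ∧ N ≤ R ∧ H ≤ Subgroup.normalizer (N : Set X) ∧ s ∈ Subgroup.normalizer (N : Set X) ∧
      ⁅R, R⁆ ≤ N ∧ R ≤ N ⊔ Q ∧ ¬ Q ≤ N ∧
      ∀ D : Subgroup X, N ≤ D → D ≤ R → H ≤ Subgroup.normalizer (D : Set X) →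
        s ∈ Subgroup.normalizer (D : Set X) → D ≤ N ∨ R ≤ D := by
  classical
  let A := H ⊔ Subgroup.zpowers s
  have hAR : A ≤ Subgroup.normalizer (R : Set X) := sup_le hHR (Subgroup.zpowers_le.mpr hsR)
  have hAK : A ≤ Subgroup.normalizer (K : Set X) := sup_le hHK (Subgroup.zpowers_le.mpr hsK)
  obtain ⟨N, -, ⟨hN1, hN2, hN3, hN4⟩, hmax⟩ := (Set.toFinite {N : Subgroup X | R ⊓ K ≤ N ∧ N ≤ R ∧
    A ≤ Subgroup.normalizer (N : Set X) ∧ ¬ R ≤ N}).exists_le_maximal (a := R ⊓ K)
      ⟨le_rfl, inf_le_left, le_normalizer_inter hAR hAK, fun h => hne (h.trans inf_le_right)⟩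
  have hmax' : ∀ D : Subgroup X, N ≤ D → D ≤ R → A ≤ Subgroup.normalizer (D : Set X) → D ≤ N ∨ R ≤ D :=
    fun D hND hDR hD => or_iff_not_imp_right.mpr fun h => hmax ⟨hN1.trans hND, hDR, hD, h⟩ hND
  have hRn : R ≤ Subgroup.normalizer (N : Set X) := (hRH.trans le_sup_left).trans hN3
  -- abelian
  have hab : ⁅R, R⁆ ≤ N := by
    have hD : ⁅R, R⁆ ⊔ N ≤ R := sup_le (Subgroup.commutator_le.mpr fun a ha b hb =>
      R.mul_mem (R.mul_mem (R.mul_mem ha hb) (R.inv_mem ha)) (R.inv_mem hb)) hN2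
    rcases hmax' _ le_sup_right hD (le_normalizer_join (le_normalizer_commutator hAR hAR) hN3) with h | h
    · exact le_sup_left.trans h
    · exact absurd (le_of_le_commutator_sup hRn h) hN4
  -- exponent
  haveI : (N.subgroupOf R).Normal := Subgroup.normal_subgroupOf_of_le_normalizer hRn
  set mk := QuotientGroup.mk' (N.subgroupOf R)
  haveI : Nontrivial (R ⧸ N.subgroupOf R) :=
    QuotientGroup.nontrivial_iff.mpr fun h => hN4 (Subgroup.subgroupOf_eq_top.mp h)
  obtain ⟨q, hq, hqd⟩ := Nat.exists_prime_and_dvd (Finite.one_lt_card (α := R ⧸ N.subgroupOf R)).ne'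
  haveI : Fact q.Prime := ⟨hq⟩
  obtain ⟨z, hz⟩ := exists_prime_orderOf_dvd_card' q hqd
  have hcomm : ∀ a b : R ⧸ N.subgroupOf R, a * b = b * a := by
    intro a b
    induction a using QuotientGroup.induction_on with
    | H a =>
      induction b using QuotientGroup.induction_on with
      | H b =>
        rw [← QuotientGroup.mk_mul, ← QuotientGroup.mk_mul, QuotientGroup.eq, Subgroup.mem_subgroupOf]
        rw [show (((a * b)⁻¹ * (b * a) : R) : X) = ⁅(b : X)⁻¹, (a : X)⁻¹⁆ by
          simp [commutatorElement_def, mul_assoc]]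
        exact hab (Subgroup.commutator_mem_commutator (R.inv_mem b.2) (R.inv_mem a.2))
  have hpow : ∀ x ∈ R, x ^ q ∈ N := by
    let ψ : (R ⧸ N.subgroupOf R) →* (R ⧸ N.subgroupOf R) :=
      { toFun := fun y => y ^ q, map_one' := one_pow q, map_mul' := fun a b => (show Commute a b from hcomm a b).mul_pow q }
    have hns : ¬ Function.Surjective ψ := fun h => by
      have h1 : z = 1 := (Finite.injective_iff_surjective.mpr h) (show z ^ q = 1 ^ q by
        rw [one_pow, ← hz, pow_orderOf_eq_one])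
      rw [h1, orderOf_one] at hz
      exact hq.one_lt.ne hz
    set D := (ψ.range.comap mk).map R.subtype with hD
    have hND : N ≤ D := fun x hx => ⟨⟨x, hN2 hx⟩, show mk ⟨x, hN2 hx⟩ ∈ ψ.range by
      rw [QuotientGroup.mk'_apply,
        (QuotientGroup.eq_one_iff _).mpr (Subgroup.mem_subgroupOf.mpr hx)]
      exact one_mem _, rfl⟩
    have hDn : A ≤ Subgroup.normalizer (D : Set X) := fun g hg =>
      CfsgLib.Coprime.mem_normalizer_of_forall_conj fun x hx => by
        obtain ⟨x, hx', rfl⟩ := hx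
        obtain ⟨y, hy⟩ := hx'
        induction y using QuotientGroup.induction_on with
        | H y =>
          have hy' : ((y ^ q : R) : X)⁻¹ * x ∈ N := Subgroup.mem_subgroupOf.mp (QuotientGroup.eq.mp hy)
          refine ⟨⟨g * x * g⁻¹, (mem_normalizer_conj_iff (hAR hg)).mpr x.2⟩, ⟨mk ⟨g * y * g⁻¹,
            (mem_normalizer_conj_iff (hAR hg)).mpr y.2⟩, QuotientGroup.eq.mpr (Subgroup.mem_subgroupOf.mpr ?_)⟩, rfl⟩
          have h1 := (mem_normalizer_conj_iff (hN3 hg)).mpr hy'
          convert h1 using 1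
          simp only [Subgroup.coe_mul, Subgroup.coe_inv, SubgroupClass.coe_pow, conj_pow]
          group
    rcases hmax' D hND (Subgroup.map_subtype_le _) hDn with h | h
    · intro x hx
      exact h ⟨⟨x, hx⟩ ^ q, ⟨mk ⟨x, hx⟩, (map_pow mk (⟨x, hx⟩ : R) q).symm⟩, rfl⟩
    · refine absurd (fun y => ?_) hns
      induction y using QuotientGroup.induction_on with
      | H y =>
        obtain ⟨y', hy', he⟩ := h y.2
        obtain rfl : y' = y := Subtype.ext he
        exact hy'
  -- the invariant Sylow subgroup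
  obtain ⟨S, hS⟩ := CfsgLib.Coprime.exists_invariant_sylow (Subgroup.zpowers s) R (Subgroup.zpowers_le.mpr hsR)
    (((hr.coprime_iff_not_dvd).mpr hcop).coprime_dvd_left
      (by rw [Nat.card_zpowers]; exact orderOf_dvd_of_pow_eq_one hs))
    (Or.inl inferInstance) q
  set Q := (S : Subgroup R).map R.subtype with hQ
  have hQR : Q ≤ R := Subgroup.map_subtype_le _
  have hcov : R ≤ N ⊔ Q := by
    haveI : (N.subgroupOf (Subgroup.normalizer (N : Set X))).Normal :=
      Subgroup.normal_subgroupOf_of_le_normalizer le_rfl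
    intro x hx
    let L := Subgroup.normalizer (N : Set X)
    let S' : Sylow q (R.subgroupOf L) := S.comapOfInjective (Subgroup.subgroupOfEquivOfLe hRn).toMonoidHom
      (Subgroup.subgroupOfEquivOfLe hRn).injective (by
        intro y _; exact (Subgroup.subgroupOfEquivOfLe hRn).surjective y)
    have h1 := le_sylow_sup (X := R.subgroupOf L) (N := N.subgroupOf L)
      (fun y hy => ⟨1, by rw [pow_one]; exact hpow _ hy⟩) S' (show (⟨x, hRn hx⟩ : L) ∈ R.subgroupOf L from hx)
    have h2 : (((S' : Subgroup (R.subgroupOf L)).map (R.subgroupOf L).subtype) ⊔ N.subgroupOf L).map L.subtype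
        ≤ N ⊔ Q := by
      rw [Subgroup.map_sup]
      refine sup_le ?_ ((Subgroup.map_comap_le _ _).trans le_sup_left)
      rintro _ ⟨_, ⟨y, hy, rfl⟩, rfl⟩
      exact Subgroup.mem_sup_right ⟨_, hy, rfl⟩
    exact h2 ⟨_, h1, rfl⟩
  have hQN : ¬ Q ≤ N := fun h => hN4 (hcov.trans (sup_le le_rfl h))
  have hQp : IsPGroup q Q := S.isPGroup'.map _
  refine ⟨q, Q, N, hq, ?_, hQp, hQR, hS (Subgroup.mem_zpowers s), ?_, hN1, hN2, le_sup_left.trans hN3,
    hN3 (Subgroup.mem_sup_right (Subgroup.mem_zpowers s)), hab, hcov, hQN, fun D h1 h2 h3 h4 =>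
      hmax' D h1 h2 (sup_le h3 (Subgroup.zpowers_le.mpr h4))⟩
  · rintro rfl
    refine hQN fun x hx => hN1 ⟨hQR hx, ?_⟩
    obtain ⟨k, hk⟩ := hQp ⟨x, hx⟩
    exact hp0 x (hQR hx) k (by
      have h1 : x ^ q ^ k = 1 := congrArg Subtype.val hk
      rw [h1]; exact one_mem K)
  · intro g hg
    obtain ⟨k, hk⟩ := CfsgLib.Coprime.exists_conj_sylow S (hHR hg)
    have hmem : (k : X)⁻¹ * g ∈ Subgroup.normalizer (Q : Set X) :=
      CfsgLib.Coprime.mem_normalizer_of_forall_conj fun y hy => by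
        have h1 : g * y * g⁻¹ ∈ MulAut.conj g • Q := CfsgLib.Coprime.conj_smul_le.1 le_rfl y hy
        rw [hk, CfsgLib.Coprime.mem_conj_smul] at h1
        convert h1 using 1
        group
    have h2 : (k : X)⁻¹ * g ∈ H ⊓ Subgroup.normalizer (Q : Set X) := ⟨H.mul_mem (H.inv_mem (hRH k.2)) hg, hmem⟩
    rw [show g = (k : X) * ((k : X)⁻¹ * g) by group]
    exact Subgroup.mul_mem _ (Subgroup.mem_sup_left k.2) (Subgroup.mem_sup_right h2)

/-- The data passed to the next step down. -/
theorem exists_step {s : X} {r : ℕ} (hr : r.Prime) (hs : s ^ r = 1) {H K : Subgroup X} [Group.IsSolvable H]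
    (hcop : ¬ r ∣ Nat.card H) (hsH : s ∈ Subgroup.normalizer (H : Set X))
    (hHK : H ≤ Subgroup.normalizer (K : Set X)) (hsK : s ∈ Subgroup.normalizer (K : Set X)) {i : ℕ}
    (hne : ¬ resIter (i + 1) H ≤ K) {p0 : ℕ}
    (hp0 : ∀ x ∈ resIter (i + 1) H, ∀ k : ℕ, x ^ p0 ^ k ∈ K → x ∈ K) :
    ∃ (q : ℕ) (Q H' K' : Subgroup X), q.Prime ∧ q ≠ p0 ∧ IsPGroup q Q ∧ Q ≤ H ∧
      s ∈ Subgroup.normalizer (Q : Set X) ∧ H' ≤ H ∧ H' ≤ Subgroup.normalizer (Q : Set X) ∧
      s ∈ Subgroup.normalizer (H' : Set X) ∧ H' ≤ Subgroup.normalizer (K' : Set X) ∧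
      s ∈ Subgroup.normalizer (K' : Set X) ∧ ¬ resIter i H' ≤ K' ∧
      (∀ x ∈ resIter i H', ∀ k : ℕ, x ^ q ^ k ∈ K' → x ∈ K') ∧
      ∀ Y ≤ H', ¬ Y ≤ K' → ¬ ⁅Q, Y⁆ ≤ K := by
  classical
  set R := resIter (i + 1) H with hRdef
  have hHR : H ≤ Subgroup.normalizer (R : Set X) := le_normalizer_resIter _ Subgroup.le_normalizer
  have hsR : s ∈ Subgroup.normalizer (R : Set X) :=
    le_normalizer_resIter _ (K := Subgroup.normalizer (H : Set X)) le_rfl hsH
  have hRH : R ≤ H := resIter_le _ _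
  haveI : Group.IsSolvable R :=
    Group.isSolvable_of_isSolvable_injective (f := Subgroup.inclusion hRH) (Subgroup.inclusion_injective _)
  obtain ⟨q, Q, N, hq, hqp, hQp, hQR, hsQ, hfrat, hN1, hN2, hHN, hsN, hab, hcov, hQN, hmax⟩ :=
    exists_section hr hs (fun h => hcop (h.trans (Subgroup.card_dvd_of_le hRH))) hRH hHR hsR hHK hsK hne hp0
  haveI : Fact q.Prime := ⟨hq⟩
  set H' := H ⊓ Subgroup.normalizer (Q : Set X) with hH'def
  have hH'H : H' ≤ H := inf_le_left
  have hH'Q : H' ≤ Subgroup.normalizer (Q : Set X) := inf_le_right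
  have hsH' : Subgroup.zpowers s ≤ Subgroup.normalizer (H' : Set X) :=
    le_normalizer_inter (Subgroup.zpowers_le.mpr hsH) ((Subgroup.zpowers_le.mpr hsQ).trans Subgroup.le_normalizer)
  set M := Q ⊓ N with hMdef
  have hH'M : H' ≤ Subgroup.normalizer (M : Set X) := le_normalizer_inter hH'Q (hH'H.trans hHN)
  have hsM : Subgroup.zpowers s ≤ Subgroup.normalizer (M : Set X) :=
    le_normalizer_inter (Subgroup.zpowers_le.mpr hsQ) (Subgroup.zpowers_le.mpr hsN)
  set K' := H' ⊓ stabMod Q M with hK'def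
  have hH'K' : H' ≤ Subgroup.normalizer (K' : Set X) :=
    le_normalizer_inter Subgroup.le_normalizer (le_normalizer_stabMod hH'Q hH'M)
  have hsK' : Subgroup.zpowers s ≤ Subgroup.normalizer (K' : Set X) :=
    le_normalizer_inter hsH' (le_normalizer_stabMod (Subgroup.zpowers_le.mpr hsQ) hsM)
  have hQN' : Q ≤ Subgroup.normalizer (N : Set X) := (hQR.trans hRH).trans hHN
  have hH'RN : R ⊔ H' ≤ Subgroup.normalizer (N : Set X) := sup_le (hRH.trans hHN) (hH'H.trans hHN)
  have hRR : ∀ D : Subgroup X, N ≤ D → D ≤ R → R ≤ Subgroup.normalizer (D : Set X) := fun D h1 h2 g hg =>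
    CfsgLib.Coprime.mem_normalizer_of_forall_conj fun x hx => by
      rw [show g * x * g⁻¹ = ⁅g, x⁆ * x by simp only [commutatorElement_def]; group]
      exact D.mul_mem (h1 (hab (Subgroup.commutator_mem_commutator hg (h2 hx)))) hx
  -- elements of the residual of the top centralise the section
  have hKR : ∀ g ∈ H', g ∈ R → g ∈ K' := fun g hg hgR => ⟨hg, hH'Q hg, hH'M hg, fun x hx =>
    ⟨(CfsgLib.Coprime.commutator_le_of_normalizes hH'Q) (Subgroup.commutator_mem_commutator hx hg),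
      hab (Subgroup.commutator_mem_commutator (hQR hx) hgR)⟩⟩
  refine ⟨q, Q, H', K', hq, hqp, hQp, hQR.trans hRH, hsQ, hH'H, hH'Q, hsH' (Subgroup.mem_zpowers s), hH'K',
    hsK' (Subgroup.mem_zpowers s), ?_, ?_, ?_⟩
  · -- the next residual is seen
    intro hle
    have hH'R : H' ≤ Subgroup.normalizer (R : Set X) := hH'H.trans hHR
    have hX : resIter i H ≤ resIter i H' ⊔ R := resIter_sup_le hH'R (by rwa [sup_comm] at hfrat) i
    have hA : resIter i H' ⊔ R ≤ Subgroup.normalizer (N : Set X) :=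
      sup_le ((resIter_le _ _).trans (le_sup_right.trans hH'RN)) (le_sup_left.trans hH'RN)
    have hA2 : resIter i H' ⊔ R ≤ Subgroup.normalizer (R : Set X) :=
      sup_le ((resIter_le _ _).trans hH'R) Subgroup.le_normalizer
    refine hQN (hQR.trans ((res_le_commutator (resIter i H)).trans ((Subgroup.commutator_mono le_rfl hX).trans ?_)))
    rw [← resIter_succ, ← hRdef, commutator_le_iff_le_stabMod hA2 hA]
    refine sup_le (fun g hg => ⟨hA2 (Subgroup.mem_sup_left hg), hA (Subgroup.mem_sup_left hg), fun x hx => ?_⟩)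
      fun g hg => ⟨hA2 (Subgroup.mem_sup_right hg), hA (Subgroup.mem_sup_right hg),
        fun x hx => hab (Subgroup.commutator_mem_commutator hx hg)⟩
    have hx' := hcov hx
    rw [sup_comm] at hx'
    obtain ⟨a, ha, n, hn, rfl⟩ := CfsgLib.Coprime.exists_mul_of_mem_sup hQN' hx'
    have hgN : g ∈ Subgroup.normalizer (N : Set X) := hA (Subgroup.mem_sup_left hg)
    have h1 : ⁅a, g⁆ ∈ N := ((hle hg).2.2.2 a ha).2
    have h2 : ⁅n, g⁆ ∈ N := by
      rw [show ⁅n, g⁆ = n * (g * n⁻¹ * g⁻¹) by simp only [commutatorElement_def]; group]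
      exact N.mul_mem hn ((mem_normalizer_conj_iff hgN).mpr (N.inv_mem hn))
    rw [show ⁅a * n, g⁆ = (a * ⁅n, g⁆ * a⁻¹) * ⁅a, g⁆ by simp only [commutatorElement_def]; group]
    exact N.mul_mem ((mem_normalizer_conj_iff (hQN' ha)).mpr h2) h1
  · -- no elements of `q`-power order modulo the new kernel
    set R' := resIter i H' with hR'def
    have hR'H' : R' ≤ H' := resIter_le _ _
    have hres : res R' ≤ K' := fun g hg => hKR g (hR'H' (res_le R' hg)) (resIter_mono (i + 1) hH'H hg)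
    have hR'K' : R' ≤ Subgroup.normalizer (K' : Set X) := hR'H'.trans hH'K'
    haveI : (K'.subgroupOf R').Normal := Subgroup.normal_subgroupOf_of_le_normalizer hR'K'
    haveI : Group.IsNilpotent (R' ⧸ K'.subgroupOf R') := by
      rw [Subgroup.nilpotent_iff_lowerCentralSeries]
      obtain ⟨k, hk⟩ := exists_res_eq R'
      refine ⟨k, ?_⟩
      rw [← Subgroup.map_top_of_surjective _ (QuotientGroup.mk'_surjective (K'.subgroupOf R')),
        ← Subgroup.map_lowerCentralSeries, Subgroup.map_eq_bot_iff, QuotientGroup.ker_mk']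
      intro x hx
      rw [Subgroup.mem_subgroupOf]
      apply hres
      rw [hk k le_rfl]
      have h1 : ((⊤ : Subgroup R').lowerCentralSeries k).map R'.subtype = R'.lowerCentralSeries k := by
        rw [Subgroup.map_lowerCentralSeries, ← MonoidHom.range_eq_map, Subgroup.range_subtype]
      rw [← h1]
      exact ⟨x, hx, rfl⟩
    obtain ⟨Sq⟩ : Nonempty (Sylow q (R' ⧸ K'.subgroupOf R')) := inferInstance
    haveI hSn : (Sq : Subgroup (R' ⧸ K'.subgroupOf R')).Normal := inferInstance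
    set S' := ((Sq : Subgroup (R' ⧸ K'.subgroupOf R')).comap (QuotientGroup.mk' _)).map R'.subtype with hS'def
    have hS'mem : ∀ x, x ∈ S' ↔ x ∈ R' ∧ ∃ k : ℕ, x ^ q ^ k ∈ K' := by
      intro x
      constructor
      · rintro ⟨x, hx, rfl⟩
        obtain ⟨k, hk⟩ := Sq.isPGroup' ⟨_, hx⟩
        refine ⟨x.2, k, ?_⟩
        have h1 := congrArg Subtype.val hk
        simp only [Subgroup.coe_pow, QuotientGroup.mk'_apply, Subgroup.coe_one, ← QuotientGroup.mk_pow] at h1
        simpa [Subgroup.mem_subgroupOf] using (QuotientGroup.eq_one_iff _).mp h1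
      · rintro ⟨hx, k, hk⟩
        refine ⟨⟨x, hx⟩, ?_, rfl⟩
        set z := QuotientGroup.mk' (K'.subgroupOf R') ⟨x, hx⟩ with hzdef
        have hz1 : z ^ q ^ k = 1 := by
          rw [hzdef, QuotientGroup.mk'_apply, ← QuotientGroup.mk_pow,
            (QuotientGroup.eq_one_iff _).mpr (by simpa [Subgroup.mem_subgroupOf] using hk)]
        have hz : IsPGroup q (Subgroup.zpowers z) := by
          rintro ⟨y, hy⟩
          obtain ⟨j, rfl⟩ := Subgroup.mem_zpowers_iff.mp hy
          exact ⟨k, Subtype.ext (show (z ^ j) ^ q ^ k = 1 by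
            rw [← zpow_natCast, ← zpow_mul, mul_comm, zpow_mul, zpow_natCast, hz1, one_zpow])⟩
        obtain ⟨P', hP'⟩ := hz.exists_le_sylow
        haveI := Sylow.unique_of_normal Sq hSn
        rw [Subsingleton.elim P' Sq] at hP'
        exact hP' (Subgroup.mem_zpowers z)
    have hnormS : H' ⊔ Subgroup.zpowers s ≤ Subgroup.normalizer (S' : Set X) := fun g hg =>
      CfsgLib.Coprime.mem_normalizer_of_forall_conj fun x hx => by
        obtain ⟨hx1, k, hx2⟩ := (hS'mem x).mp hx
        have hgR : g ∈ Subgroup.normalizer (R' : Set X) :=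
          le_normalizer_resIter i (sup_le Subgroup.le_normalizer hsH') hg
        refine (hS'mem _).mpr ⟨(mem_normalizer_conj_iff hgR).mpr hx1, k, ?_⟩
        rw [conj_pow]
        exact (mem_normalizer_conj_iff ((sup_le hH'K' hsK') hg)).mpr hx2
    suffices hS' : S' ≤ K' from fun x hx k hk => hS' ((hS'mem x).mpr ⟨hx, k, hk⟩)
    have hS'H' : S' ≤ H' := (Subgroup.map_subtype_le _).trans hR'H'
    -- a Sylow subgroup
    obtain ⟨S⟩ : Nonempty (Sylow q S') := inferInstance
    set S0 := (S : Subgroup S').map S'.subtype with hS0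
    have hS0le : S0 ≤ S' := Subgroup.map_subtype_le _
    have hcovS : S' ≤ S0 ⊔ K' := by
      haveI : (K'.subgroupOf H').Normal := Subgroup.normal_subgroupOf_of_le_normalizer hH'K'
      intro x hx
      let S'' : Sylow q (S'.subgroupOf H') := S.comapOfInjective (Subgroup.subgroupOfEquivOfLe hS'H').toMonoidHom
        (Subgroup.subgroupOfEquivOfLe hS'H').injective (by
          intro y _; exact (Subgroup.subgroupOfEquivOfLe hS'H').surjective y)
      have h1 := le_sylow_sup (X := S'.subgroupOf H') (N := K'.subgroupOf H')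
        (fun y hy => by
          obtain ⟨-, k, hk⟩ := (hS'mem _).mp hy
          exact ⟨k, by simpa [Subgroup.mem_subgroupOf] using hk⟩) S''
        (show (⟨x, hS'H' hx⟩ : H') ∈ S'.subgroupOf H' from hx)
      have h2 : (((S'' : Subgroup (S'.subgroupOf H')).map (S'.subgroupOf H').subtype) ⊔ K'.subgroupOf H').map
          H'.subtype ≤ S0 ⊔ K' := by
        rw [Subgroup.map_sup]
        refine sup_le ?_ ((Subgroup.map_comap_le _ _).trans le_sup_right)
        rintro _ ⟨_, ⟨y, hy, rfl⟩, rfl⟩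
        exact Subgroup.mem_sup_left ⟨_, hy, rfl⟩
      exact h2 ⟨_, h1, rfl⟩
    set D := ⁅Q, S'⁆ ⊔ M with hDdef
    have hHsQ : H' ⊔ Subgroup.zpowers s ≤ Subgroup.normalizer (Q : Set X) := sup_le hH'Q (Subgroup.zpowers_le.mpr hsQ)
    have hDn : H' ⊔ Subgroup.zpowers s ≤ Subgroup.normalizer (D : Set X) :=
      le_normalizer_join (le_normalizer_commutator hHsQ hnormS) (sup_le hH'M hsM)
    have hDQ : D ≤ Q := sup_le (CfsgLib.Coprime.commutator_le_of_normalizes (hS'H'.trans hH'Q)) inf_le_left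
    have hDN : D ⊔ N ≤ R := sup_le (hDQ.trans hQR) hN2
    rcases hmax (D ⊔ N) le_sup_right hDN
      (hfrat.trans (sup_le (hRR _ le_sup_right hDN)
        (le_normalizer_join (le_sup_left.trans hDn) (hH'H.trans hHN))))
      (le_normalizer_join (le_sup_right.trans hDn) (Subgroup.zpowers_le.mpr hsN) (Subgroup.mem_zpowers s))
      with h | h
    · refine le_inf hS'H' ((commutator_le_iff_le_stabMod (hS'H'.trans hH'Q) (hS'H'.trans hH'M)).mp ?_)
      exact le_inf (CfsgLib.Coprime.commutator_le_of_normalizes (hS'H'.trans hH'Q))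
        ((le_sup_left.trans le_sup_left : ⁅Q, S'⁆ ≤ D ⊔ N).trans h)
    · exfalso
      have hQD : Q ≤ D := fun x hx => by
        obtain ⟨d, hd, n, hn, rfl⟩ := CfsgLib.Coprime.exists_mul_of_mem_sup
          (hDQ.trans hQN') (h (hQR hx))
        have hnQ : n ∈ Q := by
          have := Q.mul_mem (Q.inv_mem (hDQ hd)) hx
          rwa [inv_mul_cancel_left] at this
        exact D.mul_mem hd (Subgroup.mem_sup_right ⟨hnQ, hn⟩)
      have hS0Q : S0 ≤ Subgroup.normalizer (Q : Set X) := (hS0le.trans hS'H').trans hH'Q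
      have hU : IsPGroup q (S0 ⊔ Q : Subgroup X) :=
        IsPGroup.to_sup_of_normal_right' (S.isPGroup'.map _) hQp hS0Q
      have hUM : S0 ⊔ Q ≤ Subgroup.normalizer (M : Set X) :=
        sup_le ((hS0le.trans hS'H').trans hH'M) (le_normalizer_inter Subgroup.le_normalizer hQN')
      have hU' : Q ≤ ⁅Q, S0 ⊔ Q⁆ ⊔ M := by
        refine hQD.trans (sup_le (Subgroup.commutator_le.mpr fun x hx g hg => ?_) le_sup_right)
        obtain ⟨a, ha, b, hb, rfl⟩ := CfsgLib.Coprime.exists_mul_of_mem_sup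
          ((hS0le.trans hS'H').trans hH'K') (hcovS hg)
        rw [show ⁅x, a * b⁆ = ⁅x, a⁆ * (a * ⁅x, b⁆ * a⁻¹) by simp only [commutatorElement_def]; group]
        exact Subgroup.mul_mem _ (Subgroup.mem_sup_left (Subgroup.commutator_mem_commutator hx
          (Subgroup.mem_sup_left ha))) (Subgroup.mem_sup_right
            ((mem_normalizer_conj_iff (hUM (Subgroup.mem_sup_left ha))).mpr (hb.2.2.2 x hx)))
      exact hQN ((le_of_le_commutator_nilpotent hU.isNilpotent hUM le_sup_right hU').trans inf_le_right)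
  · intro Y hY hYK hle
    refine hYK (le_inf hY ((commutator_le_iff_le_stabMod (hY.trans hH'Q) (hY.trans hH'M)).mp ?_))
    intro x hx
    have hxQ := CfsgLib.Coprime.commutator_le_of_normalizes (hY.trans hH'Q) hx
    exact ⟨hxQ, hN1 ⟨hQR hxQ, hle hx⟩⟩

/-- **Towers exist.** -/
theorem exists_tower {s : X} {r : ℕ} (hr : r.Prime) (hs : s ^ r = 1) :
    ∀ (m : ℕ) (H K : Subgroup X), Group.IsSolvable H → ¬ r ∣ Nat.card H → s ∈ Subgroup.normalizer (H : Set X) →
      H ≤ Subgroup.normalizer (K : Set X) → s ∈ Subgroup.normalizer (K : Set X) → ¬ resIter m H ≤ K →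
      ∀ p0 : ℕ, (∀ x ∈ resIter m H, ∀ k : ℕ, x ^ p0 ^ k ∈ K → x ∈ K) →
      ∃ (p : ℕ → ℕ) (P : ℕ → Subgroup X), (∀ i, (p i).Prime) ∧ IsTower s H p P m ∧ p m ≠ p0 ∧
        ¬ chainE P m ≤ K := by
  classical
  intro m
  induction m with
  | zero =>
    intro H K hsolv hcop hsH hHK hsK hne p0 hp0
    haveI : Group.IsSolvable (resIter 0 H) := hsolv
    obtain ⟨q, Q, N, hq, hqp, hQp, hQR, hsQ, -, hN1, -, -, -, -, -, hQN, -⟩ :=
      exists_section hr hs (R := resIter 0 H) (H := H) hcop le_rfl Subgroup.le_normalizer hsH hHK hsK hne hp0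
    refine ⟨fun _ => q, fun _ => Q, fun _ => hq, ⟨fun _ _ => hQp, fun _ _ => hQR, fun _ _ => hsQ,
      fun i l hil hl => absurd hl (by omega), fun i hi => absurd hi (Nat.not_lt_zero i)⟩, hqp, fun h => hQN ?_⟩
    exact fun x hx => hN1 ⟨hQR hx, h hx⟩
  | succ m ih =>
    intro H K hsolv hcop hsH hHK hsK hne p0 hp0
    haveI := hsolv
    obtain ⟨q, Q, H', K', hq, hqp, hQp, hQH, hsQ, hH'H, hH'Q, hsH', hH'K', hsK', hne', hq', hseen⟩ :=
      exists_step hr hs hcop hsH hHK hsK hne hp0
    obtain ⟨p, P, hp, ht, hpm, hE⟩ := ih H' K'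
      (Group.isSolvable_of_isSolvable_injective (f := Subgroup.inclusion hH'H) (Subgroup.inclusion_injective _))
      (fun h => hcop (h.trans (Subgroup.card_dvd_of_le hH'H))) hsH' hH'K' hsK' hne' q hq'
    let P' : ℕ → Subgroup X := fun i => if i ≤ m then P i else Q
    let p' : ℕ → ℕ := fun i => if i ≤ m then p i else q
    have hP : ∀ i ≤ m, P' i = P i := fun i hi => if_pos hi
    have hp' : ∀ i ≤ m, p' i = p i := fun i hi => if_pos hi
    have hPQ : P' (m + 1) = Q := if_neg (by omega)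
    have hpq : p' (m + 1) = q := if_neg (by omega)
    refine ⟨p', P', fun i => ?_, ⟨fun i hi => ?_, fun i hi => ?_, fun i hi => ?_, fun i l hil hl => ?_,
      fun i hi => ?_⟩, hpq ▸ hqp, ?_⟩
    · simp only [p']
      split_ifs
      exacts [hp i, hq]
    · rcases Nat.lt_or_ge i (m + 1) with h | h
      · rw [hP i (by omega), hp' i (by omega)]; exact ht.pgroup i (by omega)
      · rw [show i = m + 1 by omega, hPQ, hpq]; exact hQp
    · rcases Nat.lt_or_ge i (m + 1) with h | h
      · rw [hP i (by omega)]; exact (ht.le i (by omega)).trans hH'H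
      · rw [show i = m + 1 by omega, hPQ]; exact hQH
    · rcases Nat.lt_or_ge i (m + 1) with h | h
      · rw [hP i (by omega)]; exact ht.inv i (by omega)
      · rw [show i = m + 1 by omega, hPQ]; exact hsQ
    · rw [hP i (by omega)]
      rcases Nat.lt_or_ge l (m + 1) with h | h
      · rw [hP l (by omega)]; exact ht.norm i l hil (by omega)
      · rw [show l = m + 1 by omega, hPQ]; exact (ht.le i (by omega)).trans hH'Q
    · rw [hp' i (by omega)]
      rcases Nat.lt_or_ge (i + 1) (m + 1) with h | h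
      · rw [hp' (i + 1) (by omega)]; exact ht.ne i (by omega)
      · rw [show i + 1 = m + 1 by omega, hpq, show i = m by omega]; exact hpm
    · rw [chainE, hPQ, chainE_congr (P := P') (P' := P) hP]
      exact hseen _ ((ht.chainE_le m le_rfl).trans (ht.le m le_rfl)) hE

end CfsgLib.Turull
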