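import Mathlib

/-!
# Weights of a subgroup acting through an abelian image

For the fixed-point theorem of Turull: eigenspaces, projections and spanning.
-/

set_option autoImplicit false

namespace CfsgLib.Turull

open Module (End)

variable {K W H : Type*} [Field K] [AddCommGroup W] [Module K W] [Group H]
  (ρ : H →* End K W)

/-- The vectors on which `N` acts through `χ`. -/
def eig (N : Subgroup H) (χ : N →* K) : Submodule K W where
  carrier := {w | ∀ n : N, ρ n w = χ n • w}
  add_mem' := fun {v w} hv hw n => by rw [map_add, hv n, hw n, smul_add]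
  zero_mem' := fun n => by rw [map_zero, smul_zero]
  smul_mem' := fun c w hw n => by rw [map_smul, hw n, smul_comm]

variable {ρ}

theorem mem_eig {N : Subgroup H} {χ : N →* K} {w : W} :
    w ∈ eig ρ N χ ↔ ∀ n : N, ρ n w = χ n • w := Iff.rfl

theorem rho_inv_apply (g : H) (w : W) : ρ g⁻¹ (ρ g w) = w := by
  rw [← Module.End.mul_apply, ← map_mul, inv_mul_cancel, map_one, Module.End.one_apply]

theorem rho_apply_inv (g : H) (w : W) : ρ g (ρ g⁻¹ w) = w := by
  rw [← Module.End.mul_apply, ← map_mul, mul_inv_cancel, map_one, Module.End.one_apply]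

theorem rho_mul_apply (g h : H) (w : W) : ρ (g * h) w = ρ g (ρ h w) := by
  rw [map_mul, Module.End.mul_apply]

theorem rho_eq_zero (g : H) {w : W} (h : ρ g w = 0) : w = 0 := by
  rw [← rho_inv_apply (ρ := ρ) g w, h, map_zero]

theorem char_ne_zero {N : Subgroup H} (χ : N →* K) (n : N) : χ n ≠ 0 :=
  fun h => one_ne_zero (α := K) (by rw [← map_one χ, ← mul_inv_cancel n, map_mul, h, zero_mul])

theorem char_inv {N : Subgroup H} (χ : N →* K) (n : N) : χ n⁻¹ = (χ n)⁻¹ :=
  eq_inv_of_mul_eq_one_left (by rw [← map_mul, inv_mul_cancel, map_one])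

/-- The character conjugated by `g`. -/
def conjChar {N : Subgroup H} [hN : N.Normal] (g : H) (χ : N →* K) : N →* K where
  toFun n := χ ⟨g⁻¹ * n * g, hN.conj_mem' _ n.2 g⟩
  map_one' := by rw [← map_one χ]; exact congrArg χ (Subtype.ext (by simp))
  map_mul' a b := by
    rw [← map_mul]
    exact congrArg χ (Subtype.ext (by simp [mul_assoc]))

variable {N : Subgroup H} [hN : N.Normal]

theorem conjChar_apply (g : H) (χ : N →* K) (n : N) :
    conjChar g χ n = χ ⟨g⁻¹ * n * g, hN.conj_mem' _ n.2 g⟩ := rfl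

theorem conjChar_one (χ : N →* K) : conjChar 1 χ = χ :=
  MonoidHom.ext fun n => congrArg χ (Subtype.ext (by simp))

theorem conjChar_mul (g h : H) (χ : N →* K) : conjChar (g * h) χ = conjChar g (conjChar h χ) :=
  MonoidHom.ext fun n => congrArg χ (Subtype.ext (by simp [mul_assoc]))

theorem conjChar_injective (g : H) : Function.Injective (conjChar (K := K) (N := N) g) :=
  fun a b h => by
    have := congrArg (conjChar g⁻¹) h
    rwa [← conjChar_mul, ← conjChar_mul, inv_mul_cancel, conjChar_one, conjChar_one] at this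

theorem apply_mem_eig (g : H) {χ : N →* K} {w : W} (hw : w ∈ eig ρ N χ) :
    ρ g w ∈ eig ρ N (conjChar g χ) := fun n => by
  rw [← rho_mul_apply, show (n : H) * g = g * (g⁻¹ * n * g) by group, rho_mul_apply,
    hw ⟨g⁻¹ * n * g, hN.conj_mem' _ n.2 g⟩, map_smul]
  rfl

omit hN in
theorem char_eq_of_mem {χ ψ : N →* K} {w : W} (hw : w ∈ eig ρ N χ) (hw' : w ∈ eig ρ N ψ)
    (h0 : w ≠ 0) : χ = ψ :=
  MonoidHom.ext fun n => smul_left_injective K h0 ((hw n).symm.trans (hw' n))

variable [Finite H]

/-- The projection onto an eigenspace. -/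
noncomputable def proj (ρ : H →* End K W) (N : Subgroup H) (χ : N →* K) : End K W :=
  letI := Fintype.ofFinite N
  (Nat.card N : K)⁻¹ • ∑ n : N, χ n⁻¹ • ρ n

omit hN in
theorem proj_apply [Fintype N] (χ : N →* K) (w : W) :
    proj ρ N χ w = (Nat.card N : K)⁻¹ • ∑ n : N, χ n⁻¹ • ρ n w := by
  unfold proj
  rw [LinearMap.smul_apply, LinearMap.sum_apply]
  congr 1
  refine Finset.sum_congr (by congr 1; exact Subsingleton.elim _ _) fun n _ => LinearMap.smul_apply _ _ _

omit hN in
theorem proj_mem_eig (χ : N →* K) (w : W) : proj ρ N χ w ∈ eig ρ N χ := fun m => by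
  letI := Fintype.ofFinite N
  rw [proj_apply, map_smul, smul_comm (χ m)]
  congr 1
  rw [map_sum, Finset.smul_sum]
  refine Fintype.sum_equiv (Equiv.mulLeft m) _ _ fun n => ?_
  rw [Equiv.coe_mulLeft, map_smul, smul_smul, mul_inv_rev, map_mul, mul_comm (χ n⁻¹) _, ← mul_assoc,
    ← map_mul, mul_inv_cancel, map_one, one_mul, Subgroup.coe_mul, rho_mul_apply]

omit hN in
theorem proj_eq_self (hcard : (Nat.card N : K) ≠ 0) {χ : N →* K} {w : W} (hw : w ∈ eig ρ N χ) :
    proj ρ N χ w = w := by
  letI := Fintype.ofFinite N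
  rw [proj_apply]
  have h : ∀ n : N, χ n⁻¹ • ρ n w = w := fun n => by
    rw [hw n, smul_smul, ← map_mul, inv_mul_cancel, map_one, one_smul]
  rw [Finset.sum_congr rfl fun n _ => h n, Finset.sum_const, Finset.card_univ, ← Nat.card_eq_fintype_card,
    ← Nat.cast_smul_eq_nsmul K, smul_smul, inv_mul_cancel₀ hcard, one_smul]

omit hN in
theorem proj_eq_zero {χ ψ : N →* K} (hne : χ ≠ ψ) {w : W} (hw : w ∈ eig ρ N ψ) : proj ρ N χ w = 0 := by
  letI := Fintype.ofFinite N
  rw [proj_apply]
  have h : ∀ n : N, χ n⁻¹ • ρ n w = (χ n⁻¹ * ψ n) • w := fun n => by rw [hw n, smul_smul]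
  rw [Finset.sum_congr rfl fun n _ => h n, ← Finset.sum_smul]
  let f : N →* K :=
    { toFun := fun n => χ n⁻¹ * ψ n
      map_one' := by simp
      map_mul' := fun a b => by rw [mul_inv_rev, map_mul, map_mul]; ring }
  have hf : f ≠ 1 := fun e => hne (MonoidHom.ext fun n => by
    have h1 : χ n⁻¹ * ψ n = 1 := DFunLike.congr_fun e n
    rw [char_inv, inv_mul_eq_one₀ (char_ne_zero χ n)] at h1
    exact h1)
  have h0 : ∑ n : N, (χ n⁻¹ * ψ n) = 0 := sum_hom_units_eq_zero f hf
  rw [h0, zero_smul, smul_zero]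

theorem rho_proj (g : H) (χ : N →* K) (w : W) :
    ρ g (proj ρ N χ w) = proj ρ N (conjChar g χ) (ρ g w) := by
  letI := Fintype.ofFinite N
  rw [proj_apply, proj_apply, map_smul, map_sum]
  congr 1
  let e : N ≃ N :=
    { toFun := fun n => ⟨g * n * g⁻¹, hN.conj_mem _ n.2 g⟩
      invFun := fun n => ⟨g⁻¹ * n * g, hN.conj_mem' _ n.2 g⟩
      left_inv := fun n => Subtype.ext (by simp [mul_assoc])
      right_inv := fun n => Subtype.ext (by simp [mul_assoc]) }
  refine Fintype.sum_equiv e _ _ fun n => ?_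
  rw [map_smul, conjChar_apply]
  show _ = χ _ • ρ (g * n * g⁻¹) (ρ g w)
  rw [← rho_mul_apply (g * n * g⁻¹), inv_mul_cancel_right, rho_mul_apply]
  congr 1
  exact congrArg χ (Subtype.ext (by simp [e, mul_assoc]))

omit [Finite H] in
/-- An eigenvector of an operator of finite order prime to the characteristic is not in the image
of the eigen-operator. -/
theorem eigen_range_disjoint {T : End K W} {m : ℕ} (hm : (m : K) ≠ 0) (hT : T ^ m = 1) (c : K) {x : W}
    (h : T (T x - c • x) = c • (T x - c • x)) : T x - c • x = 0 := by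
  set y := T x - c • x with hy
  by_contra hne
  have hx : T x = c • x + y := by rw [hy]; abel
  have hy' : ∀ k, (T ^ k) y = c ^ k • y := by
    intro k
    induction k with
    | zero => simp
    | succ k ih => rw [pow_succ', Module.End.mul_apply, ih, map_smul, h, smul_smul, ← pow_succ]
  have hpow : ∀ k : ℕ, (T ^ (k + 1)) x = c ^ (k + 1) • x + ((k + 1 : ℕ) * c ^ k) • y := by
    intro k
    induction k with
    | zero => simp [hx]
    | succ k ih =>
      rw [pow_succ', Module.End.mul_apply, ih, map_add, map_smul, map_smul, hx, h, smul_add, smul_smul,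
        smul_smul, ← pow_succ, add_assoc, ← add_smul]
      congr 2
      push_cast
      ring
  have hcm : c ^ m = 1 := by
    refine smul_left_injective K hne ?_
    show c ^ m • y = (1 : K) • y
    rw [← hy' m, hT, one_smul, Module.End.one_apply]
  obtain ⟨k, rfl⟩ : ∃ k, m = k + 1 :=
    ⟨m - 1, (Nat.succ_pred_eq_of_pos (Nat.pos_of_ne_zero fun e => hm (by rw [e, Nat.cast_zero]))).symm⟩
  have h1 := hpow k
  rw [hT, Module.End.one_apply, hcm, one_smul, left_eq_add, smul_eq_zero] at h1
  rcases h1.resolve_right hne |> mul_eq_zero.mp with h2 | h2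
  · exact hm h2
  · have hc0 : c = 0 := eq_zero_of_pow_eq_zero h2
    rw [hc0, zero_pow (Nat.succ_ne_zero k)] at hcm
    exact zero_ne_one hcm

omit hN in
/-- A subgroup with abelian image of order prime to the characteristic has enough eigenvectors. -/
theorem iSup_eig [IsAlgClosed K] [FiniteDimensional K W] (N : Subgroup H)
    (hcard : (Nat.card N : K) ≠ 0) (hcomm : ∀ a ∈ N, ∀ b ∈ N, ρ a * ρ b = ρ b * ρ a) :
    (⨆ χ : N →* K, eig ρ N χ) = ⊤ := by
  suffices key : ∀ V : Submodule K W, (∀ n ∈ N, ∀ w ∈ V, ρ n w ∈ V) → V ≤ ⨆ χ : N →* K, eig ρ N χ from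
    top_le_iff.mp (key ⊤ fun _ _ _ _ => Submodule.mem_top)
  intro V
  induction hd : Module.finrank K V using Nat.strongRecOn generalizing V with
  | _ d ih =>
    intro hV
    by_cases hsc : ∀ n ∈ N, ∃ c : K, ∀ w ∈ V, ρ n w = c • w
    · intro w hw
      rcases eq_or_ne w 0 with rfl | hw0
      · exact zero_mem _
      choose! c hc using hsc
      let χ : N →* K :=
        { toFun := fun n => c n
          map_one' := smul_left_injective K hw0 (by
            show c (1 : H) • w = (1 : K) • w
            rw [← hc 1 N.one_mem w hw, map_one, Module.End.one_apply, one_smul])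
          map_mul' := fun a b => smul_left_injective K hw0 (by
            show c ((a : H) * b) • w = (c a * c b) • w
            rw [← hc _ (N.mul_mem a.2 b.2) w hw, rho_mul_apply, hc _ b.2 w hw, map_smul, hc _ a.2 w hw,
              smul_smul, mul_comm]) }
      exact Submodule.mem_iSup_of_mem χ fun n => hc _ n.2 w hw
    · push Not at hsc
      obtain ⟨a, ha, hna⟩ := hsc
      have hV0 : V ≠ ⊥ := fun e => by
        obtain ⟨w, hw, hw'⟩ := hna 0
        rw [e, Submodule.mem_bot] at hw
        exact hw' (by rw [hw, map_zero, smul_zero])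
      haveI : Nontrivial V := Submodule.nontrivial_iff_ne_bot.2 hV0
      obtain ⟨c, hc⟩ := Module.End.exists_eigenvalue ((ρ a).restrict (hV a ha))
      obtain ⟨v, hv, hv0⟩ := hc.exists_hasEigenvector
      rw [Module.End.mem_eigenspace_iff] at hv
      let T : End K V := (ρ a).restrict (hV a ha) - c • 1
      have hTapp : ∀ x : V, ((T x : V) : W) = ρ a x - c • (x : W) := fun x => rfl
      have hinv : ∀ (U : Submodule K V), (∀ n (hn : n ∈ N), ∀ x ∈ U, (ρ n).restrict (hV n hn) x ∈ U) →
          ∀ n ∈ N, ∀ w ∈ U.map V.subtype, ρ n w ∈ U.map V.subtype := by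
        rintro U hU n hn _ ⟨x, hx, rfl⟩
        exact ⟨_, hU n hn x hx, rfl⟩
      have hTcomm : ∀ n (hn : n ∈ N) (x : V), T ((ρ n).restrict (hV n hn) x) = (ρ n).restrict (hV n hn) (T x) :=
        fun n hn x => Subtype.ext (by
          rw [hTapp]
          show ρ a (ρ n x) - c • ρ n x = ρ n ((T x : V) : W)
          rw [hTapp, map_sub, map_smul, ← Module.End.mul_apply, hcomm a ha n hn, Module.End.mul_apply])
      have hdisj : Disjoint (LinearMap.ker T) (LinearMap.range T) := by
        rw [Submodule.disjoint_def]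
        rintro y hy ⟨x, rfl⟩
        refine Subtype.ext ?_
        rw [hTapp]
        have h0 := congrArg Subtype.val (LinearMap.mem_ker.mp hy)
        rw [hTapp, hTapp, ZeroMemClass.coe_zero, sub_eq_zero] at h0
        refine eigen_range_disjoint (T := ρ a) (m := Nat.card N) hcard ?_ c h0
        rw [← map_pow, show a ^ Nat.card N = 1 by
          exact congrArg Subtype.val (pow_card_eq_one' (x := (⟨a, ha⟩ : N))), map_one]
      have hker : LinearMap.ker T ≠ ⊥ := fun e => hv0 (by
        have : v ∈ LinearMap.ker T := by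
          rw [LinearMap.mem_ker]
          show (ρ a).restrict (hV a ha) v - c • v = 0
          rw [hv, sub_self]
        rwa [e, Submodule.mem_bot] at this)
      have hran : LinearMap.range T ≠ ⊥ := fun e => by
        obtain ⟨w, hw, hw'⟩ := hna c
        refine hw' (sub_eq_zero.mp ?_)
        have : T ⟨w, hw⟩ = 0 := by
          rw [← Submodule.mem_bot K, ← e]; exact LinearMap.mem_range_self T _
        exact congrArg Subtype.val this
      have hsum := T.finrank_range_add_finrank_ker
      have hp1 : 0 < Module.finrank K (LinearMap.ker T) :=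
        Nat.pos_of_ne_zero fun e => hker (Submodule.finrank_eq_zero.mp e)
      have hp2 : 0 < Module.finrank K (LinearMap.range T) :=
        Nat.pos_of_ne_zero fun e => hran (Submodule.finrank_eq_zero.mp e)
      have htop : LinearMap.ker T ⊔ LinearMap.range T = ⊤ :=
        Submodule.eq_top_of_disjoint _ _ (by omega) hdisj
      have hlt : ∀ U : Submodule K V, Module.finrank K U < Module.finrank K V →
          (∀ n (hn : n ∈ N), ∀ x ∈ U, (ρ n).restrict (hV n hn) x ∈ U) →
          U.map V.subtype ≤ ⨆ χ : N →* K, eig ρ N χ := fun U hlt hU =>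
        ih (Module.finrank K (U.map V.subtype))
          (by rw [Submodule.finrank_map_subtype_eq]; exact hd ▸ hlt) _ rfl (hinv U hU)
      intro w hw
      obtain ⟨x, hx, y, hy, hxy⟩ := Submodule.mem_sup.mp (htop.ge (Submodule.mem_top : (⟨w, hw⟩ : V) ∈ ⊤))
      have hw2 : (x : W) + (y : W) = w := congrArg Subtype.val hxy
      rw [← hw2]
      refine add_mem (hlt _ (by omega) (fun n hn z hz => ?_) ⟨x, hx, rfl⟩)
        (hlt _ (by omega) (fun n hn z hz => ?_) ⟨y, hy, rfl⟩)
      · rw [LinearMap.mem_ker] at hz ⊢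
        rw [hTcomm n hn, hz, map_zero]
      · obtain ⟨u, rfl⟩ := hz
        exact ⟨_, hTcomm n hn u⟩

omit hN in
/-- A vector without components is zero. -/
theorem eq_zero_of_forall_proj [IsAlgClosed K] [FiniteDimensional K W] (N : Subgroup H)
    (hcard : (Nat.card N : K) ≠ 0) (hcomm : ∀ a ∈ N, ∀ b ∈ N, ρ a * ρ b = ρ b * ρ a) {w : W}
    (h : ∀ χ : N →* K, proj ρ N χ w = 0) : w = 0 := by
  classical
  have hw : w ∈ ⨆ χ : N →* K, eig ρ N χ := iSup_eig N hcard hcomm ▸ Submodule.mem_top
  obtain ⟨f, hf, rfl⟩ := (Submodule.mem_iSup_iff_exists_finsupp _ w).mp hw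
  refine Finset.sum_eq_zero fun χ _ => ?_
  have h1 := h χ
  rw [Finsupp.sum, map_sum, Finset.sum_eq_single χ
    (fun ψ _ hne => proj_eq_zero (Ne.symm hne) (hf ψ))
    (fun hχ => by rw [Finsupp.notMem_support_iff.mp hχ, map_zero]), proj_eq_self hcard (hf χ)] at h1
  exact h1

omit hN in
/-- An endomorphism killing every eigenspace is zero. -/
theorem eq_zero_of_forall_eig [IsAlgClosed K] [FiniteDimensional K W] (N : Subgroup H)
    (hcard : (Nat.card N : K) ≠ 0) (hcomm : ∀ a ∈ N, ∀ b ∈ N, ρ a * ρ b = ρ b * ρ a)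
    {V : Type*} [AddCommGroup V] [Module K V] {f : W →ₗ[K] V}
    (h : ∀ χ : N →* K, ∀ w ∈ eig ρ N χ, f w = 0) : f = 0 := by
  have hle : (⨆ χ : N →* K, eig ρ N χ) ≤ LinearMap.ker f := iSup_le fun χ w hw => h χ w hw
  rw [iSup_eig N hcard hcomm, top_le_iff, LinearMap.ker_eq_top] at hle
  exact hle

end CfsgLib.Turull
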